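import Cfsg.Agent.Lib.Helper4.F24M.U2.Cert
set_option autoImplicit false
set_option maxRecDepth 1000000
set_option Elab.async false
namespace Cfsg.Agent.Lib.Helper4.F24M.U2
open Cfsg.Agent.Lib.Helper4.Sparse
theorem ck_120 : chkURange D C 491520 4096 = true := by decide +kernel
theorem ck_121 : chkURange D C 495616 4096 = true := by decide +kernel
theorem ck_122 : chkURange D C 499712 4096 = true := by decide +kernel
theorem ck_123 : chkURange D C 503808 4096 = true := by decide +kernel
theorem ck_124 : chkURange D C 507904 4096 = true := by decide +kernel
theorem ck_125 : chkURange D C 512000 4096 = true := by decide +kernel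
theorem ck_126 : chkURange D C 516096 4096 = true := by decide +kernel
theorem ck_127 : chkURange D C 520192 4096 = true := by decide +kernel
theorem ck_128 : chkURange D C 524288 4096 = true := by decide +kernel
theorem ck_129 : chkURange D C 528384 4096 = true := by decide +kernel
theorem ck_130 : chkURange D C 532480 4096 = true := by decide +kernel
theorem ck_131 : chkURange D C 536576 4096 = true := by decide +kernel
theorem chkU_10 (b : ℕ) (h1 : 491520 ≤ b) (h2 : b < 540672) : chkU D C b = true := by
  rcases Nat.lt_or_ge b 495616 with g0 | g0
  · exact chkURange_spec D C 491520 4096 ck_120 b (by omega) (by omega)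
  rcases Nat.lt_or_ge b 499712 with g1 | g1
  · exact chkURange_spec D C 495616 4096 ck_121 b (by omega) (by omega)
  rcases Nat.lt_or_ge b 503808 with g2 | g2
  · exact chkURange_spec D C 499712 4096 ck_122 b (by omega) (by omega)
  rcases Nat.lt_or_ge b 507904 with g3 | g3
  · exact chkURange_spec D C 503808 4096 ck_123 b (by omega) (by omega)
  rcases Nat.lt_or_ge b 512000 with g4 | g4
  · exact chkURange_spec D C 507904 4096 ck_124 b (by omega) (by omega)
  rcases Nat.lt_or_ge b 516096 with g5 | g5
  · exact chkURange_spec D C 512000 4096 ck_125 b (by omega) (by omega)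
  rcases Nat.lt_or_ge b 520192 with g6 | g6
  · exact chkURange_spec D C 516096 4096 ck_126 b (by omega) (by omega)
  rcases Nat.lt_or_ge b 524288 with g7 | g7
  · exact chkURange_spec D C 520192 4096 ck_127 b (by omega) (by omega)
  rcases Nat.lt_or_ge b 528384 with g8 | g8
  · exact chkURange_spec D C 524288 4096 ck_128 b (by omega) (by omega)
  rcases Nat.lt_or_ge b 532480 with g9 | g9
  · exact chkURange_spec D C 528384 4096 ck_129 b (by omega) (by omega)
  rcases Nat.lt_or_ge b 536576 with g10 | g10
  · exact chkURange_spec D C 532480 4096 ck_130 b (by omega) (by omega)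
  exact chkURange_spec D C 536576 4096 ck_131 b (by omega) (by omega)
end Cfsg.Agent.Lib.Helper4.F24M.U2
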