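import Cfsg.Agent.Lib.Helper4.F24M.U2.Cert
set_option autoImplicit false
set_option maxRecDepth 1000000
set_option Elab.async false
namespace Cfsg.Agent.Lib.Helper4.F24M.U2
open Cfsg.Agent.Lib.Helper4.Sparse
theorem ck_156 : chkURange D C 638976 4096 = true := by decide +kernel
theorem ck_157 : chkURange D C 643072 4096 = true := by decide +kernel
theorem ck_158 : chkURange D C 647168 4096 = true := by decide +kernel
theorem ck_159 : chkURange D C 651264 4096 = true := by decide +kernel
theorem ck_160 : chkURange D C 655360 4096 = true := by decide +kernel
theorem ck_161 : chkURange D C 659456 4096 = true := by decide +kernel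
theorem ck_162 : chkURange D C 663552 4096 = true := by decide +kernel
theorem ck_163 : chkURange D C 667648 4096 = true := by decide +kernel
theorem ck_164 : chkURange D C 671744 4096 = true := by decide +kernel
theorem ck_165 : chkURange D C 675840 4096 = true := by decide +kernel
theorem ck_166 : chkURange D C 679936 4096 = true := by decide +kernel
theorem ck_167 : chkURange D C 684032 4096 = true := by decide +kernel
theorem chkU_13 (b : ℕ) (h1 : 638976 ≤ b) (h2 : b < 688128) : chkU D C b = true := by
  rcases Nat.lt_or_ge b 643072 with g0 | g0
  · exact chkURange_spec D C 638976 4096 ck_156 b (by omega) (by omega)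
  rcases Nat.lt_or_ge b 647168 with g1 | g1
  · exact chkURange_spec D C 643072 4096 ck_157 b (by omega) (by omega)
  rcases Nat.lt_or_ge b 651264 with g2 | g2
  · exact chkURange_spec D C 647168 4096 ck_158 b (by omega) (by omega)
  rcases Nat.lt_or_ge b 655360 with g3 | g3
  · exact chkURange_spec D C 651264 4096 ck_159 b (by omega) (by omega)
  rcases Nat.lt_or_ge b 659456 with g4 | g4
  · exact chkURange_spec D C 655360 4096 ck_160 b (by omega) (by omega)
  rcases Nat.lt_or_ge b 663552 with g5 | g5
  · exact chkURange_spec D C 659456 4096 ck_161 b (by omega) (by omega)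
  rcases Nat.lt_or_ge b 667648 with g6 | g6
  · exact chkURange_spec D C 663552 4096 ck_162 b (by omega) (by omega)
  rcases Nat.lt_or_ge b 671744 with g7 | g7
  · exact chkURange_spec D C 667648 4096 ck_163 b (by omega) (by omega)
  rcases Nat.lt_or_ge b 675840 with g8 | g8
  · exact chkURange_spec D C 671744 4096 ck_164 b (by omega) (by omega)
  rcases Nat.lt_or_ge b 679936 with g9 | g9
  · exact chkURange_spec D C 675840 4096 ck_165 b (by omega) (by omega)
  rcases Nat.lt_or_ge b 684032 with g10 | g10
  · exact chkURange_spec D C 679936 4096 ck_166 b (by omega) (by omega)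
  exact chkURange_spec D C 684032 4096 ck_167 b (by omega) (by omega)
end Cfsg.Agent.Lib.Helper4.F24M.U2
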