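import Cfsg.Agent.Lib.Helper4.F24M.U2.Cert
set_option autoImplicit false
set_option maxRecDepth 1000000
set_option Elab.async false
namespace Cfsg.Agent.Lib.Helper4.F24M.U2
open Cfsg.Agent.Lib.Helper4.Sparse
theorem ck_168 : chkURange D C 688128 4096 = true := by decide +kernel
theorem ck_169 : chkURange D C 692224 4096 = true := by decide +kernel
theorem ck_170 : chkURange D C 696320 4096 = true := by decide +kernel
theorem ck_171 : chkURange D C 700416 4096 = true := by decide +kernel
theorem ck_172 : chkURange D C 704512 4096 = true := by decide +kernel
theorem ck_173 : chkURange D C 708608 4096 = true := by decide +kernel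
theorem ck_174 : chkURange D C 712704 4096 = true := by decide +kernel
theorem ck_175 : chkURange D C 716800 4096 = true := by decide +kernel
theorem ck_176 : chkURange D C 720896 4096 = true := by decide +kernel
theorem ck_177 : chkURange D C 724992 4096 = true := by decide +kernel
theorem ck_178 : chkURange D C 729088 4096 = true := by decide +kernel
theorem ck_179 : chkURange D C 733184 4096 = true := by decide +kernel
theorem chkU_14 (b : ℕ) (h1 : 688128 ≤ b) (h2 : b < 737280) : chkU D C b = true := by
  rcases Nat.lt_or_ge b 692224 with g0 | g0
  · exact chkURange_spec D C 688128 4096 ck_168 b (by omega) (by omega)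
  rcases Nat.lt_or_ge b 696320 with g1 | g1
  · exact chkURange_spec D C 692224 4096 ck_169 b (by omega) (by omega)
  rcases Nat.lt_or_ge b 700416 with g2 | g2
  · exact chkURange_spec D C 696320 4096 ck_170 b (by omega) (by omega)
  rcases Nat.lt_or_ge b 704512 with g3 | g3
  · exact chkURange_spec D C 700416 4096 ck_171 b (by omega) (by omega)
  rcases Nat.lt_or_ge b 708608 with g4 | g4
  · exact chkURange_spec D C 704512 4096 ck_172 b (by omega) (by omega)
  rcases Nat.lt_or_ge b 712704 with g5 | g5
  · exact chkURange_spec D C 708608 4096 ck_173 b (by omega) (by omega)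
  rcases Nat.lt_or_ge b 716800 with g6 | g6
  · exact chkURange_spec D C 712704 4096 ck_174 b (by omega) (by omega)
  rcases Nat.lt_or_ge b 720896 with g7 | g7
  · exact chkURange_spec D C 716800 4096 ck_175 b (by omega) (by omega)
  rcases Nat.lt_or_ge b 724992 with g8 | g8
  · exact chkURange_spec D C 720896 4096 ck_176 b (by omega) (by omega)
  rcases Nat.lt_or_ge b 729088 with g9 | g9
  · exact chkURange_spec D C 724992 4096 ck_177 b (by omega) (by omega)
  rcases Nat.lt_or_ge b 733184 with g10 | g10
  · exact chkURange_spec D C 729088 4096 ck_178 b (by omega) (by omega)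
  exact chkURange_spec D C 733184 4096 ck_179 b (by omega) (by omega)
end Cfsg.Agent.Lib.Helper4.F24M.U2
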