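import Cfsg.Agent.Lib.Helper4.F24M.U2.Cert
set_option autoImplicit false
set_option maxRecDepth 1000000
set_option Elab.async false
namespace Cfsg.Agent.Lib.Helper4.F24M.U2
open Cfsg.Agent.Lib.Helper4.Sparse
theorem ck_204 : chkURange D C 835584 4096 = true := by decide +kernel
theorem ck_205 : chkURange D C 839680 4096 = true := by decide +kernel
theorem ck_206 : chkURange D C 843776 4096 = true := by decide +kernel
theorem ck_207 : chkURange D C 847872 4096 = true := by decide +kernel
theorem ck_208 : chkURange D C 851968 4096 = true := by decide +kernel
theorem ck_209 : chkURange D C 856064 4096 = true := by decide +kernel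
theorem ck_210 : chkURange D C 860160 4096 = true := by decide +kernel
theorem ck_211 : chkURange D C 864256 4096 = true := by decide +kernel
theorem ck_212 : chkURange D C 868352 4096 = true := by decide +kernel
theorem ck_213 : chkURange D C 872448 4096 = true := by decide +kernel
theorem ck_214 : chkURange D C 876544 4096 = true := by decide +kernel
theorem ck_215 : chkURange D C 880640 4096 = true := by decide +kernel
theorem chkU_17 (b : ℕ) (h1 : 835584 ≤ b) (h2 : b < 884736) : chkU D C b = true := by
  rcases Nat.lt_or_ge b 839680 with g0 | g0
  · exact chkURange_spec D C 835584 4096 ck_204 b (by omega) (by omega)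
  rcases Nat.lt_or_ge b 843776 with g1 | g1
  · exact chkURange_spec D C 839680 4096 ck_205 b (by omega) (by omega)
  rcases Nat.lt_or_ge b 847872 with g2 | g2
  · exact chkURange_spec D C 843776 4096 ck_206 b (by omega) (by omega)
  rcases Nat.lt_or_ge b 851968 with g3 | g3
  · exact chkURange_spec D C 847872 4096 ck_207 b (by omega) (by omega)
  rcases Nat.lt_or_ge b 856064 with g4 | g4
  · exact chkURange_spec D C 851968 4096 ck_208 b (by omega) (by omega)
  rcases Nat.lt_or_ge b 860160 with g5 | g5
  · exact chkURange_spec D C 856064 4096 ck_209 b (by omega) (by omega)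
  rcases Nat.lt_or_ge b 864256 with g6 | g6
  · exact chkURange_spec D C 860160 4096 ck_210 b (by omega) (by omega)
  rcases Nat.lt_or_ge b 868352 with g7 | g7
  · exact chkURange_spec D C 864256 4096 ck_211 b (by omega) (by omega)
  rcases Nat.lt_or_ge b 872448 with g8 | g8
  · exact chkURange_spec D C 868352 4096 ck_212 b (by omega) (by omega)
  rcases Nat.lt_or_ge b 876544 with g9 | g9
  · exact chkURange_spec D C 872448 4096 ck_213 b (by omega) (by omega)
  rcases Nat.lt_or_ge b 880640 with g10 | g10
  · exact chkURange_spec D C 876544 4096 ck_214 b (by omega) (by omega)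
  exact chkURange_spec D C 880640 4096 ck_215 b (by omega) (by omega)
end Cfsg.Agent.Lib.Helper4.F24M.U2
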