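import Cfsg.Agent.Lib.Helper4.F24M.U2.Cert
set_option autoImplicit false
set_option maxRecDepth 1000000
set_option Elab.async false
namespace Cfsg.Agent.Lib.Helper4.F24M.U2
open Cfsg.Agent.Lib.Helper4.Sparse
theorem ck_216 : chkURange D C 884736 4096 = true := by decide +kernel
theorem ck_217 : chkURange D C 888832 4096 = true := by decide +kernel
theorem ck_218 : chkURange D C 892928 4096 = true := by decide +kernel
theorem ck_219 : chkURange D C 897024 4096 = true := by decide +kernel
theorem ck_220 : chkURange D C 901120 4096 = true := by decide +kernel
theorem ck_221 : chkURange D C 905216 4096 = true := by decide +kernel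
theorem ck_222 : chkURange D C 909312 4096 = true := by decide +kernel
theorem ck_223 : chkURange D C 913408 4096 = true := by decide +kernel
theorem ck_224 : chkURange D C 917504 4096 = true := by decide +kernel
theorem ck_225 : chkURange D C 921600 4096 = true := by decide +kernel
theorem ck_226 : chkURange D C 925696 4096 = true := by decide +kernel
theorem ck_227 : chkURange D C 929792 4096 = true := by decide +kernel
theorem chkU_18 (b : ℕ) (h1 : 884736 ≤ b) (h2 : b < 933888) : chkU D C b = true := by
  rcases Nat.lt_or_ge b 888832 with g0 | g0
  · exact chkURange_spec D C 884736 4096 ck_216 b (by omega) (by omega)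
  rcases Nat.lt_or_ge b 892928 with g1 | g1
  · exact chkURange_spec D C 888832 4096 ck_217 b (by omega) (by omega)
  rcases Nat.lt_or_ge b 897024 with g2 | g2
  · exact chkURange_spec D C 892928 4096 ck_218 b (by omega) (by omega)
  rcases Nat.lt_or_ge b 901120 with g3 | g3
  · exact chkURange_spec D C 897024 4096 ck_219 b (by omega) (by omega)
  rcases Nat.lt_or_ge b 905216 with g4 | g4
  · exact chkURange_spec D C 901120 4096 ck_220 b (by omega) (by omega)
  rcases Nat.lt_or_ge b 909312 with g5 | g5
  · exact chkURange_spec D C 905216 4096 ck_221 b (by omega) (by omega)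
  rcases Nat.lt_or_ge b 913408 with g6 | g6
  · exact chkURange_spec D C 909312 4096 ck_222 b (by omega) (by omega)
  rcases Nat.lt_or_ge b 917504 with g7 | g7
  · exact chkURange_spec D C 913408 4096 ck_223 b (by omega) (by omega)
  rcases Nat.lt_or_ge b 921600 with g8 | g8
  · exact chkURange_spec D C 917504 4096 ck_224 b (by omega) (by omega)
  rcases Nat.lt_or_ge b 925696 with g9 | g9
  · exact chkURange_spec D C 921600 4096 ck_225 b (by omega) (by omega)
  rcases Nat.lt_or_ge b 929792 with g10 | g10
  · exact chkURange_spec D C 925696 4096 ck_226 b (by omega) (by omega)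
  exact chkURange_spec D C 929792 4096 ck_227 b (by omega) (by omega)
end Cfsg.Agent.Lib.Helper4.F24M.U2
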