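import Cfsg.Agent.Lib.Helper4.F24M.U2.Cert
set_option autoImplicit false
set_option maxRecDepth 1000000
set_option Elab.async false
namespace Cfsg.Agent.Lib.Helper4.F24M.U2
open Cfsg.Agent.Lib.Helper4.Sparse
theorem ck_252 : chkURange D C 1032192 4096 = true := by decide +kernel
theorem ck_253 : chkURange D C 1036288 4096 = true := by decide +kernel
theorem ck_254 : chkURange D C 1040384 4096 = true := by decide +kernel
theorem ck_255 : chkURange D C 1044480 4096 = true := by decide +kernel
theorem ck_256 : chkURange D C 1048576 4096 = true := by decide +kernel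
theorem ck_257 : chkURange D C 1052672 4096 = true := by decide +kernel
theorem ck_258 : chkURange D C 1056768 4096 = true := by decide +kernel
theorem ck_259 : chkURange D C 1060864 4096 = true := by decide +kernel
theorem ck_260 : chkURange D C 1064960 4096 = true := by decide +kernel
theorem ck_261 : chkURange D C 1069056 4096 = true := by decide +kernel
theorem ck_262 : chkURange D C 1073152 4096 = true := by decide +kernel
theorem ck_263 : chkURange D C 1077248 4096 = true := by decide +kernel
theorem chkU_21 (b : ℕ) (h1 : 1032192 ≤ b) (h2 : b < 1081344) : chkU D C b = true := by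
  rcases Nat.lt_or_ge b 1036288 with g0 | g0
  · exact chkURange_spec D C 1032192 4096 ck_252 b (by omega) (by omega)
  rcases Nat.lt_or_ge b 1040384 with g1 | g1
  · exact chkURange_spec D C 1036288 4096 ck_253 b (by omega) (by omega)
  rcases Nat.lt_or_ge b 1044480 with g2 | g2
  · exact chkURange_spec D C 1040384 4096 ck_254 b (by omega) (by omega)
  rcases Nat.lt_or_ge b 1048576 with g3 | g3
  · exact chkURange_spec D C 1044480 4096 ck_255 b (by omega) (by omega)
  rcases Nat.lt_or_ge b 1052672 with g4 | g4
  · exact chkURange_spec D C 1048576 4096 ck_256 b (by omega) (by omega)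
  rcases Nat.lt_or_ge b 1056768 with g5 | g5
  · exact chkURange_spec D C 1052672 4096 ck_257 b (by omega) (by omega)
  rcases Nat.lt_or_ge b 1060864 with g6 | g6
  · exact chkURange_spec D C 1056768 4096 ck_258 b (by omega) (by omega)
  rcases Nat.lt_or_ge b 1064960 with g7 | g7
  · exact chkURange_spec D C 1060864 4096 ck_259 b (by omega) (by omega)
  rcases Nat.lt_or_ge b 1069056 with g8 | g8
  · exact chkURange_spec D C 1064960 4096 ck_260 b (by omega) (by omega)
  rcases Nat.lt_or_ge b 1073152 with g9 | g9
  · exact chkURange_spec D C 1069056 4096 ck_261 b (by omega) (by omega)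
  rcases Nat.lt_or_ge b 1077248 with g10 | g10
  · exact chkURange_spec D C 1073152 4096 ck_262 b (by omega) (by omega)
  exact chkURange_spec D C 1077248 4096 ck_263 b (by omega) (by omega)
end Cfsg.Agent.Lib.Helper4.F24M.U2
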