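import Cfsg.Agent.Lib.Helper4.F24M.U2.Cert
set_option autoImplicit false
set_option maxRecDepth 1000000
set_option Elab.async false
namespace Cfsg.Agent.Lib.Helper4.F24M.U2
open Cfsg.Agent.Lib.Helper4.Sparse
theorem ck_312 : chkURange D C 1277952 4096 = true := by decide +kernel
theorem ck_313 : chkURange D C 1282048 4096 = true := by decide +kernel
theorem ck_314 : chkURange D C 1286144 4096 = true := by decide +kernel
theorem ck_315 : chkURange D C 1290240 4096 = true := by decide +kernel
theorem ck_316 : chkURange D C 1294336 4096 = true := by decide +kernel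
theorem ck_317 : chkURange D C 1298432 4096 = true := by decide +kernel
theorem ck_318 : chkURange D C 1302528 4096 = true := by decide +kernel
theorem ck_319 : chkURange D C 1306624 4096 = true := by decide +kernel
theorem ck_320 : chkURange D C 1310720 4096 = true := by decide +kernel
theorem ck_321 : chkURange D C 1314816 4096 = true := by decide +kernel
theorem ck_322 : chkURange D C 1318912 4096 = true := by decide +kernel
theorem ck_323 : chkURange D C 1323008 4096 = true := by decide +kernel
theorem chkU_26 (b : ℕ) (h1 : 1277952 ≤ b) (h2 : b < 1327104) : chkU D C b = true := by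
  rcases Nat.lt_or_ge b 1282048 with g0 | g0
  · exact chkURange_spec D C 1277952 4096 ck_312 b (by omega) (by omega)
  rcases Nat.lt_or_ge b 1286144 with g1 | g1
  · exact chkURange_spec D C 1282048 4096 ck_313 b (by omega) (by omega)
  rcases Nat.lt_or_ge b 1290240 with g2 | g2
  · exact chkURange_spec D C 1286144 4096 ck_314 b (by omega) (by omega)
  rcases Nat.lt_or_ge b 1294336 with g3 | g3
  · exact chkURange_spec D C 1290240 4096 ck_315 b (by omega) (by omega)
  rcases Nat.lt_or_ge b 1298432 with g4 | g4
  · exact chkURange_spec D C 1294336 4096 ck_316 b (by omega) (by omega)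
  rcases Nat.lt_or_ge b 1302528 with g5 | g5
  · exact chkURange_spec D C 1298432 4096 ck_317 b (by omega) (by omega)
  rcases Nat.lt_or_ge b 1306624 with g6 | g6
  · exact chkURange_spec D C 1302528 4096 ck_318 b (by omega) (by omega)
  rcases Nat.lt_or_ge b 1310720 with g7 | g7
  · exact chkURange_spec D C 1306624 4096 ck_319 b (by omega) (by omega)
  rcases Nat.lt_or_ge b 1314816 with g8 | g8
  · exact chkURange_spec D C 1310720 4096 ck_320 b (by omega) (by omega)
  rcases Nat.lt_or_ge b 1318912 with g9 | g9
  · exact chkURange_spec D C 1314816 4096 ck_321 b (by omega) (by omega)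
  rcases Nat.lt_or_ge b 1323008 with g10 | g10
  · exact chkURange_spec D C 1318912 4096 ck_322 b (by omega) (by omega)
  exact chkURange_spec D C 1323008 4096 ck_323 b (by omega) (by omega)
end Cfsg.Agent.Lib.Helper4.F24M.U2
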