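import Cfsg.Agent.Lib.Helper4.F24M.U2.Cert
set_option autoImplicit false
set_option maxRecDepth 1000000
set_option Elab.async false
namespace Cfsg.Agent.Lib.Helper4.F24M.U2
open Cfsg.Agent.Lib.Helper4.Sparse
theorem ck_324 : chkURange D C 1327104 4096 = true := by decide +kernel
theorem ck_325 : chkURange D C 1331200 4096 = true := by decide +kernel
theorem ck_326 : chkURange D C 1335296 4096 = true := by decide +kernel
theorem ck_327 : chkURange D C 1339392 4096 = true := by decide +kernel
theorem ck_328 : chkURange D C 1343488 4096 = true := by decide +kernel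
theorem ck_329 : chkURange D C 1347584 4096 = true := by decide +kernel
theorem ck_330 : chkURange D C 1351680 4096 = true := by decide +kernel
theorem ck_331 : chkURange D C 1355776 4096 = true := by decide +kernel
theorem ck_332 : chkURange D C 1359872 4096 = true := by decide +kernel
theorem ck_333 : chkURange D C 1363968 4096 = true := by decide +kernel
theorem ck_334 : chkURange D C 1368064 4096 = true := by decide +kernel
theorem ck_335 : chkURange D C 1372160 4096 = true := by decide +kernel
theorem chkU_27 (b : ℕ) (h1 : 1327104 ≤ b) (h2 : b < 1376256) : chkU D C b = true := by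
  rcases Nat.lt_or_ge b 1331200 with g0 | g0
  · exact chkURange_spec D C 1327104 4096 ck_324 b (by omega) (by omega)
  rcases Nat.lt_or_ge b 1335296 with g1 | g1
  · exact chkURange_spec D C 1331200 4096 ck_325 b (by omega) (by omega)
  rcases Nat.lt_or_ge b 1339392 with g2 | g2
  · exact chkURange_spec D C 1335296 4096 ck_326 b (by omega) (by omega)
  rcases Nat.lt_or_ge b 1343488 with g3 | g3
  · exact chkURange_spec D C 1339392 4096 ck_327 b (by omega) (by omega)
  rcases Nat.lt_or_ge b 1347584 with g4 | g4
  · exact chkURange_spec D C 1343488 4096 ck_328 b (by omega) (by omega)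
  rcases Nat.lt_or_ge b 1351680 with g5 | g5
  · exact chkURange_spec D C 1347584 4096 ck_329 b (by omega) (by omega)
  rcases Nat.lt_or_ge b 1355776 with g6 | g6
  · exact chkURange_spec D C 1351680 4096 ck_330 b (by omega) (by omega)
  rcases Nat.lt_or_ge b 1359872 with g7 | g7
  · exact chkURange_spec D C 1355776 4096 ck_331 b (by omega) (by omega)
  rcases Nat.lt_or_ge b 1363968 with g8 | g8
  · exact chkURange_spec D C 1359872 4096 ck_332 b (by omega) (by omega)
  rcases Nat.lt_or_ge b 1368064 with g9 | g9
  · exact chkURange_spec D C 1363968 4096 ck_333 b (by omega) (by omega)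
  rcases Nat.lt_or_ge b 1372160 with g10 | g10
  · exact chkURange_spec D C 1368064 4096 ck_334 b (by omega) (by omega)
  exact chkURange_spec D C 1372160 4096 ck_335 b (by omega) (by omega)
end Cfsg.Agent.Lib.Helper4.F24M.U2
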