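import Cfsg.Agent.Lib.Helper4.F24M.U2.Cert
set_option autoImplicit false
set_option maxRecDepth 1000000
set_option Elab.async false
namespace Cfsg.Agent.Lib.Helper4.F24M.U2
open Cfsg.Agent.Lib.Helper4.Sparse
theorem ck_360 : chkURange D C 1474560 4096 = true := by decide +kernel
theorem ck_361 : chkURange D C 1478656 4096 = true := by decide +kernel
theorem ck_362 : chkURange D C 1482752 4096 = true := by decide +kernel
theorem ck_363 : chkURange D C 1486848 4096 = true := by decide +kernel
theorem ck_364 : chkURange D C 1490944 4096 = true := by decide +kernel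
theorem ck_365 : chkURange D C 1495040 4096 = true := by decide +kernel
theorem ck_366 : chkURange D C 1499136 4096 = true := by decide +kernel
theorem ck_367 : chkURange D C 1503232 4096 = true := by decide +kernel
theorem ck_368 : chkURange D C 1507328 4096 = true := by decide +kernel
theorem ck_369 : chkURange D C 1511424 4096 = true := by decide +kernel
theorem ck_370 : chkURange D C 1515520 4096 = true := by decide +kernel
theorem ck_371 : chkURange D C 1519616 4096 = true := by decide +kernel
theorem chkU_30 (b : ℕ) (h1 : 1474560 ≤ b) (h2 : b < 1523712) : chkU D C b = true := by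
  rcases Nat.lt_or_ge b 1478656 with g0 | g0
  · exact chkURange_spec D C 1474560 4096 ck_360 b (by omega) (by omega)
  rcases Nat.lt_or_ge b 1482752 with g1 | g1
  · exact chkURange_spec D C 1478656 4096 ck_361 b (by omega) (by omega)
  rcases Nat.lt_or_ge b 1486848 with g2 | g2
  · exact chkURange_spec D C 1482752 4096 ck_362 b (by omega) (by omega)
  rcases Nat.lt_or_ge b 1490944 with g3 | g3
  · exact chkURange_spec D C 1486848 4096 ck_363 b (by omega) (by omega)
  rcases Nat.lt_or_ge b 1495040 with g4 | g4
  · exact chkURange_spec D C 1490944 4096 ck_364 b (by omega) (by omega)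
  rcases Nat.lt_or_ge b 1499136 with g5 | g5
  · exact chkURange_spec D C 1495040 4096 ck_365 b (by omega) (by omega)
  rcases Nat.lt_or_ge b 1503232 with g6 | g6
  · exact chkURange_spec D C 1499136 4096 ck_366 b (by omega) (by omega)
  rcases Nat.lt_or_ge b 1507328 with g7 | g7
  · exact chkURange_spec D C 1503232 4096 ck_367 b (by omega) (by omega)
  rcases Nat.lt_or_ge b 1511424 with g8 | g8
  · exact chkURange_spec D C 1507328 4096 ck_368 b (by omega) (by omega)
  rcases Nat.lt_or_ge b 1515520 with g9 | g9
  · exact chkURange_spec D C 1511424 4096 ck_369 b (by omega) (by omega)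
  rcases Nat.lt_or_ge b 1519616 with g10 | g10
  · exact chkURange_spec D C 1515520 4096 ck_370 b (by omega) (by omega)
  exact chkURange_spec D C 1519616 4096 ck_371 b (by omega) (by omega)
end Cfsg.Agent.Lib.Helper4.F24M.U2
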