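import Cfsg.Agent.Lib.Helper4.F24M.U2.Cert
set_option autoImplicit false
set_option maxRecDepth 1000000
set_option Elab.async false
namespace Cfsg.Agent.Lib.Helper4.F24M.U2
open Cfsg.Agent.Lib.Helper4.Sparse
theorem ck_372 : chkURange D C 1523712 4096 = true := by decide +kernel
theorem ck_373 : chkURange D C 1527808 4096 = true := by decide +kernel
theorem ck_374 : chkURange D C 1531904 4096 = true := by decide +kernel
theorem ck_375 : chkURange D C 1536000 4096 = true := by decide +kernel
theorem ck_376 : chkURange D C 1540096 4096 = true := by decide +kernel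
theorem ck_377 : chkURange D C 1544192 4096 = true := by decide +kernel
theorem ck_378 : chkURange D C 1548288 4096 = true := by decide +kernel
theorem ck_379 : chkURange D C 1552384 4096 = true := by decide +kernel
theorem ck_380 : chkURange D C 1556480 4096 = true := by decide +kernel
theorem ck_381 : chkURange D C 1560576 4096 = true := by decide +kernel
theorem ck_382 : chkURange D C 1564672 4096 = true := by decide +kernel
theorem ck_383 : chkURange D C 1568768 4096 = true := by decide +kernel
theorem chkU_31 (b : ℕ) (h1 : 1523712 ≤ b) (h2 : b < 1572864) : chkU D C b = true := by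
  rcases Nat.lt_or_ge b 1527808 with g0 | g0
  · exact chkURange_spec D C 1523712 4096 ck_372 b (by omega) (by omega)
  rcases Nat.lt_or_ge b 1531904 with g1 | g1
  · exact chkURange_spec D C 1527808 4096 ck_373 b (by omega) (by omega)
  rcases Nat.lt_or_ge b 1536000 with g2 | g2
  · exact chkURange_spec D C 1531904 4096 ck_374 b (by omega) (by omega)
  rcases Nat.lt_or_ge b 1540096 with g3 | g3
  · exact chkURange_spec D C 1536000 4096 ck_375 b (by omega) (by omega)
  rcases Nat.lt_or_ge b 1544192 with g4 | g4
  · exact chkURange_spec D C 1540096 4096 ck_376 b (by omega) (by omega)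
  rcases Nat.lt_or_ge b 1548288 with g5 | g5
  · exact chkURange_spec D C 1544192 4096 ck_377 b (by omega) (by omega)
  rcases Nat.lt_or_ge b 1552384 with g6 | g6
  · exact chkURange_spec D C 1548288 4096 ck_378 b (by omega) (by omega)
  rcases Nat.lt_or_ge b 1556480 with g7 | g7
  · exact chkURange_spec D C 1552384 4096 ck_379 b (by omega) (by omega)
  rcases Nat.lt_or_ge b 1560576 with g8 | g8
  · exact chkURange_spec D C 1556480 4096 ck_380 b (by omega) (by omega)
  rcases Nat.lt_or_ge b 1564672 with g9 | g9
  · exact chkURange_spec D C 1560576 4096 ck_381 b (by omega) (by omega)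
  rcases Nat.lt_or_ge b 1568768 with g10 | g10
  · exact chkURange_spec D C 1564672 4096 ck_382 b (by omega) (by omega)
  exact chkURange_spec D C 1568768 4096 ck_383 b (by omega) (by omega)
end Cfsg.Agent.Lib.Helper4.F24M.U2
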