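import Cfsg.Agent.Lib.Helper4.F24M.U2.Cert
set_option autoImplicit false
set_option maxRecDepth 1000000
set_option Elab.async false
namespace Cfsg.Agent.Lib.Helper4.F24M.U2
open Cfsg.Agent.Lib.Helper4.Sparse
theorem ck_408 : chkURange D C 1671168 4096 = true := by decide +kernel
theorem ck_409 : chkURange D C 1675264 4096 = true := by decide +kernel
theorem ck_410 : chkURange D C 1679360 4096 = true := by decide +kernel
theorem ck_411 : chkURange D C 1683456 4096 = true := by decide +kernel
theorem ck_412 : chkURange D C 1687552 4096 = true := by decide +kernel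
theorem ck_413 : chkURange D C 1691648 4096 = true := by decide +kernel
theorem ck_414 : chkURange D C 1695744 4096 = true := by decide +kernel
theorem ck_415 : chkURange D C 1699840 4096 = true := by decide +kernel
theorem ck_416 : chkURange D C 1703936 4096 = true := by decide +kernel
theorem ck_417 : chkURange D C 1708032 4096 = true := by decide +kernel
theorem ck_418 : chkURange D C 1712128 4096 = true := by decide +kernel
theorem ck_419 : chkURange D C 1716224 4096 = true := by decide +kernel
theorem chkU_34 (b : ℕ) (h1 : 1671168 ≤ b) (h2 : b < 1720320) : chkU D C b = true := by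
  rcases Nat.lt_or_ge b 1675264 with g0 | g0
  · exact chkURange_spec D C 1671168 4096 ck_408 b (by omega) (by omega)
  rcases Nat.lt_or_ge b 1679360 with g1 | g1
  · exact chkURange_spec D C 1675264 4096 ck_409 b (by omega) (by omega)
  rcases Nat.lt_or_ge b 1683456 with g2 | g2
  · exact chkURange_spec D C 1679360 4096 ck_410 b (by omega) (by omega)
  rcases Nat.lt_or_ge b 1687552 with g3 | g3
  · exact chkURange_spec D C 1683456 4096 ck_411 b (by omega) (by omega)
  rcases Nat.lt_or_ge b 1691648 with g4 | g4
  · exact chkURange_spec D C 1687552 4096 ck_412 b (by omega) (by omega)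
  rcases Nat.lt_or_ge b 1695744 with g5 | g5
  · exact chkURange_spec D C 1691648 4096 ck_413 b (by omega) (by omega)
  rcases Nat.lt_or_ge b 1699840 with g6 | g6
  · exact chkURange_spec D C 1695744 4096 ck_414 b (by omega) (by omega)
  rcases Nat.lt_or_ge b 1703936 with g7 | g7
  · exact chkURange_spec D C 1699840 4096 ck_415 b (by omega) (by omega)
  rcases Nat.lt_or_ge b 1708032 with g8 | g8
  · exact chkURange_spec D C 1703936 4096 ck_416 b (by omega) (by omega)
  rcases Nat.lt_or_ge b 1712128 with g9 | g9
  · exact chkURange_spec D C 1708032 4096 ck_417 b (by omega) (by omega)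
  rcases Nat.lt_or_ge b 1716224 with g10 | g10
  · exact chkURange_spec D C 1712128 4096 ck_418 b (by omega) (by omega)
  exact chkURange_spec D C 1716224 4096 ck_419 b (by omega) (by omega)
end Cfsg.Agent.Lib.Helper4.F24M.U2
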