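import Cfsg.Agent.Lib.Helper4.F24M.U2.Cert
set_option autoImplicit false
set_option maxRecDepth 1000000
set_option Elab.async false
namespace Cfsg.Agent.Lib.Helper4.F24M.U2
open Cfsg.Agent.Lib.Helper4.Sparse
theorem ck_432 : chkURange D C 1769472 4096 = true := by decide +kernel
theorem ck_433 : chkURange D C 1773568 4096 = true := by decide +kernel
theorem ck_434 : chkURange D C 1777664 4096 = true := by decide +kernel
theorem ck_435 : chkURange D C 1781760 4096 = true := by decide +kernel
theorem ck_436 : chkURange D C 1785856 4096 = true := by decide +kernel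
theorem ck_437 : chkURange D C 1789952 4096 = true := by decide +kernel
theorem ck_438 : chkURange D C 1794048 4096 = true := by decide +kernel
theorem ck_439 : chkURange D C 1798144 4096 = true := by decide +kernel
theorem ck_440 : chkURange D C 1802240 4096 = true := by decide +kernel
theorem ck_441 : chkURange D C 1806336 4096 = true := by decide +kernel
theorem ck_442 : chkURange D C 1810432 4096 = true := by decide +kernel
theorem ck_443 : chkURange D C 1814528 4096 = true := by decide +kernel
theorem chkU_36 (b : ℕ) (h1 : 1769472 ≤ b) (h2 : b < 1818624) : chkU D C b = true := by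
  rcases Nat.lt_or_ge b 1773568 with g0 | g0
  · exact chkURange_spec D C 1769472 4096 ck_432 b (by omega) (by omega)
  rcases Nat.lt_or_ge b 1777664 with g1 | g1
  · exact chkURange_spec D C 1773568 4096 ck_433 b (by omega) (by omega)
  rcases Nat.lt_or_ge b 1781760 with g2 | g2
  · exact chkURange_spec D C 1777664 4096 ck_434 b (by omega) (by omega)
  rcases Nat.lt_or_ge b 1785856 with g3 | g3
  · exact chkURange_spec D C 1781760 4096 ck_435 b (by omega) (by omega)
  rcases Nat.lt_or_ge b 1789952 with g4 | g4
  · exact chkURange_spec D C 1785856 4096 ck_436 b (by omega) (by omega)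
  rcases Nat.lt_or_ge b 1794048 with g5 | g5
  · exact chkURange_spec D C 1789952 4096 ck_437 b (by omega) (by omega)
  rcases Nat.lt_or_ge b 1798144 with g6 | g6
  · exact chkURange_spec D C 1794048 4096 ck_438 b (by omega) (by omega)
  rcases Nat.lt_or_ge b 1802240 with g7 | g7
  · exact chkURange_spec D C 1798144 4096 ck_439 b (by omega) (by omega)
  rcases Nat.lt_or_ge b 1806336 with g8 | g8
  · exact chkURange_spec D C 1802240 4096 ck_440 b (by omega) (by omega)
  rcases Nat.lt_or_ge b 1810432 with g9 | g9
  · exact chkURange_spec D C 1806336 4096 ck_441 b (by omega) (by omega)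
  rcases Nat.lt_or_ge b 1814528 with g10 | g10
  · exact chkURange_spec D C 1810432 4096 ck_442 b (by omega) (by omega)
  exact chkURange_spec D C 1814528 4096 ck_443 b (by omega) (by omega)
end Cfsg.Agent.Lib.Helper4.F24M.U2
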