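import Cfsg.Agent.Lib.Helper4.F24M.U2.Cert
set_option autoImplicit false
set_option maxRecDepth 1000000
set_option Elab.async false
namespace Cfsg.Agent.Lib.Helper4.F24M.U2
open Cfsg.Agent.Lib.Helper4.Sparse
theorem ck_480 : chkURange D C 1966080 4096 = true := by decide +kernel
theorem ck_481 : chkURange D C 1970176 4096 = true := by decide +kernel
theorem ck_482 : chkURange D C 1974272 4096 = true := by decide +kernel
theorem ck_483 : chkURange D C 1978368 4096 = true := by decide +kernel
theorem ck_484 : chkURange D C 1982464 4096 = true := by decide +kernel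
theorem ck_485 : chkURange D C 1986560 4096 = true := by decide +kernel
theorem ck_486 : chkURange D C 1990656 4096 = true := by decide +kernel
theorem ck_487 : chkURange D C 1994752 4096 = true := by decide +kernel
theorem ck_488 : chkURange D C 1998848 4096 = true := by decide +kernel
theorem ck_489 : chkURange D C 2002944 4096 = true := by decide +kernel
theorem ck_490 : chkURange D C 2007040 4096 = true := by decide +kernel
theorem ck_491 : chkURange D C 2011136 4096 = true := by decide +kernel
theorem chkU_40 (b : ℕ) (h1 : 1966080 ≤ b) (h2 : b < 2015232) : chkU D C b = true := by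
  rcases Nat.lt_or_ge b 1970176 with g0 | g0
  · exact chkURange_spec D C 1966080 4096 ck_480 b (by omega) (by omega)
  rcases Nat.lt_or_ge b 1974272 with g1 | g1
  · exact chkURange_spec D C 1970176 4096 ck_481 b (by omega) (by omega)
  rcases Nat.lt_or_ge b 1978368 with g2 | g2
  · exact chkURange_spec D C 1974272 4096 ck_482 b (by omega) (by omega)
  rcases Nat.lt_or_ge b 1982464 with g3 | g3
  · exact chkURange_spec D C 1978368 4096 ck_483 b (by omega) (by omega)
  rcases Nat.lt_or_ge b 1986560 with g4 | g4
  · exact chkURange_spec D C 1982464 4096 ck_484 b (by omega) (by omega)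
  rcases Nat.lt_or_ge b 1990656 with g5 | g5
  · exact chkURange_spec D C 1986560 4096 ck_485 b (by omega) (by omega)
  rcases Nat.lt_or_ge b 1994752 with g6 | g6
  · exact chkURange_spec D C 1990656 4096 ck_486 b (by omega) (by omega)
  rcases Nat.lt_or_ge b 1998848 with g7 | g7
  · exact chkURange_spec D C 1994752 4096 ck_487 b (by omega) (by omega)
  rcases Nat.lt_or_ge b 2002944 with g8 | g8
  · exact chkURange_spec D C 1998848 4096 ck_488 b (by omega) (by omega)
  rcases Nat.lt_or_ge b 2007040 with g9 | g9
  · exact chkURange_spec D C 2002944 4096 ck_489 b (by omega) (by omega)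
  rcases Nat.lt_or_ge b 2011136 with g10 | g10
  · exact chkURange_spec D C 2007040 4096 ck_490 b (by omega) (by omega)
  exact chkURange_spec D C 2011136 4096 ck_491 b (by omega) (by omega)
end Cfsg.Agent.Lib.Helper4.F24M.U2
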