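import Cfsg.Agent.Lib.Helper4.F24M.U2.Cert
set_option autoImplicit false
set_option maxRecDepth 1000000
set_option Elab.async false
namespace Cfsg.Agent.Lib.Helper4.F24M.U2
open Cfsg.Agent.Lib.Helper4.Sparse
theorem ck_528 : chkURange D C 2162688 4096 = true := by decide +kernel
theorem ck_529 : chkURange D C 2166784 4096 = true := by decide +kernel
theorem ck_530 : chkURange D C 2170880 4096 = true := by decide +kernel
theorem ck_531 : chkURange D C 2174976 4096 = true := by decide +kernel
theorem ck_532 : chkURange D C 2179072 4096 = true := by decide +kernel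
theorem ck_533 : chkURange D C 2183168 4096 = true := by decide +kernel
theorem ck_534 : chkURange D C 2187264 4096 = true := by decide +kernel
theorem ck_535 : chkURange D C 2191360 4096 = true := by decide +kernel
theorem ck_536 : chkURange D C 2195456 4096 = true := by decide +kernel
theorem ck_537 : chkURange D C 2199552 4096 = true := by decide +kernel
theorem ck_538 : chkURange D C 2203648 4096 = true := by decide +kernel
theorem ck_539 : chkURange D C 2207744 4096 = true := by decide +kernel
theorem chkU_44 (b : ℕ) (h1 : 2162688 ≤ b) (h2 : b < 2211840) : chkU D C b = true := by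
  rcases Nat.lt_or_ge b 2166784 with g0 | g0
  · exact chkURange_spec D C 2162688 4096 ck_528 b (by omega) (by omega)
  rcases Nat.lt_or_ge b 2170880 with g1 | g1
  · exact chkURange_spec D C 2166784 4096 ck_529 b (by omega) (by omega)
  rcases Nat.lt_or_ge b 2174976 with g2 | g2
  · exact chkURange_spec D C 2170880 4096 ck_530 b (by omega) (by omega)
  rcases Nat.lt_or_ge b 2179072 with g3 | g3
  · exact chkURange_spec D C 2174976 4096 ck_531 b (by omega) (by omega)
  rcases Nat.lt_or_ge b 2183168 with g4 | g4
  · exact chkURange_spec D C 2179072 4096 ck_532 b (by omega) (by omega)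
  rcases Nat.lt_or_ge b 2187264 with g5 | g5
  · exact chkURange_spec D C 2183168 4096 ck_533 b (by omega) (by omega)
  rcases Nat.lt_or_ge b 2191360 with g6 | g6
  · exact chkURange_spec D C 2187264 4096 ck_534 b (by omega) (by omega)
  rcases Nat.lt_or_ge b 2195456 with g7 | g7
  · exact chkURange_spec D C 2191360 4096 ck_535 b (by omega) (by omega)
  rcases Nat.lt_or_ge b 2199552 with g8 | g8
  · exact chkURange_spec D C 2195456 4096 ck_536 b (by omega) (by omega)
  rcases Nat.lt_or_ge b 2203648 with g9 | g9
  · exact chkURange_spec D C 2199552 4096 ck_537 b (by omega) (by omega)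
  rcases Nat.lt_or_ge b 2207744 with g10 | g10
  · exact chkURange_spec D C 2203648 4096 ck_538 b (by omega) (by omega)
  exact chkURange_spec D C 2207744 4096 ck_539 b (by omega) (by omega)
end Cfsg.Agent.Lib.Helper4.F24M.U2
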