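import Cfsg.Agent.Lib.Helper4.F24M.U2.Cert
set_option autoImplicit false
set_option maxRecDepth 1000000
set_option Elab.async false
namespace Cfsg.Agent.Lib.Helper4.F24M.U2
open Cfsg.Agent.Lib.Helper4.Sparse
theorem ck_540 : chkURange D C 2211840 4096 = true := by decide +kernel
theorem ck_541 : chkURange D C 2215936 4096 = true := by decide +kernel
theorem ck_542 : chkURange D C 2220032 4096 = true := by decide +kernel
theorem ck_543 : chkURange D C 2224128 4096 = true := by decide +kernel
theorem ck_544 : chkURange D C 2228224 4096 = true := by decide +kernel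
theorem ck_545 : chkURange D C 2232320 4096 = true := by decide +kernel
theorem ck_546 : chkURange D C 2236416 4096 = true := by decide +kernel
theorem ck_547 : chkURange D C 2240512 4096 = true := by decide +kernel
theorem ck_548 : chkURange D C 2244608 4096 = true := by decide +kernel
theorem ck_549 : chkURange D C 2248704 4096 = true := by decide +kernel
theorem ck_550 : chkURange D C 2252800 4096 = true := by decide +kernel
theorem ck_551 : chkURange D C 2256896 4096 = true := by decide +kernel
theorem chkU_45 (b : ℕ) (h1 : 2211840 ≤ b) (h2 : b < 2260992) : chkU D C b = true := by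
  rcases Nat.lt_or_ge b 2215936 with g0 | g0
  · exact chkURange_spec D C 2211840 4096 ck_540 b (by omega) (by omega)
  rcases Nat.lt_or_ge b 2220032 with g1 | g1
  · exact chkURange_spec D C 2215936 4096 ck_541 b (by omega) (by omega)
  rcases Nat.lt_or_ge b 2224128 with g2 | g2
  · exact chkURange_spec D C 2220032 4096 ck_542 b (by omega) (by omega)
  rcases Nat.lt_or_ge b 2228224 with g3 | g3
  · exact chkURange_spec D C 2224128 4096 ck_543 b (by omega) (by omega)
  rcases Nat.lt_or_ge b 2232320 with g4 | g4
  · exact chkURange_spec D C 2228224 4096 ck_544 b (by omega) (by omega)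
  rcases Nat.lt_or_ge b 2236416 with g5 | g5
  · exact chkURange_spec D C 2232320 4096 ck_545 b (by omega) (by omega)
  rcases Nat.lt_or_ge b 2240512 with g6 | g6
  · exact chkURange_spec D C 2236416 4096 ck_546 b (by omega) (by omega)
  rcases Nat.lt_or_ge b 2244608 with g7 | g7
  · exact chkURange_spec D C 2240512 4096 ck_547 b (by omega) (by omega)
  rcases Nat.lt_or_ge b 2248704 with g8 | g8
  · exact chkURange_spec D C 2244608 4096 ck_548 b (by omega) (by omega)
  rcases Nat.lt_or_ge b 2252800 with g9 | g9
  · exact chkURange_spec D C 2248704 4096 ck_549 b (by omega) (by omega)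
  rcases Nat.lt_or_ge b 2256896 with g10 | g10
  · exact chkURange_spec D C 2252800 4096 ck_550 b (by omega) (by omega)
  exact chkURange_spec D C 2256896 4096 ck_551 b (by omega) (by omega)
end Cfsg.Agent.Lib.Helper4.F24M.U2
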