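import Cfsg.Agent.Lib.Helper4.F24M.U2.Cert
set_option autoImplicit false
set_option maxRecDepth 1000000
set_option Elab.async false
namespace Cfsg.Agent.Lib.Helper4.F24M.U2
open Cfsg.Agent.Lib.Helper4.Sparse
theorem ck_576 : chkURange D C 2359296 4096 = true := by decide +kernel
theorem ck_577 : chkURange D C 2363392 4096 = true := by decide +kernel
theorem ck_578 : chkURange D C 2367488 4096 = true := by decide +kernel
theorem ck_579 : chkURange D C 2371584 4096 = true := by decide +kernel
theorem ck_580 : chkURange D C 2375680 4096 = true := by decide +kernel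
theorem ck_581 : chkURange D C 2379776 4096 = true := by decide +kernel
theorem ck_582 : chkURange D C 2383872 4096 = true := by decide +kernel
theorem ck_583 : chkURange D C 2387968 4096 = true := by decide +kernel
theorem ck_584 : chkURange D C 2392064 4096 = true := by decide +kernel
theorem ck_585 : chkURange D C 2396160 4096 = true := by decide +kernel
theorem ck_586 : chkURange D C 2400256 4096 = true := by decide +kernel
theorem ck_587 : chkURange D C 2404352 4096 = true := by decide +kernel
theorem chkU_48 (b : ℕ) (h1 : 2359296 ≤ b) (h2 : b < 2408448) : chkU D C b = true := by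
  rcases Nat.lt_or_ge b 2363392 with g0 | g0
  · exact chkURange_spec D C 2359296 4096 ck_576 b (by omega) (by omega)
  rcases Nat.lt_or_ge b 2367488 with g1 | g1
  · exact chkURange_spec D C 2363392 4096 ck_577 b (by omega) (by omega)
  rcases Nat.lt_or_ge b 2371584 with g2 | g2
  · exact chkURange_spec D C 2367488 4096 ck_578 b (by omega) (by omega)
  rcases Nat.lt_or_ge b 2375680 with g3 | g3
  · exact chkURange_spec D C 2371584 4096 ck_579 b (by omega) (by omega)
  rcases Nat.lt_or_ge b 2379776 with g4 | g4
  · exact chkURange_spec D C 2375680 4096 ck_580 b (by omega) (by omega)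
  rcases Nat.lt_or_ge b 2383872 with g5 | g5
  · exact chkURange_spec D C 2379776 4096 ck_581 b (by omega) (by omega)
  rcases Nat.lt_or_ge b 2387968 with g6 | g6
  · exact chkURange_spec D C 2383872 4096 ck_582 b (by omega) (by omega)
  rcases Nat.lt_or_ge b 2392064 with g7 | g7
  · exact chkURange_spec D C 2387968 4096 ck_583 b (by omega) (by omega)
  rcases Nat.lt_or_ge b 2396160 with g8 | g8
  · exact chkURange_spec D C 2392064 4096 ck_584 b (by omega) (by omega)
  rcases Nat.lt_or_ge b 2400256 with g9 | g9
  · exact chkURange_spec D C 2396160 4096 ck_585 b (by omega) (by omega)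
  rcases Nat.lt_or_ge b 2404352 with g10 | g10
  · exact chkURange_spec D C 2400256 4096 ck_586 b (by omega) (by omega)
  exact chkURange_spec D C 2404352 4096 ck_587 b (by omega) (by omega)
end Cfsg.Agent.Lib.Helper4.F24M.U2
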