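import Cfsg.Agent.Lib.Helper4.F24M.U2.Cert
set_option autoImplicit false
set_option maxRecDepth 1000000
set_option Elab.async false
namespace Cfsg.Agent.Lib.Helper4.F24M.U2
open Cfsg.Agent.Lib.Helper4.Sparse
theorem ck_612 : chkURange D C 2506752 4096 = true := by decide +kernel
theorem ck_613 : chkURange D C 2510848 4096 = true := by decide +kernel
theorem ck_614 : chkURange D C 2514944 4096 = true := by decide +kernel
theorem ck_615 : chkURange D C 2519040 4096 = true := by decide +kernel
theorem ck_616 : chkURange D C 2523136 4096 = true := by decide +kernel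
theorem ck_617 : chkURange D C 2527232 4096 = true := by decide +kernel
theorem ck_618 : chkURange D C 2531328 4096 = true := by decide +kernel
theorem ck_619 : chkURange D C 2535424 4096 = true := by decide +kernel
theorem ck_620 : chkURange D C 2539520 4096 = true := by decide +kernel
theorem ck_621 : chkURange D C 2543616 4096 = true := by decide +kernel
theorem ck_622 : chkURange D C 2547712 4096 = true := by decide +kernel
theorem ck_623 : chkURange D C 2551808 4096 = true := by decide +kernel
theorem chkU_51 (b : ℕ) (h1 : 2506752 ≤ b) (h2 : b < 2555904) : chkU D C b = true := by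
  rcases Nat.lt_or_ge b 2510848 with g0 | g0
  · exact chkURange_spec D C 2506752 4096 ck_612 b (by omega) (by omega)
  rcases Nat.lt_or_ge b 2514944 with g1 | g1
  · exact chkURange_spec D C 2510848 4096 ck_613 b (by omega) (by omega)
  rcases Nat.lt_or_ge b 2519040 with g2 | g2
  · exact chkURange_spec D C 2514944 4096 ck_614 b (by omega) (by omega)
  rcases Nat.lt_or_ge b 2523136 with g3 | g3
  · exact chkURange_spec D C 2519040 4096 ck_615 b (by omega) (by omega)
  rcases Nat.lt_or_ge b 2527232 with g4 | g4
  · exact chkURange_spec D C 2523136 4096 ck_616 b (by omega) (by omega)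
  rcases Nat.lt_or_ge b 2531328 with g5 | g5
  · exact chkURange_spec D C 2527232 4096 ck_617 b (by omega) (by omega)
  rcases Nat.lt_or_ge b 2535424 with g6 | g6
  · exact chkURange_spec D C 2531328 4096 ck_618 b (by omega) (by omega)
  rcases Nat.lt_or_ge b 2539520 with g7 | g7
  · exact chkURange_spec D C 2535424 4096 ck_619 b (by omega) (by omega)
  rcases Nat.lt_or_ge b 2543616 with g8 | g8
  · exact chkURange_spec D C 2539520 4096 ck_620 b (by omega) (by omega)
  rcases Nat.lt_or_ge b 2547712 with g9 | g9
  · exact chkURange_spec D C 2543616 4096 ck_621 b (by omega) (by omega)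
  rcases Nat.lt_or_ge b 2551808 with g10 | g10
  · exact chkURange_spec D C 2547712 4096 ck_622 b (by omega) (by omega)
  exact chkURange_spec D C 2551808 4096 ck_623 b (by omega) (by omega)
end Cfsg.Agent.Lib.Helper4.F24M.U2
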