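import Cfsg.Agent.Lib.Helper4.F24M.U2.Cert
set_option autoImplicit false
set_option maxRecDepth 1000000
set_option Elab.async false
namespace Cfsg.Agent.Lib.Helper4.F24M.U2
open Cfsg.Agent.Lib.Helper4.Sparse
theorem ck_624 : chkURange D C 2555904 4096 = true := by decide +kernel
theorem ck_625 : chkURange D C 2560000 4096 = true := by decide +kernel
theorem ck_626 : chkURange D C 2564096 4096 = true := by decide +kernel
theorem ck_627 : chkURange D C 2568192 4096 = true := by decide +kernel
theorem ck_628 : chkURange D C 2572288 4096 = true := by decide +kernel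
theorem ck_629 : chkURange D C 2576384 4096 = true := by decide +kernel
theorem ck_630 : chkURange D C 2580480 4096 = true := by decide +kernel
theorem ck_631 : chkURange D C 2584576 4096 = true := by decide +kernel
theorem ck_632 : chkURange D C 2588672 4096 = true := by decide +kernel
theorem ck_633 : chkURange D C 2592768 4096 = true := by decide +kernel
theorem ck_634 : chkURange D C 2596864 4096 = true := by decide +kernel
theorem ck_635 : chkURange D C 2600960 4096 = true := by decide +kernel
theorem chkU_52 (b : ℕ) (h1 : 2555904 ≤ b) (h2 : b < 2605056) : chkU D C b = true := by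
  rcases Nat.lt_or_ge b 2560000 with g0 | g0
  · exact chkURange_spec D C 2555904 4096 ck_624 b (by omega) (by omega)
  rcases Nat.lt_or_ge b 2564096 with g1 | g1
  · exact chkURange_spec D C 2560000 4096 ck_625 b (by omega) (by omega)
  rcases Nat.lt_or_ge b 2568192 with g2 | g2
  · exact chkURange_spec D C 2564096 4096 ck_626 b (by omega) (by omega)
  rcases Nat.lt_or_ge b 2572288 with g3 | g3
  · exact chkURange_spec D C 2568192 4096 ck_627 b (by omega) (by omega)
  rcases Nat.lt_or_ge b 2576384 with g4 | g4
  · exact chkURange_spec D C 2572288 4096 ck_628 b (by omega) (by omega)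
  rcases Nat.lt_or_ge b 2580480 with g5 | g5
  · exact chkURange_spec D C 2576384 4096 ck_629 b (by omega) (by omega)
  rcases Nat.lt_or_ge b 2584576 with g6 | g6
  · exact chkURange_spec D C 2580480 4096 ck_630 b (by omega) (by omega)
  rcases Nat.lt_or_ge b 2588672 with g7 | g7
  · exact chkURange_spec D C 2584576 4096 ck_631 b (by omega) (by omega)
  rcases Nat.lt_or_ge b 2592768 with g8 | g8
  · exact chkURange_spec D C 2588672 4096 ck_632 b (by omega) (by omega)
  rcases Nat.lt_or_ge b 2596864 with g9 | g9
  · exact chkURange_spec D C 2592768 4096 ck_633 b (by omega) (by omega)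
  rcases Nat.lt_or_ge b 2600960 with g10 | g10
  · exact chkURange_spec D C 2596864 4096 ck_634 b (by omega) (by omega)
  exact chkURange_spec D C 2600960 4096 ck_635 b (by omega) (by omega)
end Cfsg.Agent.Lib.Helper4.F24M.U2
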