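import Cfsg.Agent.Lib.Helper4.F24M.U2.Cert
set_option autoImplicit false
set_option maxRecDepth 1000000
set_option Elab.async false
namespace Cfsg.Agent.Lib.Helper4.F24M.U2
open Cfsg.Agent.Lib.Helper4.Sparse
theorem ck_768 : chkURange D C 3145728 4096 = true := by decide +kernel
theorem ck_769 : chkURange D C 3149824 4096 = true := by decide +kernel
theorem ck_770 : chkURange D C 3153920 4096 = true := by decide +kernel
theorem ck_771 : chkURange D C 3158016 4096 = true := by decide +kernel
theorem ck_772 : chkURange D C 3162112 4096 = true := by decide +kernel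
theorem ck_773 : chkURange D C 3166208 4096 = true := by decide +kernel
theorem ck_774 : chkURange D C 3170304 4096 = true := by decide +kernel
theorem ck_775 : chkURange D C 3174400 4096 = true := by decide +kernel
theorem ck_776 : chkURange D C 3178496 4096 = true := by decide +kernel
theorem ck_777 : chkURange D C 3182592 4096 = true := by decide +kernel
theorem ck_778 : chkURange D C 3186688 4096 = true := by decide +kernel
theorem ck_779 : chkURange D C 3190784 4096 = true := by decide +kernel
theorem chkU_64 (b : ℕ) (h1 : 3145728 ≤ b) (h2 : b < 3194880) : chkU D C b = true := by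
  rcases Nat.lt_or_ge b 3149824 with g0 | g0
  · exact chkURange_spec D C 3145728 4096 ck_768 b (by omega) (by omega)
  rcases Nat.lt_or_ge b 3153920 with g1 | g1
  · exact chkURange_spec D C 3149824 4096 ck_769 b (by omega) (by omega)
  rcases Nat.lt_or_ge b 3158016 with g2 | g2
  · exact chkURange_spec D C 3153920 4096 ck_770 b (by omega) (by omega)
  rcases Nat.lt_or_ge b 3162112 with g3 | g3
  · exact chkURange_spec D C 3158016 4096 ck_771 b (by omega) (by omega)
  rcases Nat.lt_or_ge b 3166208 with g4 | g4
  · exact chkURange_spec D C 3162112 4096 ck_772 b (by omega) (by omega)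
  rcases Nat.lt_or_ge b 3170304 with g5 | g5
  · exact chkURange_spec D C 3166208 4096 ck_773 b (by omega) (by omega)
  rcases Nat.lt_or_ge b 3174400 with g6 | g6
  · exact chkURange_spec D C 3170304 4096 ck_774 b (by omega) (by omega)
  rcases Nat.lt_or_ge b 3178496 with g7 | g7
  · exact chkURange_spec D C 3174400 4096 ck_775 b (by omega) (by omega)
  rcases Nat.lt_or_ge b 3182592 with g8 | g8
  · exact chkURange_spec D C 3178496 4096 ck_776 b (by omega) (by omega)
  rcases Nat.lt_or_ge b 3186688 with g9 | g9
  · exact chkURange_spec D C 3182592 4096 ck_777 b (by omega) (by omega)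
  rcases Nat.lt_or_ge b 3190784 with g10 | g10
  · exact chkURange_spec D C 3186688 4096 ck_778 b (by omega) (by omega)
  exact chkURange_spec D C 3190784 4096 ck_779 b (by omega) (by omega)
end Cfsg.Agent.Lib.Helper4.F24M.U2
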