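import Cfsg.Agent.Lib.Helper4.F24M.U2.Cert
set_option autoImplicit false
set_option maxRecDepth 1000000
set_option Elab.async false
namespace Cfsg.Agent.Lib.Helper4.F24M.U2
open Cfsg.Agent.Lib.Helper4.Sparse
theorem ck_780 : chkURange D C 3194880 4096 = true := by decide +kernel
theorem ck_781 : chkURange D C 3198976 4096 = true := by decide +kernel
theorem ck_782 : chkURange D C 3203072 4096 = true := by decide +kernel
theorem ck_783 : chkURange D C 3207168 4096 = true := by decide +kernel
theorem ck_784 : chkURange D C 3211264 4096 = true := by decide +kernel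
theorem ck_785 : chkURange D C 3215360 4096 = true := by decide +kernel
theorem ck_786 : chkURange D C 3219456 4096 = true := by decide +kernel
theorem ck_787 : chkURange D C 3223552 4096 = true := by decide +kernel
theorem ck_788 : chkURange D C 3227648 4096 = true := by decide +kernel
theorem ck_789 : chkURange D C 3231744 4096 = true := by decide +kernel
theorem ck_790 : chkURange D C 3235840 4096 = true := by decide +kernel
theorem ck_791 : chkURange D C 3239936 4096 = true := by decide +kernel
theorem chkU_65 (b : ℕ) (h1 : 3194880 ≤ b) (h2 : b < 3244032) : chkU D C b = true := by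
  rcases Nat.lt_or_ge b 3198976 with g0 | g0
  · exact chkURange_spec D C 3194880 4096 ck_780 b (by omega) (by omega)
  rcases Nat.lt_or_ge b 3203072 with g1 | g1
  · exact chkURange_spec D C 3198976 4096 ck_781 b (by omega) (by omega)
  rcases Nat.lt_or_ge b 3207168 with g2 | g2
  · exact chkURange_spec D C 3203072 4096 ck_782 b (by omega) (by omega)
  rcases Nat.lt_or_ge b 3211264 with g3 | g3
  · exact chkURange_spec D C 3207168 4096 ck_783 b (by omega) (by omega)
  rcases Nat.lt_or_ge b 3215360 with g4 | g4
  · exact chkURange_spec D C 3211264 4096 ck_784 b (by omega) (by omega)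
  rcases Nat.lt_or_ge b 3219456 with g5 | g5
  · exact chkURange_spec D C 3215360 4096 ck_785 b (by omega) (by omega)
  rcases Nat.lt_or_ge b 3223552 with g6 | g6
  · exact chkURange_spec D C 3219456 4096 ck_786 b (by omega) (by omega)
  rcases Nat.lt_or_ge b 3227648 with g7 | g7
  · exact chkURange_spec D C 3223552 4096 ck_787 b (by omega) (by omega)
  rcases Nat.lt_or_ge b 3231744 with g8 | g8
  · exact chkURange_spec D C 3227648 4096 ck_788 b (by omega) (by omega)
  rcases Nat.lt_or_ge b 3235840 with g9 | g9
  · exact chkURange_spec D C 3231744 4096 ck_789 b (by omega) (by omega)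
  rcases Nat.lt_or_ge b 3239936 with g10 | g10
  · exact chkURange_spec D C 3235840 4096 ck_790 b (by omega) (by omega)
  exact chkURange_spec D C 3239936 4096 ck_791 b (by omega) (by omega)
end Cfsg.Agent.Lib.Helper4.F24M.U2
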