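import Cfsg.Agent.Lib.Helper4.F24M.U2.Cert
set_option autoImplicit false
set_option maxRecDepth 1000000
set_option Elab.async false
namespace Cfsg.Agent.Lib.Helper4.F24M.U2
open Cfsg.Agent.Lib.Helper4.Sparse
theorem ck_792 : chkURange D C 3244032 4096 = true := by decide +kernel
theorem ck_793 : chkURange D C 3248128 4096 = true := by decide +kernel
theorem ck_794 : chkURange D C 3252224 4096 = true := by decide +kernel
theorem ck_795 : chkURange D C 3256320 4096 = true := by decide +kernel
theorem ck_796 : chkURange D C 3260416 4096 = true := by decide +kernel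
theorem ck_797 : chkURange D C 3264512 4096 = true := by decide +kernel
theorem ck_798 : chkURange D C 3268608 4096 = true := by decide +kernel
theorem ck_799 : chkURange D C 3272704 4096 = true := by decide +kernel
theorem ck_800 : chkURange D C 3276800 4096 = true := by decide +kernel
theorem ck_801 : chkURange D C 3280896 4096 = true := by decide +kernel
theorem ck_802 : chkURange D C 3284992 4096 = true := by decide +kernel
theorem ck_803 : chkURange D C 3289088 4096 = true := by decide +kernel
theorem chkU_66 (b : ℕ) (h1 : 3244032 ≤ b) (h2 : b < 3293184) : chkU D C b = true := by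
  rcases Nat.lt_or_ge b 3248128 with g0 | g0
  · exact chkURange_spec D C 3244032 4096 ck_792 b (by omega) (by omega)
  rcases Nat.lt_or_ge b 3252224 with g1 | g1
  · exact chkURange_spec D C 3248128 4096 ck_793 b (by omega) (by omega)
  rcases Nat.lt_or_ge b 3256320 with g2 | g2
  · exact chkURange_spec D C 3252224 4096 ck_794 b (by omega) (by omega)
  rcases Nat.lt_or_ge b 3260416 with g3 | g3
  · exact chkURange_spec D C 3256320 4096 ck_795 b (by omega) (by omega)
  rcases Nat.lt_or_ge b 3264512 with g4 | g4
  · exact chkURange_spec D C 3260416 4096 ck_796 b (by omega) (by omega)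
  rcases Nat.lt_or_ge b 3268608 with g5 | g5
  · exact chkURange_spec D C 3264512 4096 ck_797 b (by omega) (by omega)
  rcases Nat.lt_or_ge b 3272704 with g6 | g6
  · exact chkURange_spec D C 3268608 4096 ck_798 b (by omega) (by omega)
  rcases Nat.lt_or_ge b 3276800 with g7 | g7
  · exact chkURange_spec D C 3272704 4096 ck_799 b (by omega) (by omega)
  rcases Nat.lt_or_ge b 3280896 with g8 | g8
  · exact chkURange_spec D C 3276800 4096 ck_800 b (by omega) (by omega)
  rcases Nat.lt_or_ge b 3284992 with g9 | g9
  · exact chkURange_spec D C 3280896 4096 ck_801 b (by omega) (by omega)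
  rcases Nat.lt_or_ge b 3289088 with g10 | g10
  · exact chkURange_spec D C 3284992 4096 ck_802 b (by omega) (by omega)
  exact chkURange_spec D C 3289088 4096 ck_803 b (by omega) (by omega)
end Cfsg.Agent.Lib.Helper4.F24M.U2
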