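import Cfsg.Agent.Lib.Helper4.F24M.U2.Cert
set_option autoImplicit false
set_option maxRecDepth 1000000
set_option Elab.async false
namespace Cfsg.Agent.Lib.Helper4.F24M.U2
open Cfsg.Agent.Lib.Helper4.Sparse
theorem ck_804 : chkURange D C 3293184 4096 = true := by decide +kernel
theorem ck_805 : chkURange D C 3297280 4096 = true := by decide +kernel
theorem ck_806 : chkURange D C 3301376 4096 = true := by decide +kernel
theorem ck_807 : chkURange D C 3305472 4096 = true := by decide +kernel
theorem ck_808 : chkURange D C 3309568 4096 = true := by decide +kernel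
theorem ck_809 : chkURange D C 3313664 4096 = true := by decide +kernel
theorem ck_810 : chkURange D C 3317760 4096 = true := by decide +kernel
theorem ck_811 : chkURange D C 3321856 4096 = true := by decide +kernel
theorem ck_812 : chkURange D C 3325952 4096 = true := by decide +kernel
theorem ck_813 : chkURange D C 3330048 4096 = true := by decide +kernel
theorem ck_814 : chkURange D C 3334144 4096 = true := by decide +kernel
theorem ck_815 : chkURange D C 3338240 4096 = true := by decide +kernel
theorem chkU_67 (b : ℕ) (h1 : 3293184 ≤ b) (h2 : b < 3342336) : chkU D C b = true := by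
  rcases Nat.lt_or_ge b 3297280 with g0 | g0
  · exact chkURange_spec D C 3293184 4096 ck_804 b (by omega) (by omega)
  rcases Nat.lt_or_ge b 3301376 with g1 | g1
  · exact chkURange_spec D C 3297280 4096 ck_805 b (by omega) (by omega)
  rcases Nat.lt_or_ge b 3305472 with g2 | g2
  · exact chkURange_spec D C 3301376 4096 ck_806 b (by omega) (by omega)
  rcases Nat.lt_or_ge b 3309568 with g3 | g3
  · exact chkURange_spec D C 3305472 4096 ck_807 b (by omega) (by omega)
  rcases Nat.lt_or_ge b 3313664 with g4 | g4
  · exact chkURange_spec D C 3309568 4096 ck_808 b (by omega) (by omega)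
  rcases Nat.lt_or_ge b 3317760 with g5 | g5
  · exact chkURange_spec D C 3313664 4096 ck_809 b (by omega) (by omega)
  rcases Nat.lt_or_ge b 3321856 with g6 | g6
  · exact chkURange_spec D C 3317760 4096 ck_810 b (by omega) (by omega)
  rcases Nat.lt_or_ge b 3325952 with g7 | g7
  · exact chkURange_spec D C 3321856 4096 ck_811 b (by omega) (by omega)
  rcases Nat.lt_or_ge b 3330048 with g8 | g8
  · exact chkURange_spec D C 3325952 4096 ck_812 b (by omega) (by omega)
  rcases Nat.lt_or_ge b 3334144 with g9 | g9
  · exact chkURange_spec D C 3330048 4096 ck_813 b (by omega) (by omega)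
  rcases Nat.lt_or_ge b 3338240 with g10 | g10
  · exact chkURange_spec D C 3334144 4096 ck_814 b (by omega) (by omega)
  exact chkURange_spec D C 3338240 4096 ck_815 b (by omega) (by omega)
end Cfsg.Agent.Lib.Helper4.F24M.U2
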