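import Cfsg.Agent.Lib.Helper4.F24M.U2.Cert
set_option autoImplicit false
set_option maxRecDepth 1000000
set_option Elab.async false
namespace Cfsg.Agent.Lib.Helper4.F24M.U2
open Cfsg.Agent.Lib.Helper4.Sparse
theorem ck_816 : chkURange D C 3342336 4096 = true := by decide +kernel
theorem ck_817 : chkURange D C 3346432 4096 = true := by decide +kernel
theorem ck_818 : chkURange D C 3350528 4096 = true := by decide +kernel
theorem ck_819 : chkURange D C 3354624 4096 = true := by decide +kernel
theorem ck_820 : chkURange D C 3358720 4096 = true := by decide +kernel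
theorem ck_821 : chkURange D C 3362816 4096 = true := by decide +kernel
theorem ck_822 : chkURange D C 3366912 4096 = true := by decide +kernel
theorem ck_823 : chkURange D C 3371008 4096 = true := by decide +kernel
theorem ck_824 : chkURange D C 3375104 4096 = true := by decide +kernel
theorem ck_825 : chkURange D C 3379200 4096 = true := by decide +kernel
theorem ck_826 : chkURange D C 3383296 4096 = true := by decide +kernel
theorem ck_827 : chkURange D C 3387392 4096 = true := by decide +kernel
theorem chkU_68 (b : ℕ) (h1 : 3342336 ≤ b) (h2 : b < 3391488) : chkU D C b = true := by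
  rcases Nat.lt_or_ge b 3346432 with g0 | g0
  · exact chkURange_spec D C 3342336 4096 ck_816 b (by omega) (by omega)
  rcases Nat.lt_or_ge b 3350528 with g1 | g1
  · exact chkURange_spec D C 3346432 4096 ck_817 b (by omega) (by omega)
  rcases Nat.lt_or_ge b 3354624 with g2 | g2
  · exact chkURange_spec D C 3350528 4096 ck_818 b (by omega) (by omega)
  rcases Nat.lt_or_ge b 3358720 with g3 | g3
  · exact chkURange_spec D C 3354624 4096 ck_819 b (by omega) (by omega)
  rcases Nat.lt_or_ge b 3362816 with g4 | g4
  · exact chkURange_spec D C 3358720 4096 ck_820 b (by omega) (by omega)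
  rcases Nat.lt_or_ge b 3366912 with g5 | g5
  · exact chkURange_spec D C 3362816 4096 ck_821 b (by omega) (by omega)
  rcases Nat.lt_or_ge b 3371008 with g6 | g6
  · exact chkURange_spec D C 3366912 4096 ck_822 b (by omega) (by omega)
  rcases Nat.lt_or_ge b 3375104 with g7 | g7
  · exact chkURange_spec D C 3371008 4096 ck_823 b (by omega) (by omega)
  rcases Nat.lt_or_ge b 3379200 with g8 | g8
  · exact chkURange_spec D C 3375104 4096 ck_824 b (by omega) (by omega)
  rcases Nat.lt_or_ge b 3383296 with g9 | g9
  · exact chkURange_spec D C 3379200 4096 ck_825 b (by omega) (by omega)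
  rcases Nat.lt_or_ge b 3387392 with g10 | g10
  · exact chkURange_spec D C 3383296 4096 ck_826 b (by omega) (by omega)
  exact chkURange_spec D C 3387392 4096 ck_827 b (by omega) (by omega)
end Cfsg.Agent.Lib.Helper4.F24M.U2
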