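import Cfsg.Agent.Lib.Helper4.F24M.U2.Cert
set_option autoImplicit false
set_option maxRecDepth 1000000
set_option Elab.async false
namespace Cfsg.Agent.Lib.Helper4.F24M.U2
open Cfsg.Agent.Lib.Helper4.Sparse
theorem ck_828 : chkURange D C 3391488 4096 = true := by decide +kernel
theorem ck_829 : chkURange D C 3395584 4096 = true := by decide +kernel
theorem ck_830 : chkURange D C 3399680 4096 = true := by decide +kernel
theorem ck_831 : chkURange D C 3403776 4096 = true := by decide +kernel
theorem ck_832 : chkURange D C 3407872 4096 = true := by decide +kernel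
theorem ck_833 : chkURange D C 3411968 4096 = true := by decide +kernel
theorem ck_834 : chkURange D C 3416064 4096 = true := by decide +kernel
theorem ck_835 : chkURange D C 3420160 4096 = true := by decide +kernel
theorem ck_836 : chkURange D C 3424256 4096 = true := by decide +kernel
theorem ck_837 : chkURange D C 3428352 4096 = true := by decide +kernel
theorem ck_838 : chkURange D C 3432448 4096 = true := by decide +kernel
theorem ck_839 : chkURange D C 3436544 4096 = true := by decide +kernel
theorem chkU_69 (b : ℕ) (h1 : 3391488 ≤ b) (h2 : b < 3440640) : chkU D C b = true := by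
  rcases Nat.lt_or_ge b 3395584 with g0 | g0
  · exact chkURange_spec D C 3391488 4096 ck_828 b (by omega) (by omega)
  rcases Nat.lt_or_ge b 3399680 with g1 | g1
  · exact chkURange_spec D C 3395584 4096 ck_829 b (by omega) (by omega)
  rcases Nat.lt_or_ge b 3403776 with g2 | g2
  · exact chkURange_spec D C 3399680 4096 ck_830 b (by omega) (by omega)
  rcases Nat.lt_or_ge b 3407872 with g3 | g3
  · exact chkURange_spec D C 3403776 4096 ck_831 b (by omega) (by omega)
  rcases Nat.lt_or_ge b 3411968 with g4 | g4
  · exact chkURange_spec D C 3407872 4096 ck_832 b (by omega) (by omega)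
  rcases Nat.lt_or_ge b 3416064 with g5 | g5
  · exact chkURange_spec D C 3411968 4096 ck_833 b (by omega) (by omega)
  rcases Nat.lt_or_ge b 3420160 with g6 | g6
  · exact chkURange_spec D C 3416064 4096 ck_834 b (by omega) (by omega)
  rcases Nat.lt_or_ge b 3424256 with g7 | g7
  · exact chkURange_spec D C 3420160 4096 ck_835 b (by omega) (by omega)
  rcases Nat.lt_or_ge b 3428352 with g8 | g8
  · exact chkURange_spec D C 3424256 4096 ck_836 b (by omega) (by omega)
  rcases Nat.lt_or_ge b 3432448 with g9 | g9
  · exact chkURange_spec D C 3428352 4096 ck_837 b (by omega) (by omega)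
  rcases Nat.lt_or_ge b 3436544 with g10 | g10
  · exact chkURange_spec D C 3432448 4096 ck_838 b (by omega) (by omega)
  exact chkURange_spec D C 3436544 4096 ck_839 b (by omega) (by omega)
end Cfsg.Agent.Lib.Helper4.F24M.U2
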