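import Cfsg.Agent.Lib.Helper4.F24M.U2.E0
import Cfsg.Agent.Lib.Helper4.F24M.U2.E1
import Cfsg.Agent.Lib.Helper4.F24M.U2.E2
import Cfsg.Agent.Lib.Helper4.F24M.U2.E3
import Cfsg.Agent.Lib.Helper4.F24M.U2.E4
import Cfsg.Agent.Lib.Helper4.F24M.U2.E5
import Cfsg.Agent.Lib.Helper4.F24M.U2.E6
import Cfsg.Agent.Lib.Helper4.F24M.U2.E7
import Cfsg.Agent.Lib.Helper4.F24M.U2.E8
import Cfsg.Agent.Lib.Helper4.F24M.U2.E9
import Cfsg.Agent.Lib.Helper4.F24M.U2.E10
import Cfsg.Agent.Lib.Helper4.F24M.U2.E11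
import Cfsg.Agent.Lib.Helper4.F24M.U2.E12
import Cfsg.Agent.Lib.Helper4.F24M.U2.E13
import Cfsg.Agent.Lib.Helper4.F24M.U2.E14
set_option autoImplicit false

/-! # The entries of the sparse certificate -/

namespace Cfsg.Agent.Lib.Helper4.F24M.U2

noncomputable def eT0 (i : Nat) : Nat := Bool.rec (eL1 i) (eL2 i) (Nat.ble 2048 i)
noncomputable def eT1 (i : Nat) : Nat := Bool.rec (eL0 i) (eT0 i) (Nat.ble 1024 i)
noncomputable def eT2 (i : Nat) : Nat := Bool.rec (eL3 i) (eL4 i) (Nat.ble 4096 i)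
noncomputable def eT3 (i : Nat) : Nat := Bool.rec (eL5 i) (eL6 i) (Nat.ble 6144 i)
noncomputable def eT4 (i : Nat) : Nat := Bool.rec (eT2 i) (eT3 i) (Nat.ble 5120 i)
noncomputable def eT5 (i : Nat) : Nat := Bool.rec (eT1 i) (eT4 i) (Nat.ble 3072 i)
noncomputable def eT6 (i : Nat) : Nat := Bool.rec (eL8 i) (eL9 i) (Nat.ble 9216 i)
noncomputable def eT7 (i : Nat) : Nat := Bool.rec (eL7 i) (eT6 i) (Nat.ble 8192 i)
noncomputable def eT8 (i : Nat) : Nat := Bool.rec (eL10 i) (eL11 i) (Nat.ble 11264 i)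
noncomputable def eT9 (i : Nat) : Nat := Bool.rec (eL12 i) (eL13 i) (Nat.ble 13312 i)
noncomputable def eT10 (i : Nat) : Nat := Bool.rec (eT8 i) (eT9 i) (Nat.ble 12288 i)
noncomputable def eT11 (i : Nat) : Nat := Bool.rec (eT7 i) (eT10 i) (Nat.ble 10240 i)
noncomputable def eT12 (i : Nat) : Nat := Bool.rec (eT5 i) (eT11 i) (Nat.ble 7168 i)
noncomputable def eT13 (i : Nat) : Nat := Bool.rec (eL15 i) (eL16 i) (Nat.ble 16384 i)
noncomputable def eT14 (i : Nat) : Nat := Bool.rec (eL14 i) (eT13 i) (Nat.ble 15360 i)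
noncomputable def eT15 (i : Nat) : Nat := Bool.rec (eL17 i) (eL18 i) (Nat.ble 18432 i)
noncomputable def eT16 (i : Nat) : Nat := Bool.rec (eL19 i) (eL20 i) (Nat.ble 20480 i)
noncomputable def eT17 (i : Nat) : Nat := Bool.rec (eT15 i) (eT16 i) (Nat.ble 19456 i)
noncomputable def eT18 (i : Nat) : Nat := Bool.rec (eT14 i) (eT17 i) (Nat.ble 17408 i)
noncomputable def eT19 (i : Nat) : Nat := Bool.rec (eL22 i) (eL23 i) (Nat.ble 23552 i)
noncomputable def eT20 (i : Nat) : Nat := Bool.rec (eL21 i) (eT19 i) (Nat.ble 22528 i)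
noncomputable def eT21 (i : Nat) : Nat := Bool.rec (eL24 i) (eL25 i) (Nat.ble 25600 i)
noncomputable def eT22 (i : Nat) : Nat := Bool.rec (eL26 i) (eL27 i) (Nat.ble 27648 i)
noncomputable def eT23 (i : Nat) : Nat := Bool.rec (eT21 i) (eT22 i) (Nat.ble 26624 i)
noncomputable def eT24 (i : Nat) : Nat := Bool.rec (eT20 i) (eT23 i) (Nat.ble 24576 i)
noncomputable def eT25 (i : Nat) : Nat := Bool.rec (eT18 i) (eT24 i) (Nat.ble 21504 i)
noncomputable def eT26 (i : Nat) : Nat := Bool.rec (eT12 i) (eT25 i) (Nat.ble 14336 i)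
noncomputable def eT27 (i : Nat) : Nat := Bool.rec (eL29 i) (eL30 i) (Nat.ble 30720 i)
noncomputable def eT28 (i : Nat) : Nat := Bool.rec (eL28 i) (eT27 i) (Nat.ble 29696 i)
noncomputable def eT29 (i : Nat) : Nat := Bool.rec (eL31 i) (eL32 i) (Nat.ble 32768 i)
noncomputable def eT30 (i : Nat) : Nat := Bool.rec (eL33 i) (eL34 i) (Nat.ble 34816 i)
noncomputable def eT31 (i : Nat) : Nat := Bool.rec (eT29 i) (eT30 i) (Nat.ble 33792 i)
noncomputable def eT32 (i : Nat) : Nat := Bool.rec (eT28 i) (eT31 i) (Nat.ble 31744 i)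
noncomputable def eT33 (i : Nat) : Nat := Bool.rec (eL36 i) (eL37 i) (Nat.ble 37888 i)
noncomputable def eT34 (i : Nat) : Nat := Bool.rec (eL35 i) (eT33 i) (Nat.ble 36864 i)
noncomputable def eT35 (i : Nat) : Nat := Bool.rec (eL38 i) (eL39 i) (Nat.ble 39936 i)
noncomputable def eT36 (i : Nat) : Nat := Bool.rec (eL40 i) (eL41 i) (Nat.ble 41984 i)
noncomputable def eT37 (i : Nat) : Nat := Bool.rec (eT35 i) (eT36 i) (Nat.ble 40960 i)
noncomputable def eT38 (i : Nat) : Nat := Bool.rec (eT34 i) (eT37 i) (Nat.ble 38912 i)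
noncomputable def eT39 (i : Nat) : Nat := Bool.rec (eT32 i) (eT38 i) (Nat.ble 35840 i)
noncomputable def eT40 (i : Nat) : Nat := Bool.rec (eL43 i) (eL44 i) (Nat.ble 45056 i)
noncomputable def eT41 (i : Nat) : Nat := Bool.rec (eL42 i) (eT40 i) (Nat.ble 44032 i)
noncomputable def eT42 (i : Nat) : Nat := Bool.rec (eL45 i) (eL46 i) (Nat.ble 47104 i)
noncomputable def eT43 (i : Nat) : Nat := Bool.rec (eL47 i) (eL48 i) (Nat.ble 49152 i)
noncomputable def eT44 (i : Nat) : Nat := Bool.rec (eT42 i) (eT43 i) (Nat.ble 48128 i)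
noncomputable def eT45 (i : Nat) : Nat := Bool.rec (eT41 i) (eT44 i) (Nat.ble 46080 i)
noncomputable def eT46 (i : Nat) : Nat := Bool.rec (eL50 i) (eL51 i) (Nat.ble 52224 i)
noncomputable def eT47 (i : Nat) : Nat := Bool.rec (eL49 i) (eT46 i) (Nat.ble 51200 i)
noncomputable def eT48 (i : Nat) : Nat := Bool.rec (eL52 i) (eL53 i) (Nat.ble 54272 i)
noncomputable def eT49 (i : Nat) : Nat := Bool.rec (eL54 i) (eL55 i) (Nat.ble 56320 i)
noncomputable def eT50 (i : Nat) : Nat := Bool.rec (eT48 i) (eT49 i) (Nat.ble 55296 i)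
noncomputable def eT51 (i : Nat) : Nat := Bool.rec (eT47 i) (eT50 i) (Nat.ble 53248 i)
noncomputable def eT52 (i : Nat) : Nat := Bool.rec (eT45 i) (eT51 i) (Nat.ble 50176 i)
noncomputable def eT53 (i : Nat) : Nat := Bool.rec (eT39 i) (eT52 i) (Nat.ble 43008 i)
noncomputable def eT54 (i : Nat) : Nat := Bool.rec (eT26 i) (eT53 i) (Nat.ble 28672 i)
noncomputable def eT55 (i : Nat) : Nat := Bool.rec (eL57 i) (eL58 i) (Nat.ble 59392 i)
noncomputable def eT56 (i : Nat) : Nat := Bool.rec (eL56 i) (eT55 i) (Nat.ble 58368 i)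
noncomputable def eT57 (i : Nat) : Nat := Bool.rec (eL59 i) (eL60 i) (Nat.ble 61440 i)
noncomputable def eT58 (i : Nat) : Nat := Bool.rec (eL61 i) (eL62 i) (Nat.ble 63488 i)
noncomputable def eT59 (i : Nat) : Nat := Bool.rec (eT57 i) (eT58 i) (Nat.ble 62464 i)
noncomputable def eT60 (i : Nat) : Nat := Bool.rec (eT56 i) (eT59 i) (Nat.ble 60416 i)
noncomputable def eT61 (i : Nat) : Nat := Bool.rec (eL64 i) (eL65 i) (Nat.ble 66560 i)
noncomputable def eT62 (i : Nat) : Nat := Bool.rec (eL63 i) (eT61 i) (Nat.ble 65536 i)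
noncomputable def eT63 (i : Nat) : Nat := Bool.rec (eL66 i) (eL67 i) (Nat.ble 68608 i)
noncomputable def eT64 (i : Nat) : Nat := Bool.rec (eL68 i) (eL69 i) (Nat.ble 70656 i)
noncomputable def eT65 (i : Nat) : Nat := Bool.rec (eT63 i) (eT64 i) (Nat.ble 69632 i)
noncomputable def eT66 (i : Nat) : Nat := Bool.rec (eT62 i) (eT65 i) (Nat.ble 67584 i)
noncomputable def eT67 (i : Nat) : Nat := Bool.rec (eT60 i) (eT66 i) (Nat.ble 64512 i)
noncomputable def eT68 (i : Nat) : Nat := Bool.rec (eL71 i) (eL72 i) (Nat.ble 73728 i)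
noncomputable def eT69 (i : Nat) : Nat := Bool.rec (eL70 i) (eT68 i) (Nat.ble 72704 i)
noncomputable def eT70 (i : Nat) : Nat := Bool.rec (eL73 i) (eL74 i) (Nat.ble 75776 i)
noncomputable def eT71 (i : Nat) : Nat := Bool.rec (eL75 i) (eL76 i) (Nat.ble 77824 i)
noncomputable def eT72 (i : Nat) : Nat := Bool.rec (eT70 i) (eT71 i) (Nat.ble 76800 i)
noncomputable def eT73 (i : Nat) : Nat := Bool.rec (eT69 i) (eT72 i) (Nat.ble 74752 i)
noncomputable def eT74 (i : Nat) : Nat := Bool.rec (eL78 i) (eL79 i) (Nat.ble 80896 i)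
noncomputable def eT75 (i : Nat) : Nat := Bool.rec (eL77 i) (eT74 i) (Nat.ble 79872 i)
noncomputable def eT76 (i : Nat) : Nat := Bool.rec (eL80 i) (eL81 i) (Nat.ble 82944 i)
noncomputable def eT77 (i : Nat) : Nat := Bool.rec (eL82 i) (eL83 i) (Nat.ble 84992 i)
noncomputable def eT78 (i : Nat) : Nat := Bool.rec (eT76 i) (eT77 i) (Nat.ble 83968 i)
noncomputable def eT79 (i : Nat) : Nat := Bool.rec (eT75 i) (eT78 i) (Nat.ble 81920 i)
noncomputable def eT80 (i : Nat) : Nat := Bool.rec (eT73 i) (eT79 i) (Nat.ble 78848 i)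
noncomputable def eT81 (i : Nat) : Nat := Bool.rec (eT67 i) (eT80 i) (Nat.ble 71680 i)
noncomputable def eT82 (i : Nat) : Nat := Bool.rec (eL85 i) (eL86 i) (Nat.ble 88064 i)
noncomputable def eT83 (i : Nat) : Nat := Bool.rec (eL84 i) (eT82 i) (Nat.ble 87040 i)
noncomputable def eT84 (i : Nat) : Nat := Bool.rec (eL87 i) (eL88 i) (Nat.ble 90112 i)
noncomputable def eT85 (i : Nat) : Nat := Bool.rec (eL89 i) (eL90 i) (Nat.ble 92160 i)
noncomputable def eT86 (i : Nat) : Nat := Bool.rec (eT84 i) (eT85 i) (Nat.ble 91136 i)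
noncomputable def eT87 (i : Nat) : Nat := Bool.rec (eT83 i) (eT86 i) (Nat.ble 89088 i)
noncomputable def eT88 (i : Nat) : Nat := Bool.rec (eL92 i) (eL93 i) (Nat.ble 95232 i)
noncomputable def eT89 (i : Nat) : Nat := Bool.rec (eL91 i) (eT88 i) (Nat.ble 94208 i)
noncomputable def eT90 (i : Nat) : Nat := Bool.rec (eL94 i) (eL95 i) (Nat.ble 97280 i)
noncomputable def eT91 (i : Nat) : Nat := Bool.rec (eL96 i) (eL97 i) (Nat.ble 99328 i)
noncomputable def eT92 (i : Nat) : Nat := Bool.rec (eT90 i) (eT91 i) (Nat.ble 98304 i)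
noncomputable def eT93 (i : Nat) : Nat := Bool.rec (eT89 i) (eT92 i) (Nat.ble 96256 i)
noncomputable def eT94 (i : Nat) : Nat := Bool.rec (eT87 i) (eT93 i) (Nat.ble 93184 i)
noncomputable def eT95 (i : Nat) : Nat := Bool.rec (eL99 i) (eL100 i) (Nat.ble 102400 i)
noncomputable def eT96 (i : Nat) : Nat := Bool.rec (eL98 i) (eT95 i) (Nat.ble 101376 i)
noncomputable def eT97 (i : Nat) : Nat := Bool.rec (eL101 i) (eL102 i) (Nat.ble 104448 i)
noncomputable def eT98 (i : Nat) : Nat := Bool.rec (eL103 i) (eL104 i) (Nat.ble 106496 i)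
noncomputable def eT99 (i : Nat) : Nat := Bool.rec (eT97 i) (eT98 i) (Nat.ble 105472 i)
noncomputable def eT100 (i : Nat) : Nat := Bool.rec (eT96 i) (eT99 i) (Nat.ble 103424 i)
noncomputable def eT101 (i : Nat) : Nat := Bool.rec (eL106 i) (eL107 i) (Nat.ble 109568 i)
noncomputable def eT102 (i : Nat) : Nat := Bool.rec (eL105 i) (eT101 i) (Nat.ble 108544 i)
noncomputable def eT103 (i : Nat) : Nat := Bool.rec (eL108 i) (eL109 i) (Nat.ble 111616 i)
noncomputable def eT104 (i : Nat) : Nat := Bool.rec (eL110 i) (eL111 i) (Nat.ble 113664 i)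
noncomputable def eT105 (i : Nat) : Nat := Bool.rec (eT103 i) (eT104 i) (Nat.ble 112640 i)
noncomputable def eT106 (i : Nat) : Nat := Bool.rec (eT102 i) (eT105 i) (Nat.ble 110592 i)
noncomputable def eT107 (i : Nat) : Nat := Bool.rec (eT100 i) (eT106 i) (Nat.ble 107520 i)
noncomputable def eT108 (i : Nat) : Nat := Bool.rec (eT94 i) (eT107 i) (Nat.ble 100352 i)
noncomputable def eT109 (i : Nat) : Nat := Bool.rec (eT81 i) (eT108 i) (Nat.ble 86016 i)
noncomputable def eT110 (i : Nat) : Nat := Bool.rec (eT54 i) (eT109 i) (Nat.ble 57344 i)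
noncomputable def eT111 (i : Nat) : Nat := Bool.rec (eL113 i) (eL114 i) (Nat.ble 116736 i)
noncomputable def eT112 (i : Nat) : Nat := Bool.rec (eL112 i) (eT111 i) (Nat.ble 115712 i)
noncomputable def eT113 (i : Nat) : Nat := Bool.rec (eL115 i) (eL116 i) (Nat.ble 118784 i)
noncomputable def eT114 (i : Nat) : Nat := Bool.rec (eL117 i) (eL118 i) (Nat.ble 120832 i)
noncomputable def eT115 (i : Nat) : Nat := Bool.rec (eT113 i) (eT114 i) (Nat.ble 119808 i)
noncomputable def eT116 (i : Nat) : Nat := Bool.rec (eT112 i) (eT115 i) (Nat.ble 117760 i)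
noncomputable def eT117 (i : Nat) : Nat := Bool.rec (eL120 i) (eL121 i) (Nat.ble 123904 i)
noncomputable def eT118 (i : Nat) : Nat := Bool.rec (eL119 i) (eT117 i) (Nat.ble 122880 i)
noncomputable def eT119 (i : Nat) : Nat := Bool.rec (eL122 i) (eL123 i) (Nat.ble 125952 i)
noncomputable def eT120 (i : Nat) : Nat := Bool.rec (eL124 i) (eL125 i) (Nat.ble 128000 i)
noncomputable def eT121 (i : Nat) : Nat := Bool.rec (eT119 i) (eT120 i) (Nat.ble 126976 i)
noncomputable def eT122 (i : Nat) : Nat := Bool.rec (eT118 i) (eT121 i) (Nat.ble 124928 i)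
noncomputable def eT123 (i : Nat) : Nat := Bool.rec (eT116 i) (eT122 i) (Nat.ble 121856 i)
noncomputable def eT124 (i : Nat) : Nat := Bool.rec (eL127 i) (eL128 i) (Nat.ble 131072 i)
noncomputable def eT125 (i : Nat) : Nat := Bool.rec (eL126 i) (eT124 i) (Nat.ble 130048 i)
noncomputable def eT126 (i : Nat) : Nat := Bool.rec (eL129 i) (eL130 i) (Nat.ble 133120 i)
noncomputable def eT127 (i : Nat) : Nat := Bool.rec (eL131 i) (eL132 i) (Nat.ble 135168 i)
noncomputable def eT128 (i : Nat) : Nat := Bool.rec (eT126 i) (eT127 i) (Nat.ble 134144 i)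
noncomputable def eT129 (i : Nat) : Nat := Bool.rec (eT125 i) (eT128 i) (Nat.ble 132096 i)
noncomputable def eT130 (i : Nat) : Nat := Bool.rec (eL134 i) (eL135 i) (Nat.ble 138240 i)
noncomputable def eT131 (i : Nat) : Nat := Bool.rec (eL133 i) (eT130 i) (Nat.ble 137216 i)
noncomputable def eT132 (i : Nat) : Nat := Bool.rec (eL136 i) (eL137 i) (Nat.ble 140288 i)
noncomputable def eT133 (i : Nat) : Nat := Bool.rec (eL138 i) (eL139 i) (Nat.ble 142336 i)
noncomputable def eT134 (i : Nat) : Nat := Bool.rec (eT132 i) (eT133 i) (Nat.ble 141312 i)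
noncomputable def eT135 (i : Nat) : Nat := Bool.rec (eT131 i) (eT134 i) (Nat.ble 139264 i)
noncomputable def eT136 (i : Nat) : Nat := Bool.rec (eT129 i) (eT135 i) (Nat.ble 136192 i)
noncomputable def eT137 (i : Nat) : Nat := Bool.rec (eT123 i) (eT136 i) (Nat.ble 129024 i)
noncomputable def eT138 (i : Nat) : Nat := Bool.rec (eL141 i) (eL142 i) (Nat.ble 145408 i)
noncomputable def eT139 (i : Nat) : Nat := Bool.rec (eL140 i) (eT138 i) (Nat.ble 144384 i)
noncomputable def eT140 (i : Nat) : Nat := Bool.rec (eL143 i) (eL144 i) (Nat.ble 147456 i)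
noncomputable def eT141 (i : Nat) : Nat := Bool.rec (eL145 i) (eL146 i) (Nat.ble 149504 i)
noncomputable def eT142 (i : Nat) : Nat := Bool.rec (eT140 i) (eT141 i) (Nat.ble 148480 i)
noncomputable def eT143 (i : Nat) : Nat := Bool.rec (eT139 i) (eT142 i) (Nat.ble 146432 i)
noncomputable def eT144 (i : Nat) : Nat := Bool.rec (eL148 i) (eL149 i) (Nat.ble 152576 i)
noncomputable def eT145 (i : Nat) : Nat := Bool.rec (eL147 i) (eT144 i) (Nat.ble 151552 i)
noncomputable def eT146 (i : Nat) : Nat := Bool.rec (eL150 i) (eL151 i) (Nat.ble 154624 i)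
noncomputable def eT147 (i : Nat) : Nat := Bool.rec (eL152 i) (eL153 i) (Nat.ble 156672 i)
noncomputable def eT148 (i : Nat) : Nat := Bool.rec (eT146 i) (eT147 i) (Nat.ble 155648 i)
noncomputable def eT149 (i : Nat) : Nat := Bool.rec (eT145 i) (eT148 i) (Nat.ble 153600 i)
noncomputable def eT150 (i : Nat) : Nat := Bool.rec (eT143 i) (eT149 i) (Nat.ble 150528 i)
noncomputable def eT151 (i : Nat) : Nat := Bool.rec (eL155 i) (eL156 i) (Nat.ble 159744 i)
noncomputable def eT152 (i : Nat) : Nat := Bool.rec (eL154 i) (eT151 i) (Nat.ble 158720 i)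
noncomputable def eT153 (i : Nat) : Nat := Bool.rec (eL157 i) (eL158 i) (Nat.ble 161792 i)
noncomputable def eT154 (i : Nat) : Nat := Bool.rec (eL159 i) (eL160 i) (Nat.ble 163840 i)
noncomputable def eT155 (i : Nat) : Nat := Bool.rec (eT153 i) (eT154 i) (Nat.ble 162816 i)
noncomputable def eT156 (i : Nat) : Nat := Bool.rec (eT152 i) (eT155 i) (Nat.ble 160768 i)
noncomputable def eT157 (i : Nat) : Nat := Bool.rec (eL162 i) (eL163 i) (Nat.ble 166912 i)
noncomputable def eT158 (i : Nat) : Nat := Bool.rec (eL161 i) (eT157 i) (Nat.ble 165888 i)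
noncomputable def eT159 (i : Nat) : Nat := Bool.rec (eL164 i) (eL165 i) (Nat.ble 168960 i)
noncomputable def eT160 (i : Nat) : Nat := Bool.rec (eL166 i) (eL167 i) (Nat.ble 171008 i)
noncomputable def eT161 (i : Nat) : Nat := Bool.rec (eT159 i) (eT160 i) (Nat.ble 169984 i)
noncomputable def eT162 (i : Nat) : Nat := Bool.rec (eT158 i) (eT161 i) (Nat.ble 167936 i)
noncomputable def eT163 (i : Nat) : Nat := Bool.rec (eT156 i) (eT162 i) (Nat.ble 164864 i)
noncomputable def eT164 (i : Nat) : Nat := Bool.rec (eT150 i) (eT163 i) (Nat.ble 157696 i)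
noncomputable def eT165 (i : Nat) : Nat := Bool.rec (eT137 i) (eT164 i) (Nat.ble 143360 i)
noncomputable def eT166 (i : Nat) : Nat := Bool.rec (eL169 i) (eL170 i) (Nat.ble 174080 i)
noncomputable def eT167 (i : Nat) : Nat := Bool.rec (eL168 i) (eT166 i) (Nat.ble 173056 i)
noncomputable def eT168 (i : Nat) : Nat := Bool.rec (eL171 i) (eL172 i) (Nat.ble 176128 i)
noncomputable def eT169 (i : Nat) : Nat := Bool.rec (eL173 i) (eL174 i) (Nat.ble 178176 i)
noncomputable def eT170 (i : Nat) : Nat := Bool.rec (eT168 i) (eT169 i) (Nat.ble 177152 i)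
noncomputable def eT171 (i : Nat) : Nat := Bool.rec (eT167 i) (eT170 i) (Nat.ble 175104 i)
noncomputable def eT172 (i : Nat) : Nat := Bool.rec (eL176 i) (eL177 i) (Nat.ble 181248 i)
noncomputable def eT173 (i : Nat) : Nat := Bool.rec (eL175 i) (eT172 i) (Nat.ble 180224 i)
noncomputable def eT174 (i : Nat) : Nat := Bool.rec (eL178 i) (eL179 i) (Nat.ble 183296 i)
noncomputable def eT175 (i : Nat) : Nat := Bool.rec (eL180 i) (eL181 i) (Nat.ble 185344 i)
noncomputable def eT176 (i : Nat) : Nat := Bool.rec (eT174 i) (eT175 i) (Nat.ble 184320 i)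
noncomputable def eT177 (i : Nat) : Nat := Bool.rec (eT173 i) (eT176 i) (Nat.ble 182272 i)
noncomputable def eT178 (i : Nat) : Nat := Bool.rec (eT171 i) (eT177 i) (Nat.ble 179200 i)
noncomputable def eT179 (i : Nat) : Nat := Bool.rec (eL183 i) (eL184 i) (Nat.ble 188416 i)
noncomputable def eT180 (i : Nat) : Nat := Bool.rec (eL182 i) (eT179 i) (Nat.ble 187392 i)
noncomputable def eT181 (i : Nat) : Nat := Bool.rec (eL185 i) (eL186 i) (Nat.ble 190464 i)
noncomputable def eT182 (i : Nat) : Nat := Bool.rec (eL187 i) (eL188 i) (Nat.ble 192512 i)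
noncomputable def eT183 (i : Nat) : Nat := Bool.rec (eT181 i) (eT182 i) (Nat.ble 191488 i)
noncomputable def eT184 (i : Nat) : Nat := Bool.rec (eT180 i) (eT183 i) (Nat.ble 189440 i)
noncomputable def eT185 (i : Nat) : Nat := Bool.rec (eL190 i) (eL191 i) (Nat.ble 195584 i)
noncomputable def eT186 (i : Nat) : Nat := Bool.rec (eL189 i) (eT185 i) (Nat.ble 194560 i)
noncomputable def eT187 (i : Nat) : Nat := Bool.rec (eL192 i) (eL193 i) (Nat.ble 197632 i)
noncomputable def eT188 (i : Nat) : Nat := Bool.rec (eL194 i) (eL195 i) (Nat.ble 199680 i)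
noncomputable def eT189 (i : Nat) : Nat := Bool.rec (eT187 i) (eT188 i) (Nat.ble 198656 i)
noncomputable def eT190 (i : Nat) : Nat := Bool.rec (eT186 i) (eT189 i) (Nat.ble 196608 i)
noncomputable def eT191 (i : Nat) : Nat := Bool.rec (eT184 i) (eT190 i) (Nat.ble 193536 i)
noncomputable def eT192 (i : Nat) : Nat := Bool.rec (eT178 i) (eT191 i) (Nat.ble 186368 i)
noncomputable def eT193 (i : Nat) : Nat := Bool.rec (eL197 i) (eL198 i) (Nat.ble 202752 i)
noncomputable def eT194 (i : Nat) : Nat := Bool.rec (eL196 i) (eT193 i) (Nat.ble 201728 i)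
noncomputable def eT195 (i : Nat) : Nat := Bool.rec (eL199 i) (eL200 i) (Nat.ble 204800 i)
noncomputable def eT196 (i : Nat) : Nat := Bool.rec (eL201 i) (eL202 i) (Nat.ble 206848 i)
noncomputable def eT197 (i : Nat) : Nat := Bool.rec (eT195 i) (eT196 i) (Nat.ble 205824 i)
noncomputable def eT198 (i : Nat) : Nat := Bool.rec (eT194 i) (eT197 i) (Nat.ble 203776 i)
noncomputable def eT199 (i : Nat) : Nat := Bool.rec (eL204 i) (eL205 i) (Nat.ble 209920 i)
noncomputable def eT200 (i : Nat) : Nat := Bool.rec (eL203 i) (eT199 i) (Nat.ble 208896 i)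
noncomputable def eT201 (i : Nat) : Nat := Bool.rec (eL206 i) (eL207 i) (Nat.ble 211968 i)
noncomputable def eT202 (i : Nat) : Nat := Bool.rec (eL208 i) (eL209 i) (Nat.ble 214016 i)
noncomputable def eT203 (i : Nat) : Nat := Bool.rec (eT201 i) (eT202 i) (Nat.ble 212992 i)
noncomputable def eT204 (i : Nat) : Nat := Bool.rec (eT200 i) (eT203 i) (Nat.ble 210944 i)
noncomputable def eT205 (i : Nat) : Nat := Bool.rec (eT198 i) (eT204 i) (Nat.ble 207872 i)
noncomputable def eT206 (i : Nat) : Nat := Bool.rec (eL211 i) (eL212 i) (Nat.ble 217088 i)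
noncomputable def eT207 (i : Nat) : Nat := Bool.rec (eL210 i) (eT206 i) (Nat.ble 216064 i)
noncomputable def eT208 (i : Nat) : Nat := Bool.rec (eL213 i) (eL214 i) (Nat.ble 219136 i)
noncomputable def eT209 (i : Nat) : Nat := Bool.rec (eL215 i) (eL216 i) (Nat.ble 221184 i)
noncomputable def eT210 (i : Nat) : Nat := Bool.rec (eT208 i) (eT209 i) (Nat.ble 220160 i)
noncomputable def eT211 (i : Nat) : Nat := Bool.rec (eT207 i) (eT210 i) (Nat.ble 218112 i)
noncomputable def eT212 (i : Nat) : Nat := Bool.rec (eL218 i) (eL219 i) (Nat.ble 224256 i)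
noncomputable def eT213 (i : Nat) : Nat := Bool.rec (eL217 i) (eT212 i) (Nat.ble 223232 i)
noncomputable def eT214 (i : Nat) : Nat := Bool.rec (eL220 i) (eL221 i) (Nat.ble 226304 i)
noncomputable def eT215 (i : Nat) : Nat := Bool.rec (eL222 i) (eL223 i) (Nat.ble 228352 i)
noncomputable def eT216 (i : Nat) : Nat := Bool.rec (eT214 i) (eT215 i) (Nat.ble 227328 i)
noncomputable def eT217 (i : Nat) : Nat := Bool.rec (eT213 i) (eT216 i) (Nat.ble 225280 i)
noncomputable def eT218 (i : Nat) : Nat := Bool.rec (eT211 i) (eT217 i) (Nat.ble 222208 i)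
noncomputable def eT219 (i : Nat) : Nat := Bool.rec (eT205 i) (eT218 i) (Nat.ble 215040 i)
noncomputable def eT220 (i : Nat) : Nat := Bool.rec (eT192 i) (eT219 i) (Nat.ble 200704 i)
noncomputable def eT221 (i : Nat) : Nat := Bool.rec (eT165 i) (eT220 i) (Nat.ble 172032 i)
noncomputable def eT222 (i : Nat) : Nat := Bool.rec (eT110 i) (eT221 i) (Nat.ble 114688 i)
noncomputable def eT223 (i : Nat) : Nat := Bool.rec (eL225 i) (eL226 i) (Nat.ble 231424 i)
noncomputable def eT224 (i : Nat) : Nat := Bool.rec (eL224 i) (eT223 i) (Nat.ble 230400 i)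
noncomputable def eT225 (i : Nat) : Nat := Bool.rec (eL227 i) (eL228 i) (Nat.ble 233472 i)
noncomputable def eT226 (i : Nat) : Nat := Bool.rec (eL229 i) (eL230 i) (Nat.ble 235520 i)
noncomputable def eT227 (i : Nat) : Nat := Bool.rec (eT225 i) (eT226 i) (Nat.ble 234496 i)
noncomputable def eT228 (i : Nat) : Nat := Bool.rec (eT224 i) (eT227 i) (Nat.ble 232448 i)
noncomputable def eT229 (i : Nat) : Nat := Bool.rec (eL232 i) (eL233 i) (Nat.ble 238592 i)
noncomputable def eT230 (i : Nat) : Nat := Bool.rec (eL231 i) (eT229 i) (Nat.ble 237568 i)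
noncomputable def eT231 (i : Nat) : Nat := Bool.rec (eL234 i) (eL235 i) (Nat.ble 240640 i)
noncomputable def eT232 (i : Nat) : Nat := Bool.rec (eL236 i) (eL237 i) (Nat.ble 242688 i)
noncomputable def eT233 (i : Nat) : Nat := Bool.rec (eT231 i) (eT232 i) (Nat.ble 241664 i)
noncomputable def eT234 (i : Nat) : Nat := Bool.rec (eT230 i) (eT233 i) (Nat.ble 239616 i)
noncomputable def eT235 (i : Nat) : Nat := Bool.rec (eT228 i) (eT234 i) (Nat.ble 236544 i)
noncomputable def eT236 (i : Nat) : Nat := Bool.rec (eL239 i) (eL240 i) (Nat.ble 245760 i)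
noncomputable def eT237 (i : Nat) : Nat := Bool.rec (eL238 i) (eT236 i) (Nat.ble 244736 i)
noncomputable def eT238 (i : Nat) : Nat := Bool.rec (eL241 i) (eL242 i) (Nat.ble 247808 i)
noncomputable def eT239 (i : Nat) : Nat := Bool.rec (eL243 i) (eL244 i) (Nat.ble 249856 i)
noncomputable def eT240 (i : Nat) : Nat := Bool.rec (eT238 i) (eT239 i) (Nat.ble 248832 i)
noncomputable def eT241 (i : Nat) : Nat := Bool.rec (eT237 i) (eT240 i) (Nat.ble 246784 i)
noncomputable def eT242 (i : Nat) : Nat := Bool.rec (eL246 i) (eL247 i) (Nat.ble 252928 i)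
noncomputable def eT243 (i : Nat) : Nat := Bool.rec (eL245 i) (eT242 i) (Nat.ble 251904 i)
noncomputable def eT244 (i : Nat) : Nat := Bool.rec (eL248 i) (eL249 i) (Nat.ble 254976 i)
noncomputable def eT245 (i : Nat) : Nat := Bool.rec (eL250 i) (eL251 i) (Nat.ble 257024 i)
noncomputable def eT246 (i : Nat) : Nat := Bool.rec (eT244 i) (eT245 i) (Nat.ble 256000 i)
noncomputable def eT247 (i : Nat) : Nat := Bool.rec (eT243 i) (eT246 i) (Nat.ble 253952 i)
noncomputable def eT248 (i : Nat) : Nat := Bool.rec (eT241 i) (eT247 i) (Nat.ble 250880 i)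
noncomputable def eT249 (i : Nat) : Nat := Bool.rec (eT235 i) (eT248 i) (Nat.ble 243712 i)
noncomputable def eT250 (i : Nat) : Nat := Bool.rec (eL253 i) (eL254 i) (Nat.ble 260096 i)
noncomputable def eT251 (i : Nat) : Nat := Bool.rec (eL252 i) (eT250 i) (Nat.ble 259072 i)
noncomputable def eT252 (i : Nat) : Nat := Bool.rec (eL255 i) (eL256 i) (Nat.ble 262144 i)
noncomputable def eT253 (i : Nat) : Nat := Bool.rec (eL257 i) (eL258 i) (Nat.ble 264192 i)
noncomputable def eT254 (i : Nat) : Nat := Bool.rec (eT252 i) (eT253 i) (Nat.ble 263168 i)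
noncomputable def eT255 (i : Nat) : Nat := Bool.rec (eT251 i) (eT254 i) (Nat.ble 261120 i)
noncomputable def eT256 (i : Nat) : Nat := Bool.rec (eL260 i) (eL261 i) (Nat.ble 267264 i)
noncomputable def eT257 (i : Nat) : Nat := Bool.rec (eL259 i) (eT256 i) (Nat.ble 266240 i)
noncomputable def eT258 (i : Nat) : Nat := Bool.rec (eL262 i) (eL263 i) (Nat.ble 269312 i)
noncomputable def eT259 (i : Nat) : Nat := Bool.rec (eL264 i) (eL265 i) (Nat.ble 271360 i)
noncomputable def eT260 (i : Nat) : Nat := Bool.rec (eT258 i) (eT259 i) (Nat.ble 270336 i)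
noncomputable def eT261 (i : Nat) : Nat := Bool.rec (eT257 i) (eT260 i) (Nat.ble 268288 i)
noncomputable def eT262 (i : Nat) : Nat := Bool.rec (eT255 i) (eT261 i) (Nat.ble 265216 i)
noncomputable def eT263 (i : Nat) : Nat := Bool.rec (eL267 i) (eL268 i) (Nat.ble 274432 i)
noncomputable def eT264 (i : Nat) : Nat := Bool.rec (eL266 i) (eT263 i) (Nat.ble 273408 i)
noncomputable def eT265 (i : Nat) : Nat := Bool.rec (eL269 i) (eL270 i) (Nat.ble 276480 i)
noncomputable def eT266 (i : Nat) : Nat := Bool.rec (eL271 i) (eL272 i) (Nat.ble 278528 i)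
noncomputable def eT267 (i : Nat) : Nat := Bool.rec (eT265 i) (eT266 i) (Nat.ble 277504 i)
noncomputable def eT268 (i : Nat) : Nat := Bool.rec (eT264 i) (eT267 i) (Nat.ble 275456 i)
noncomputable def eT269 (i : Nat) : Nat := Bool.rec (eL274 i) (eL275 i) (Nat.ble 281600 i)
noncomputable def eT270 (i : Nat) : Nat := Bool.rec (eL273 i) (eT269 i) (Nat.ble 280576 i)
noncomputable def eT271 (i : Nat) : Nat := Bool.rec (eL276 i) (eL277 i) (Nat.ble 283648 i)
noncomputable def eT272 (i : Nat) : Nat := Bool.rec (eL278 i) (eL279 i) (Nat.ble 285696 i)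
noncomputable def eT273 (i : Nat) : Nat := Bool.rec (eT271 i) (eT272 i) (Nat.ble 284672 i)
noncomputable def eT274 (i : Nat) : Nat := Bool.rec (eT270 i) (eT273 i) (Nat.ble 282624 i)
noncomputable def eT275 (i : Nat) : Nat := Bool.rec (eT268 i) (eT274 i) (Nat.ble 279552 i)
noncomputable def eT276 (i : Nat) : Nat := Bool.rec (eT262 i) (eT275 i) (Nat.ble 272384 i)
noncomputable def eT277 (i : Nat) : Nat := Bool.rec (eT249 i) (eT276 i) (Nat.ble 258048 i)
noncomputable def eT278 (i : Nat) : Nat := Bool.rec (eL281 i) (eL282 i) (Nat.ble 288768 i)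
noncomputable def eT279 (i : Nat) : Nat := Bool.rec (eL280 i) (eT278 i) (Nat.ble 287744 i)
noncomputable def eT280 (i : Nat) : Nat := Bool.rec (eL283 i) (eL284 i) (Nat.ble 290816 i)
noncomputable def eT281 (i : Nat) : Nat := Bool.rec (eL285 i) (eL286 i) (Nat.ble 292864 i)
noncomputable def eT282 (i : Nat) : Nat := Bool.rec (eT280 i) (eT281 i) (Nat.ble 291840 i)
noncomputable def eT283 (i : Nat) : Nat := Bool.rec (eT279 i) (eT282 i) (Nat.ble 289792 i)
noncomputable def eT284 (i : Nat) : Nat := Bool.rec (eL288 i) (eL289 i) (Nat.ble 295936 i)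
noncomputable def eT285 (i : Nat) : Nat := Bool.rec (eL287 i) (eT284 i) (Nat.ble 294912 i)
noncomputable def eT286 (i : Nat) : Nat := Bool.rec (eL290 i) (eL291 i) (Nat.ble 297984 i)
noncomputable def eT287 (i : Nat) : Nat := Bool.rec (eL292 i) (eL293 i) (Nat.ble 300032 i)
noncomputable def eT288 (i : Nat) : Nat := Bool.rec (eT286 i) (eT287 i) (Nat.ble 299008 i)
noncomputable def eT289 (i : Nat) : Nat := Bool.rec (eT285 i) (eT288 i) (Nat.ble 296960 i)
noncomputable def eT290 (i : Nat) : Nat := Bool.rec (eT283 i) (eT289 i) (Nat.ble 293888 i)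
noncomputable def eT291 (i : Nat) : Nat := Bool.rec (eL295 i) (eL296 i) (Nat.ble 303104 i)
noncomputable def eT292 (i : Nat) : Nat := Bool.rec (eL294 i) (eT291 i) (Nat.ble 302080 i)
noncomputable def eT293 (i : Nat) : Nat := Bool.rec (eL297 i) (eL298 i) (Nat.ble 305152 i)
noncomputable def eT294 (i : Nat) : Nat := Bool.rec (eL299 i) (eL300 i) (Nat.ble 307200 i)
noncomputable def eT295 (i : Nat) : Nat := Bool.rec (eT293 i) (eT294 i) (Nat.ble 306176 i)
noncomputable def eT296 (i : Nat) : Nat := Bool.rec (eT292 i) (eT295 i) (Nat.ble 304128 i)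
noncomputable def eT297 (i : Nat) : Nat := Bool.rec (eL302 i) (eL303 i) (Nat.ble 310272 i)
noncomputable def eT298 (i : Nat) : Nat := Bool.rec (eL301 i) (eT297 i) (Nat.ble 309248 i)
noncomputable def eT299 (i : Nat) : Nat := Bool.rec (eL304 i) (eL305 i) (Nat.ble 312320 i)
noncomputable def eT300 (i : Nat) : Nat := Bool.rec (eL306 i) (eL307 i) (Nat.ble 314368 i)
noncomputable def eT301 (i : Nat) : Nat := Bool.rec (eT299 i) (eT300 i) (Nat.ble 313344 i)
noncomputable def eT302 (i : Nat) : Nat := Bool.rec (eT298 i) (eT301 i) (Nat.ble 311296 i)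
noncomputable def eT303 (i : Nat) : Nat := Bool.rec (eT296 i) (eT302 i) (Nat.ble 308224 i)
noncomputable def eT304 (i : Nat) : Nat := Bool.rec (eT290 i) (eT303 i) (Nat.ble 301056 i)
noncomputable def eT305 (i : Nat) : Nat := Bool.rec (eL309 i) (eL310 i) (Nat.ble 317440 i)
noncomputable def eT306 (i : Nat) : Nat := Bool.rec (eL308 i) (eT305 i) (Nat.ble 316416 i)
noncomputable def eT307 (i : Nat) : Nat := Bool.rec (eL311 i) (eL312 i) (Nat.ble 319488 i)
noncomputable def eT308 (i : Nat) : Nat := Bool.rec (eL313 i) (eL314 i) (Nat.ble 321536 i)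
noncomputable def eT309 (i : Nat) : Nat := Bool.rec (eT307 i) (eT308 i) (Nat.ble 320512 i)
noncomputable def eT310 (i : Nat) : Nat := Bool.rec (eT306 i) (eT309 i) (Nat.ble 318464 i)
noncomputable def eT311 (i : Nat) : Nat := Bool.rec (eL316 i) (eL317 i) (Nat.ble 324608 i)
noncomputable def eT312 (i : Nat) : Nat := Bool.rec (eL315 i) (eT311 i) (Nat.ble 323584 i)
noncomputable def eT313 (i : Nat) : Nat := Bool.rec (eL318 i) (eL319 i) (Nat.ble 326656 i)
noncomputable def eT314 (i : Nat) : Nat := Bool.rec (eL320 i) (eL321 i) (Nat.ble 328704 i)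
noncomputable def eT315 (i : Nat) : Nat := Bool.rec (eT313 i) (eT314 i) (Nat.ble 327680 i)
noncomputable def eT316 (i : Nat) : Nat := Bool.rec (eT312 i) (eT315 i) (Nat.ble 325632 i)
noncomputable def eT317 (i : Nat) : Nat := Bool.rec (eT310 i) (eT316 i) (Nat.ble 322560 i)
noncomputable def eT318 (i : Nat) : Nat := Bool.rec (eL323 i) (eL324 i) (Nat.ble 331776 i)
noncomputable def eT319 (i : Nat) : Nat := Bool.rec (eL322 i) (eT318 i) (Nat.ble 330752 i)
noncomputable def eT320 (i : Nat) : Nat := Bool.rec (eL325 i) (eL326 i) (Nat.ble 333824 i)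
noncomputable def eT321 (i : Nat) : Nat := Bool.rec (eL327 i) (eL328 i) (Nat.ble 335872 i)
noncomputable def eT322 (i : Nat) : Nat := Bool.rec (eT320 i) (eT321 i) (Nat.ble 334848 i)
noncomputable def eT323 (i : Nat) : Nat := Bool.rec (eT319 i) (eT322 i) (Nat.ble 332800 i)
noncomputable def eT324 (i : Nat) : Nat := Bool.rec (eL330 i) (eL331 i) (Nat.ble 338944 i)
noncomputable def eT325 (i : Nat) : Nat := Bool.rec (eL329 i) (eT324 i) (Nat.ble 337920 i)
noncomputable def eT326 (i : Nat) : Nat := Bool.rec (eL332 i) (eL333 i) (Nat.ble 340992 i)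
noncomputable def eT327 (i : Nat) : Nat := Bool.rec (eL334 i) (eL335 i) (Nat.ble 343040 i)
noncomputable def eT328 (i : Nat) : Nat := Bool.rec (eT326 i) (eT327 i) (Nat.ble 342016 i)
noncomputable def eT329 (i : Nat) : Nat := Bool.rec (eT325 i) (eT328 i) (Nat.ble 339968 i)
noncomputable def eT330 (i : Nat) : Nat := Bool.rec (eT323 i) (eT329 i) (Nat.ble 336896 i)
noncomputable def eT331 (i : Nat) : Nat := Bool.rec (eT317 i) (eT330 i) (Nat.ble 329728 i)
noncomputable def eT332 (i : Nat) : Nat := Bool.rec (eT304 i) (eT331 i) (Nat.ble 315392 i)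
noncomputable def eT333 (i : Nat) : Nat := Bool.rec (eT277 i) (eT332 i) (Nat.ble 286720 i)
noncomputable def eT334 (i : Nat) : Nat := Bool.rec (eL337 i) (eL338 i) (Nat.ble 346112 i)
noncomputable def eT335 (i : Nat) : Nat := Bool.rec (eL336 i) (eT334 i) (Nat.ble 345088 i)
noncomputable def eT336 (i : Nat) : Nat := Bool.rec (eL339 i) (eL340 i) (Nat.ble 348160 i)
noncomputable def eT337 (i : Nat) : Nat := Bool.rec (eL341 i) (eL342 i) (Nat.ble 350208 i)
noncomputable def eT338 (i : Nat) : Nat := Bool.rec (eT336 i) (eT337 i) (Nat.ble 349184 i)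
noncomputable def eT339 (i : Nat) : Nat := Bool.rec (eT335 i) (eT338 i) (Nat.ble 347136 i)
noncomputable def eT340 (i : Nat) : Nat := Bool.rec (eL344 i) (eL345 i) (Nat.ble 353280 i)
noncomputable def eT341 (i : Nat) : Nat := Bool.rec (eL343 i) (eT340 i) (Nat.ble 352256 i)
noncomputable def eT342 (i : Nat) : Nat := Bool.rec (eL346 i) (eL347 i) (Nat.ble 355328 i)
noncomputable def eT343 (i : Nat) : Nat := Bool.rec (eL348 i) (eL349 i) (Nat.ble 357376 i)
noncomputable def eT344 (i : Nat) : Nat := Bool.rec (eT342 i) (eT343 i) (Nat.ble 356352 i)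
noncomputable def eT345 (i : Nat) : Nat := Bool.rec (eT341 i) (eT344 i) (Nat.ble 354304 i)
noncomputable def eT346 (i : Nat) : Nat := Bool.rec (eT339 i) (eT345 i) (Nat.ble 351232 i)
noncomputable def eT347 (i : Nat) : Nat := Bool.rec (eL351 i) (eL352 i) (Nat.ble 360448 i)
noncomputable def eT348 (i : Nat) : Nat := Bool.rec (eL350 i) (eT347 i) (Nat.ble 359424 i)
noncomputable def eT349 (i : Nat) : Nat := Bool.rec (eL353 i) (eL354 i) (Nat.ble 362496 i)
noncomputable def eT350 (i : Nat) : Nat := Bool.rec (eL355 i) (eL356 i) (Nat.ble 364544 i)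
noncomputable def eT351 (i : Nat) : Nat := Bool.rec (eT349 i) (eT350 i) (Nat.ble 363520 i)
noncomputable def eT352 (i : Nat) : Nat := Bool.rec (eT348 i) (eT351 i) (Nat.ble 361472 i)
noncomputable def eT353 (i : Nat) : Nat := Bool.rec (eL358 i) (eL359 i) (Nat.ble 367616 i)
noncomputable def eT354 (i : Nat) : Nat := Bool.rec (eL357 i) (eT353 i) (Nat.ble 366592 i)
noncomputable def eT355 (i : Nat) : Nat := Bool.rec (eL360 i) (eL361 i) (Nat.ble 369664 i)
noncomputable def eT356 (i : Nat) : Nat := Bool.rec (eL362 i) (eL363 i) (Nat.ble 371712 i)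
noncomputable def eT357 (i : Nat) : Nat := Bool.rec (eT355 i) (eT356 i) (Nat.ble 370688 i)
noncomputable def eT358 (i : Nat) : Nat := Bool.rec (eT354 i) (eT357 i) (Nat.ble 368640 i)
noncomputable def eT359 (i : Nat) : Nat := Bool.rec (eT352 i) (eT358 i) (Nat.ble 365568 i)
noncomputable def eT360 (i : Nat) : Nat := Bool.rec (eT346 i) (eT359 i) (Nat.ble 358400 i)
noncomputable def eT361 (i : Nat) : Nat := Bool.rec (eL365 i) (eL366 i) (Nat.ble 374784 i)
noncomputable def eT362 (i : Nat) : Nat := Bool.rec (eL364 i) (eT361 i) (Nat.ble 373760 i)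
noncomputable def eT363 (i : Nat) : Nat := Bool.rec (eL367 i) (eL368 i) (Nat.ble 376832 i)
noncomputable def eT364 (i : Nat) : Nat := Bool.rec (eL369 i) (eL370 i) (Nat.ble 378880 i)
noncomputable def eT365 (i : Nat) : Nat := Bool.rec (eT363 i) (eT364 i) (Nat.ble 377856 i)
noncomputable def eT366 (i : Nat) : Nat := Bool.rec (eT362 i) (eT365 i) (Nat.ble 375808 i)
noncomputable def eT367 (i : Nat) : Nat := Bool.rec (eL372 i) (eL373 i) (Nat.ble 381952 i)
noncomputable def eT368 (i : Nat) : Nat := Bool.rec (eL371 i) (eT367 i) (Nat.ble 380928 i)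
noncomputable def eT369 (i : Nat) : Nat := Bool.rec (eL374 i) (eL375 i) (Nat.ble 384000 i)
noncomputable def eT370 (i : Nat) : Nat := Bool.rec (eL376 i) (eL377 i) (Nat.ble 386048 i)
noncomputable def eT371 (i : Nat) : Nat := Bool.rec (eT369 i) (eT370 i) (Nat.ble 385024 i)
noncomputable def eT372 (i : Nat) : Nat := Bool.rec (eT368 i) (eT371 i) (Nat.ble 382976 i)
noncomputable def eT373 (i : Nat) : Nat := Bool.rec (eT366 i) (eT372 i) (Nat.ble 379904 i)
noncomputable def eT374 (i : Nat) : Nat := Bool.rec (eL379 i) (eL380 i) (Nat.ble 389120 i)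
noncomputable def eT375 (i : Nat) : Nat := Bool.rec (eL378 i) (eT374 i) (Nat.ble 388096 i)
noncomputable def eT376 (i : Nat) : Nat := Bool.rec (eL381 i) (eL382 i) (Nat.ble 391168 i)
noncomputable def eT377 (i : Nat) : Nat := Bool.rec (eL383 i) (eL384 i) (Nat.ble 393216 i)
noncomputable def eT378 (i : Nat) : Nat := Bool.rec (eT376 i) (eT377 i) (Nat.ble 392192 i)
noncomputable def eT379 (i : Nat) : Nat := Bool.rec (eT375 i) (eT378 i) (Nat.ble 390144 i)
noncomputable def eT380 (i : Nat) : Nat := Bool.rec (eL386 i) (eL387 i) (Nat.ble 396288 i)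
noncomputable def eT381 (i : Nat) : Nat := Bool.rec (eL385 i) (eT380 i) (Nat.ble 395264 i)
noncomputable def eT382 (i : Nat) : Nat := Bool.rec (eL388 i) (eL389 i) (Nat.ble 398336 i)
noncomputable def eT383 (i : Nat) : Nat := Bool.rec (eL390 i) (eL391 i) (Nat.ble 400384 i)
noncomputable def eT384 (i : Nat) : Nat := Bool.rec (eT382 i) (eT383 i) (Nat.ble 399360 i)
noncomputable def eT385 (i : Nat) : Nat := Bool.rec (eT381 i) (eT384 i) (Nat.ble 397312 i)
noncomputable def eT386 (i : Nat) : Nat := Bool.rec (eT379 i) (eT385 i) (Nat.ble 394240 i)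
noncomputable def eT387 (i : Nat) : Nat := Bool.rec (eT373 i) (eT386 i) (Nat.ble 387072 i)
noncomputable def eT388 (i : Nat) : Nat := Bool.rec (eT360 i) (eT387 i) (Nat.ble 372736 i)
noncomputable def eT389 (i : Nat) : Nat := Bool.rec (eL393 i) (eL394 i) (Nat.ble 403456 i)
noncomputable def eT390 (i : Nat) : Nat := Bool.rec (eL392 i) (eT389 i) (Nat.ble 402432 i)
noncomputable def eT391 (i : Nat) : Nat := Bool.rec (eL395 i) (eL396 i) (Nat.ble 405504 i)
noncomputable def eT392 (i : Nat) : Nat := Bool.rec (eL397 i) (eL398 i) (Nat.ble 407552 i)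
noncomputable def eT393 (i : Nat) : Nat := Bool.rec (eT391 i) (eT392 i) (Nat.ble 406528 i)
noncomputable def eT394 (i : Nat) : Nat := Bool.rec (eT390 i) (eT393 i) (Nat.ble 404480 i)
noncomputable def eT395 (i : Nat) : Nat := Bool.rec (eL400 i) (eL401 i) (Nat.ble 410624 i)
noncomputable def eT396 (i : Nat) : Nat := Bool.rec (eL399 i) (eT395 i) (Nat.ble 409600 i)
noncomputable def eT397 (i : Nat) : Nat := Bool.rec (eL402 i) (eL403 i) (Nat.ble 412672 i)
noncomputable def eT398 (i : Nat) : Nat := Bool.rec (eL404 i) (eL405 i) (Nat.ble 414720 i)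
noncomputable def eT399 (i : Nat) : Nat := Bool.rec (eT397 i) (eT398 i) (Nat.ble 413696 i)
noncomputable def eT400 (i : Nat) : Nat := Bool.rec (eT396 i) (eT399 i) (Nat.ble 411648 i)
noncomputable def eT401 (i : Nat) : Nat := Bool.rec (eT394 i) (eT400 i) (Nat.ble 408576 i)
noncomputable def eT402 (i : Nat) : Nat := Bool.rec (eL407 i) (eL408 i) (Nat.ble 417792 i)
noncomputable def eT403 (i : Nat) : Nat := Bool.rec (eL406 i) (eT402 i) (Nat.ble 416768 i)
noncomputable def eT404 (i : Nat) : Nat := Bool.rec (eL409 i) (eL410 i) (Nat.ble 419840 i)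
noncomputable def eT405 (i : Nat) : Nat := Bool.rec (eL411 i) (eL412 i) (Nat.ble 421888 i)
noncomputable def eT406 (i : Nat) : Nat := Bool.rec (eT404 i) (eT405 i) (Nat.ble 420864 i)
noncomputable def eT407 (i : Nat) : Nat := Bool.rec (eT403 i) (eT406 i) (Nat.ble 418816 i)
noncomputable def eT408 (i : Nat) : Nat := Bool.rec (eL414 i) (eL415 i) (Nat.ble 424960 i)
noncomputable def eT409 (i : Nat) : Nat := Bool.rec (eL413 i) (eT408 i) (Nat.ble 423936 i)
noncomputable def eT410 (i : Nat) : Nat := Bool.rec (eL416 i) (eL417 i) (Nat.ble 427008 i)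
noncomputable def eT411 (i : Nat) : Nat := Bool.rec (eL418 i) (eL419 i) (Nat.ble 429056 i)
noncomputable def eT412 (i : Nat) : Nat := Bool.rec (eT410 i) (eT411 i) (Nat.ble 428032 i)
noncomputable def eT413 (i : Nat) : Nat := Bool.rec (eT409 i) (eT412 i) (Nat.ble 425984 i)
noncomputable def eT414 (i : Nat) : Nat := Bool.rec (eT407 i) (eT413 i) (Nat.ble 422912 i)
noncomputable def eT415 (i : Nat) : Nat := Bool.rec (eT401 i) (eT414 i) (Nat.ble 415744 i)
noncomputable def eT416 (i : Nat) : Nat := Bool.rec (eL421 i) (eL422 i) (Nat.ble 432128 i)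
noncomputable def eT417 (i : Nat) : Nat := Bool.rec (eL420 i) (eT416 i) (Nat.ble 431104 i)
noncomputable def eT418 (i : Nat) : Nat := Bool.rec (eL423 i) (eL424 i) (Nat.ble 434176 i)
noncomputable def eT419 (i : Nat) : Nat := Bool.rec (eL425 i) (eL426 i) (Nat.ble 436224 i)
noncomputable def eT420 (i : Nat) : Nat := Bool.rec (eT418 i) (eT419 i) (Nat.ble 435200 i)
noncomputable def eT421 (i : Nat) : Nat := Bool.rec (eT417 i) (eT420 i) (Nat.ble 433152 i)
noncomputable def eT422 (i : Nat) : Nat := Bool.rec (eL428 i) (eL429 i) (Nat.ble 439296 i)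
noncomputable def eT423 (i : Nat) : Nat := Bool.rec (eL427 i) (eT422 i) (Nat.ble 438272 i)
noncomputable def eT424 (i : Nat) : Nat := Bool.rec (eL430 i) (eL431 i) (Nat.ble 441344 i)
noncomputable def eT425 (i : Nat) : Nat := Bool.rec (eL432 i) (eL433 i) (Nat.ble 443392 i)
noncomputable def eT426 (i : Nat) : Nat := Bool.rec (eT424 i) (eT425 i) (Nat.ble 442368 i)
noncomputable def eT427 (i : Nat) : Nat := Bool.rec (eT423 i) (eT426 i) (Nat.ble 440320 i)
noncomputable def eT428 (i : Nat) : Nat := Bool.rec (eT421 i) (eT427 i) (Nat.ble 437248 i)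
noncomputable def eT429 (i : Nat) : Nat := Bool.rec (eL435 i) (eL436 i) (Nat.ble 446464 i)
noncomputable def eT430 (i : Nat) : Nat := Bool.rec (eL434 i) (eT429 i) (Nat.ble 445440 i)
noncomputable def eT431 (i : Nat) : Nat := Bool.rec (eL437 i) (eL438 i) (Nat.ble 448512 i)
noncomputable def eT432 (i : Nat) : Nat := Bool.rec (eL439 i) (eL440 i) (Nat.ble 450560 i)
noncomputable def eT433 (i : Nat) : Nat := Bool.rec (eT431 i) (eT432 i) (Nat.ble 449536 i)
noncomputable def eT434 (i : Nat) : Nat := Bool.rec (eT430 i) (eT433 i) (Nat.ble 447488 i)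
noncomputable def eT435 (i : Nat) : Nat := Bool.rec (eL441 i) (eL442 i) (Nat.ble 452608 i)
noncomputable def eT436 (i : Nat) : Nat := Bool.rec (eL443 i) (eL444 i) (Nat.ble 454656 i)
noncomputable def eT437 (i : Nat) : Nat := Bool.rec (eT435 i) (eT436 i) (Nat.ble 453632 i)
noncomputable def eT438 (i : Nat) : Nat := Bool.rec (eL445 i) (eL446 i) (Nat.ble 456704 i)
noncomputable def eT439 (i : Nat) : Nat := Bool.rec (eL447 i) (eL448 i) (Nat.ble 458752 i)
noncomputable def eT440 (i : Nat) : Nat := Bool.rec (eT438 i) (eT439 i) (Nat.ble 457728 i)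
noncomputable def eT441 (i : Nat) : Nat := Bool.rec (eT437 i) (eT440 i) (Nat.ble 455680 i)
noncomputable def eT442 (i : Nat) : Nat := Bool.rec (eT434 i) (eT441 i) (Nat.ble 451584 i)
noncomputable def eT443 (i : Nat) : Nat := Bool.rec (eT428 i) (eT442 i) (Nat.ble 444416 i)
noncomputable def eT444 (i : Nat) : Nat := Bool.rec (eT415 i) (eT443 i) (Nat.ble 430080 i)
noncomputable def eT445 (i : Nat) : Nat := Bool.rec (eT388 i) (eT444 i) (Nat.ble 401408 i)
noncomputable def eT446 (i : Nat) : Nat := Bool.rec (eT333 i) (eT445 i) (Nat.ble 344064 i)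
noncomputable def eT447 (i : Nat) : Nat := Bool.rec (eT222 i) (eT446 i) (Nat.ble 229376 i)
noncomputable def eT448 (i : Nat) : Nat := Bool.rec (eL450 i) (eL451 i) (Nat.ble 461824 i)
noncomputable def eT449 (i : Nat) : Nat := Bool.rec (eL449 i) (eT448 i) (Nat.ble 460800 i)
noncomputable def eT450 (i : Nat) : Nat := Bool.rec (eL452 i) (eL453 i) (Nat.ble 463872 i)
noncomputable def eT451 (i : Nat) : Nat := Bool.rec (eL454 i) (eL455 i) (Nat.ble 465920 i)
noncomputable def eT452 (i : Nat) : Nat := Bool.rec (eT450 i) (eT451 i) (Nat.ble 464896 i)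
noncomputable def eT453 (i : Nat) : Nat := Bool.rec (eT449 i) (eT452 i) (Nat.ble 462848 i)
noncomputable def eT454 (i : Nat) : Nat := Bool.rec (eL457 i) (eL458 i) (Nat.ble 468992 i)
noncomputable def eT455 (i : Nat) : Nat := Bool.rec (eL456 i) (eT454 i) (Nat.ble 467968 i)
noncomputable def eT456 (i : Nat) : Nat := Bool.rec (eL459 i) (eL460 i) (Nat.ble 471040 i)
noncomputable def eT457 (i : Nat) : Nat := Bool.rec (eL461 i) (eL462 i) (Nat.ble 473088 i)
noncomputable def eT458 (i : Nat) : Nat := Bool.rec (eT456 i) (eT457 i) (Nat.ble 472064 i)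
noncomputable def eT459 (i : Nat) : Nat := Bool.rec (eT455 i) (eT458 i) (Nat.ble 470016 i)
noncomputable def eT460 (i : Nat) : Nat := Bool.rec (eT453 i) (eT459 i) (Nat.ble 466944 i)
noncomputable def eT461 (i : Nat) : Nat := Bool.rec (eL464 i) (eL465 i) (Nat.ble 476160 i)
noncomputable def eT462 (i : Nat) : Nat := Bool.rec (eL463 i) (eT461 i) (Nat.ble 475136 i)
noncomputable def eT463 (i : Nat) : Nat := Bool.rec (eL466 i) (eL467 i) (Nat.ble 478208 i)
noncomputable def eT464 (i : Nat) : Nat := Bool.rec (eL468 i) (eL469 i) (Nat.ble 480256 i)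
noncomputable def eT465 (i : Nat) : Nat := Bool.rec (eT463 i) (eT464 i) (Nat.ble 479232 i)
noncomputable def eT466 (i : Nat) : Nat := Bool.rec (eT462 i) (eT465 i) (Nat.ble 477184 i)
noncomputable def eT467 (i : Nat) : Nat := Bool.rec (eL471 i) (eL472 i) (Nat.ble 483328 i)
noncomputable def eT468 (i : Nat) : Nat := Bool.rec (eL470 i) (eT467 i) (Nat.ble 482304 i)
noncomputable def eT469 (i : Nat) : Nat := Bool.rec (eL473 i) (eL474 i) (Nat.ble 485376 i)
noncomputable def eT470 (i : Nat) : Nat := Bool.rec (eL475 i) (eL476 i) (Nat.ble 487424 i)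
noncomputable def eT471 (i : Nat) : Nat := Bool.rec (eT469 i) (eT470 i) (Nat.ble 486400 i)
noncomputable def eT472 (i : Nat) : Nat := Bool.rec (eT468 i) (eT471 i) (Nat.ble 484352 i)
noncomputable def eT473 (i : Nat) : Nat := Bool.rec (eT466 i) (eT472 i) (Nat.ble 481280 i)
noncomputable def eT474 (i : Nat) : Nat := Bool.rec (eT460 i) (eT473 i) (Nat.ble 474112 i)
noncomputable def eT475 (i : Nat) : Nat := Bool.rec (eL478 i) (eL479 i) (Nat.ble 490496 i)
noncomputable def eT476 (i : Nat) : Nat := Bool.rec (eL477 i) (eT475 i) (Nat.ble 489472 i)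
noncomputable def eT477 (i : Nat) : Nat := Bool.rec (eL480 i) (eL481 i) (Nat.ble 492544 i)
noncomputable def eT478 (i : Nat) : Nat := Bool.rec (eL482 i) (eL483 i) (Nat.ble 494592 i)
noncomputable def eT479 (i : Nat) : Nat := Bool.rec (eT477 i) (eT478 i) (Nat.ble 493568 i)
noncomputable def eT480 (i : Nat) : Nat := Bool.rec (eT476 i) (eT479 i) (Nat.ble 491520 i)
noncomputable def eT481 (i : Nat) : Nat := Bool.rec (eL485 i) (eL486 i) (Nat.ble 497664 i)
noncomputable def eT482 (i : Nat) : Nat := Bool.rec (eL484 i) (eT481 i) (Nat.ble 496640 i)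
noncomputable def eT483 (i : Nat) : Nat := Bool.rec (eL487 i) (eL488 i) (Nat.ble 499712 i)
noncomputable def eT484 (i : Nat) : Nat := Bool.rec (eL489 i) (eL490 i) (Nat.ble 501760 i)
noncomputable def eT485 (i : Nat) : Nat := Bool.rec (eT483 i) (eT484 i) (Nat.ble 500736 i)
noncomputable def eT486 (i : Nat) : Nat := Bool.rec (eT482 i) (eT485 i) (Nat.ble 498688 i)
noncomputable def eT487 (i : Nat) : Nat := Bool.rec (eT480 i) (eT486 i) (Nat.ble 495616 i)
noncomputable def eT488 (i : Nat) : Nat := Bool.rec (eL492 i) (eL493 i) (Nat.ble 504832 i)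
noncomputable def eT489 (i : Nat) : Nat := Bool.rec (eL491 i) (eT488 i) (Nat.ble 503808 i)
noncomputable def eT490 (i : Nat) : Nat := Bool.rec (eL494 i) (eL495 i) (Nat.ble 506880 i)
noncomputable def eT491 (i : Nat) : Nat := Bool.rec (eL496 i) (eL497 i) (Nat.ble 508928 i)
noncomputable def eT492 (i : Nat) : Nat := Bool.rec (eT490 i) (eT491 i) (Nat.ble 507904 i)
noncomputable def eT493 (i : Nat) : Nat := Bool.rec (eT489 i) (eT492 i) (Nat.ble 505856 i)
noncomputable def eT494 (i : Nat) : Nat := Bool.rec (eL499 i) (eL500 i) (Nat.ble 512000 i)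
noncomputable def eT495 (i : Nat) : Nat := Bool.rec (eL498 i) (eT494 i) (Nat.ble 510976 i)
noncomputable def eT496 (i : Nat) : Nat := Bool.rec (eL501 i) (eL502 i) (Nat.ble 514048 i)
noncomputable def eT497 (i : Nat) : Nat := Bool.rec (eL503 i) (eL504 i) (Nat.ble 516096 i)
noncomputable def eT498 (i : Nat) : Nat := Bool.rec (eT496 i) (eT497 i) (Nat.ble 515072 i)
noncomputable def eT499 (i : Nat) : Nat := Bool.rec (eT495 i) (eT498 i) (Nat.ble 513024 i)
noncomputable def eT500 (i : Nat) : Nat := Bool.rec (eT493 i) (eT499 i) (Nat.ble 509952 i)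
noncomputable def eT501 (i : Nat) : Nat := Bool.rec (eT487 i) (eT500 i) (Nat.ble 502784 i)
noncomputable def eT502 (i : Nat) : Nat := Bool.rec (eT474 i) (eT501 i) (Nat.ble 488448 i)
noncomputable def eT503 (i : Nat) : Nat := Bool.rec (eL506 i) (eL507 i) (Nat.ble 519168 i)
noncomputable def eT504 (i : Nat) : Nat := Bool.rec (eL505 i) (eT503 i) (Nat.ble 518144 i)
noncomputable def eT505 (i : Nat) : Nat := Bool.rec (eL508 i) (eL509 i) (Nat.ble 521216 i)
noncomputable def eT506 (i : Nat) : Nat := Bool.rec (eL510 i) (eL511 i) (Nat.ble 523264 i)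
noncomputable def eT507 (i : Nat) : Nat := Bool.rec (eT505 i) (eT506 i) (Nat.ble 522240 i)
noncomputable def eT508 (i : Nat) : Nat := Bool.rec (eT504 i) (eT507 i) (Nat.ble 520192 i)
noncomputable def eT509 (i : Nat) : Nat := Bool.rec (eL513 i) (eL514 i) (Nat.ble 526336 i)
noncomputable def eT510 (i : Nat) : Nat := Bool.rec (eL512 i) (eT509 i) (Nat.ble 525312 i)
noncomputable def eT511 (i : Nat) : Nat := Bool.rec (eL515 i) (eL516 i) (Nat.ble 528384 i)
noncomputable def eT512 (i : Nat) : Nat := Bool.rec (eL517 i) (eL518 i) (Nat.ble 530432 i)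
noncomputable def eT513 (i : Nat) : Nat := Bool.rec (eT511 i) (eT512 i) (Nat.ble 529408 i)
noncomputable def eT514 (i : Nat) : Nat := Bool.rec (eT510 i) (eT513 i) (Nat.ble 527360 i)
noncomputable def eT515 (i : Nat) : Nat := Bool.rec (eT508 i) (eT514 i) (Nat.ble 524288 i)
noncomputable def eT516 (i : Nat) : Nat := Bool.rec (eL520 i) (eL521 i) (Nat.ble 533504 i)
noncomputable def eT517 (i : Nat) : Nat := Bool.rec (eL519 i) (eT516 i) (Nat.ble 532480 i)
noncomputable def eT518 (i : Nat) : Nat := Bool.rec (eL522 i) (eL523 i) (Nat.ble 535552 i)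
noncomputable def eT519 (i : Nat) : Nat := Bool.rec (eL524 i) (eL525 i) (Nat.ble 537600 i)
noncomputable def eT520 (i : Nat) : Nat := Bool.rec (eT518 i) (eT519 i) (Nat.ble 536576 i)
noncomputable def eT521 (i : Nat) : Nat := Bool.rec (eT517 i) (eT520 i) (Nat.ble 534528 i)
noncomputable def eT522 (i : Nat) : Nat := Bool.rec (eL527 i) (eL528 i) (Nat.ble 540672 i)
noncomputable def eT523 (i : Nat) : Nat := Bool.rec (eL526 i) (eT522 i) (Nat.ble 539648 i)
noncomputable def eT524 (i : Nat) : Nat := Bool.rec (eL529 i) (eL530 i) (Nat.ble 542720 i)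
noncomputable def eT525 (i : Nat) : Nat := Bool.rec (eL531 i) (eL532 i) (Nat.ble 544768 i)
noncomputable def eT526 (i : Nat) : Nat := Bool.rec (eT524 i) (eT525 i) (Nat.ble 543744 i)
noncomputable def eT527 (i : Nat) : Nat := Bool.rec (eT523 i) (eT526 i) (Nat.ble 541696 i)
noncomputable def eT528 (i : Nat) : Nat := Bool.rec (eT521 i) (eT527 i) (Nat.ble 538624 i)
noncomputable def eT529 (i : Nat) : Nat := Bool.rec (eT515 i) (eT528 i) (Nat.ble 531456 i)
noncomputable def eT530 (i : Nat) : Nat := Bool.rec (eL534 i) (eL535 i) (Nat.ble 547840 i)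
noncomputable def eT531 (i : Nat) : Nat := Bool.rec (eL533 i) (eT530 i) (Nat.ble 546816 i)
noncomputable def eT532 (i : Nat) : Nat := Bool.rec (eL536 i) (eL537 i) (Nat.ble 549888 i)
noncomputable def eT533 (i : Nat) : Nat := Bool.rec (eL538 i) (eL539 i) (Nat.ble 551936 i)
noncomputable def eT534 (i : Nat) : Nat := Bool.rec (eT532 i) (eT533 i) (Nat.ble 550912 i)
noncomputable def eT535 (i : Nat) : Nat := Bool.rec (eT531 i) (eT534 i) (Nat.ble 548864 i)
noncomputable def eT536 (i : Nat) : Nat := Bool.rec (eL541 i) (eL542 i) (Nat.ble 555008 i)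
noncomputable def eT537 (i : Nat) : Nat := Bool.rec (eL540 i) (eT536 i) (Nat.ble 553984 i)
noncomputable def eT538 (i : Nat) : Nat := Bool.rec (eL543 i) (eL544 i) (Nat.ble 557056 i)
noncomputable def eT539 (i : Nat) : Nat := Bool.rec (eL545 i) (eL546 i) (Nat.ble 559104 i)
noncomputable def eT540 (i : Nat) : Nat := Bool.rec (eT538 i) (eT539 i) (Nat.ble 558080 i)
noncomputable def eT541 (i : Nat) : Nat := Bool.rec (eT537 i) (eT540 i) (Nat.ble 556032 i)
noncomputable def eT542 (i : Nat) : Nat := Bool.rec (eT535 i) (eT541 i) (Nat.ble 552960 i)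
noncomputable def eT543 (i : Nat) : Nat := Bool.rec (eL548 i) (eL549 i) (Nat.ble 562176 i)
noncomputable def eT544 (i : Nat) : Nat := Bool.rec (eL547 i) (eT543 i) (Nat.ble 561152 i)
noncomputable def eT545 (i : Nat) : Nat := Bool.rec (eL550 i) (eL551 i) (Nat.ble 564224 i)
noncomputable def eT546 (i : Nat) : Nat := Bool.rec (eL552 i) (eL553 i) (Nat.ble 566272 i)
noncomputable def eT547 (i : Nat) : Nat := Bool.rec (eT545 i) (eT546 i) (Nat.ble 565248 i)
noncomputable def eT548 (i : Nat) : Nat := Bool.rec (eT544 i) (eT547 i) (Nat.ble 563200 i)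
noncomputable def eT549 (i : Nat) : Nat := Bool.rec (eL555 i) (eL556 i) (Nat.ble 569344 i)
noncomputable def eT550 (i : Nat) : Nat := Bool.rec (eL554 i) (eT549 i) (Nat.ble 568320 i)
noncomputable def eT551 (i : Nat) : Nat := Bool.rec (eL557 i) (eL558 i) (Nat.ble 571392 i)
noncomputable def eT552 (i : Nat) : Nat := Bool.rec (eL559 i) (eL560 i) (Nat.ble 573440 i)
noncomputable def eT553 (i : Nat) : Nat := Bool.rec (eT551 i) (eT552 i) (Nat.ble 572416 i)
noncomputable def eT554 (i : Nat) : Nat := Bool.rec (eT550 i) (eT553 i) (Nat.ble 570368 i)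
noncomputable def eT555 (i : Nat) : Nat := Bool.rec (eT548 i) (eT554 i) (Nat.ble 567296 i)
noncomputable def eT556 (i : Nat) : Nat := Bool.rec (eT542 i) (eT555 i) (Nat.ble 560128 i)
noncomputable def eT557 (i : Nat) : Nat := Bool.rec (eT529 i) (eT556 i) (Nat.ble 545792 i)
noncomputable def eT558 (i : Nat) : Nat := Bool.rec (eT502 i) (eT557 i) (Nat.ble 517120 i)
noncomputable def eT559 (i : Nat) : Nat := Bool.rec (eL562 i) (eL563 i) (Nat.ble 576512 i)
noncomputable def eT560 (i : Nat) : Nat := Bool.rec (eL561 i) (eT559 i) (Nat.ble 575488 i)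
noncomputable def eT561 (i : Nat) : Nat := Bool.rec (eL564 i) (eL565 i) (Nat.ble 578560 i)
noncomputable def eT562 (i : Nat) : Nat := Bool.rec (eL566 i) (eL567 i) (Nat.ble 580608 i)
noncomputable def eT563 (i : Nat) : Nat := Bool.rec (eT561 i) (eT562 i) (Nat.ble 579584 i)
noncomputable def eT564 (i : Nat) : Nat := Bool.rec (eT560 i) (eT563 i) (Nat.ble 577536 i)
noncomputable def eT565 (i : Nat) : Nat := Bool.rec (eL569 i) (eL570 i) (Nat.ble 583680 i)
noncomputable def eT566 (i : Nat) : Nat := Bool.rec (eL568 i) (eT565 i) (Nat.ble 582656 i)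
noncomputable def eT567 (i : Nat) : Nat := Bool.rec (eL571 i) (eL572 i) (Nat.ble 585728 i)
noncomputable def eT568 (i : Nat) : Nat := Bool.rec (eL573 i) (eL574 i) (Nat.ble 587776 i)
noncomputable def eT569 (i : Nat) : Nat := Bool.rec (eT567 i) (eT568 i) (Nat.ble 586752 i)
noncomputable def eT570 (i : Nat) : Nat := Bool.rec (eT566 i) (eT569 i) (Nat.ble 584704 i)
noncomputable def eT571 (i : Nat) : Nat := Bool.rec (eT564 i) (eT570 i) (Nat.ble 581632 i)
noncomputable def eT572 (i : Nat) : Nat := Bool.rec (eL576 i) (eL577 i) (Nat.ble 590848 i)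
noncomputable def eT573 (i : Nat) : Nat := Bool.rec (eL575 i) (eT572 i) (Nat.ble 589824 i)
noncomputable def eT574 (i : Nat) : Nat := Bool.rec (eL578 i) (eL579 i) (Nat.ble 592896 i)
noncomputable def eT575 (i : Nat) : Nat := Bool.rec (eL580 i) (eL581 i) (Nat.ble 594944 i)
noncomputable def eT576 (i : Nat) : Nat := Bool.rec (eT574 i) (eT575 i) (Nat.ble 593920 i)
noncomputable def eT577 (i : Nat) : Nat := Bool.rec (eT573 i) (eT576 i) (Nat.ble 591872 i)
noncomputable def eT578 (i : Nat) : Nat := Bool.rec (eL583 i) (eL584 i) (Nat.ble 598016 i)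
noncomputable def eT579 (i : Nat) : Nat := Bool.rec (eL582 i) (eT578 i) (Nat.ble 596992 i)
noncomputable def eT580 (i : Nat) : Nat := Bool.rec (eL585 i) (eL586 i) (Nat.ble 600064 i)
noncomputable def eT581 (i : Nat) : Nat := Bool.rec (eL587 i) (eL588 i) (Nat.ble 602112 i)
noncomputable def eT582 (i : Nat) : Nat := Bool.rec (eT580 i) (eT581 i) (Nat.ble 601088 i)
noncomputable def eT583 (i : Nat) : Nat := Bool.rec (eT579 i) (eT582 i) (Nat.ble 599040 i)
noncomputable def eT584 (i : Nat) : Nat := Bool.rec (eT577 i) (eT583 i) (Nat.ble 595968 i)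
noncomputable def eT585 (i : Nat) : Nat := Bool.rec (eT571 i) (eT584 i) (Nat.ble 588800 i)
noncomputable def eT586 (i : Nat) : Nat := Bool.rec (eL590 i) (eL591 i) (Nat.ble 605184 i)
noncomputable def eT587 (i : Nat) : Nat := Bool.rec (eL589 i) (eT586 i) (Nat.ble 604160 i)
noncomputable def eT588 (i : Nat) : Nat := Bool.rec (eL592 i) (eL593 i) (Nat.ble 607232 i)
noncomputable def eT589 (i : Nat) : Nat := Bool.rec (eL594 i) (eL595 i) (Nat.ble 609280 i)
noncomputable def eT590 (i : Nat) : Nat := Bool.rec (eT588 i) (eT589 i) (Nat.ble 608256 i)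
noncomputable def eT591 (i : Nat) : Nat := Bool.rec (eT587 i) (eT590 i) (Nat.ble 606208 i)
noncomputable def eT592 (i : Nat) : Nat := Bool.rec (eL597 i) (eL598 i) (Nat.ble 612352 i)
noncomputable def eT593 (i : Nat) : Nat := Bool.rec (eL596 i) (eT592 i) (Nat.ble 611328 i)
noncomputable def eT594 (i : Nat) : Nat := Bool.rec (eL599 i) (eL600 i) (Nat.ble 614400 i)
noncomputable def eT595 (i : Nat) : Nat := Bool.rec (eL601 i) (eL602 i) (Nat.ble 616448 i)
noncomputable def eT596 (i : Nat) : Nat := Bool.rec (eT594 i) (eT595 i) (Nat.ble 615424 i)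
noncomputable def eT597 (i : Nat) : Nat := Bool.rec (eT593 i) (eT596 i) (Nat.ble 613376 i)
noncomputable def eT598 (i : Nat) : Nat := Bool.rec (eT591 i) (eT597 i) (Nat.ble 610304 i)
noncomputable def eT599 (i : Nat) : Nat := Bool.rec (eL604 i) (eL605 i) (Nat.ble 619520 i)
noncomputable def eT600 (i : Nat) : Nat := Bool.rec (eL603 i) (eT599 i) (Nat.ble 618496 i)
noncomputable def eT601 (i : Nat) : Nat := Bool.rec (eL606 i) (eL607 i) (Nat.ble 621568 i)
noncomputable def eT602 (i : Nat) : Nat := Bool.rec (eL608 i) (eL609 i) (Nat.ble 623616 i)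
noncomputable def eT603 (i : Nat) : Nat := Bool.rec (eT601 i) (eT602 i) (Nat.ble 622592 i)
noncomputable def eT604 (i : Nat) : Nat := Bool.rec (eT600 i) (eT603 i) (Nat.ble 620544 i)
noncomputable def eT605 (i : Nat) : Nat := Bool.rec (eL611 i) (eL612 i) (Nat.ble 626688 i)
noncomputable def eT606 (i : Nat) : Nat := Bool.rec (eL610 i) (eT605 i) (Nat.ble 625664 i)
noncomputable def eT607 (i : Nat) : Nat := Bool.rec (eL613 i) (eL614 i) (Nat.ble 628736 i)
noncomputable def eT608 (i : Nat) : Nat := Bool.rec (eL615 i) (eL616 i) (Nat.ble 630784 i)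
noncomputable def eT609 (i : Nat) : Nat := Bool.rec (eT607 i) (eT608 i) (Nat.ble 629760 i)
noncomputable def eT610 (i : Nat) : Nat := Bool.rec (eT606 i) (eT609 i) (Nat.ble 627712 i)
noncomputable def eT611 (i : Nat) : Nat := Bool.rec (eT604 i) (eT610 i) (Nat.ble 624640 i)
noncomputable def eT612 (i : Nat) : Nat := Bool.rec (eT598 i) (eT611 i) (Nat.ble 617472 i)
noncomputable def eT613 (i : Nat) : Nat := Bool.rec (eT585 i) (eT612 i) (Nat.ble 603136 i)
noncomputable def eT614 (i : Nat) : Nat := Bool.rec (eL618 i) (eL619 i) (Nat.ble 633856 i)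
noncomputable def eT615 (i : Nat) : Nat := Bool.rec (eL617 i) (eT614 i) (Nat.ble 632832 i)
noncomputable def eT616 (i : Nat) : Nat := Bool.rec (eL620 i) (eL621 i) (Nat.ble 635904 i)
noncomputable def eT617 (i : Nat) : Nat := Bool.rec (eL622 i) (eL623 i) (Nat.ble 637952 i)
noncomputable def eT618 (i : Nat) : Nat := Bool.rec (eT616 i) (eT617 i) (Nat.ble 636928 i)
noncomputable def eT619 (i : Nat) : Nat := Bool.rec (eT615 i) (eT618 i) (Nat.ble 634880 i)
noncomputable def eT620 (i : Nat) : Nat := Bool.rec (eL625 i) (eL626 i) (Nat.ble 641024 i)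
noncomputable def eT621 (i : Nat) : Nat := Bool.rec (eL624 i) (eT620 i) (Nat.ble 640000 i)
noncomputable def eT622 (i : Nat) : Nat := Bool.rec (eL627 i) (eL628 i) (Nat.ble 643072 i)
noncomputable def eT623 (i : Nat) : Nat := Bool.rec (eL629 i) (eL630 i) (Nat.ble 645120 i)
noncomputable def eT624 (i : Nat) : Nat := Bool.rec (eT622 i) (eT623 i) (Nat.ble 644096 i)
noncomputable def eT625 (i : Nat) : Nat := Bool.rec (eT621 i) (eT624 i) (Nat.ble 642048 i)
noncomputable def eT626 (i : Nat) : Nat := Bool.rec (eT619 i) (eT625 i) (Nat.ble 638976 i)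
noncomputable def eT627 (i : Nat) : Nat := Bool.rec (eL632 i) (eL633 i) (Nat.ble 648192 i)
noncomputable def eT628 (i : Nat) : Nat := Bool.rec (eL631 i) (eT627 i) (Nat.ble 647168 i)
noncomputable def eT629 (i : Nat) : Nat := Bool.rec (eL634 i) (eL635 i) (Nat.ble 650240 i)
noncomputable def eT630 (i : Nat) : Nat := Bool.rec (eL636 i) (eL637 i) (Nat.ble 652288 i)
noncomputable def eT631 (i : Nat) : Nat := Bool.rec (eT629 i) (eT630 i) (Nat.ble 651264 i)
noncomputable def eT632 (i : Nat) : Nat := Bool.rec (eT628 i) (eT631 i) (Nat.ble 649216 i)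
noncomputable def eT633 (i : Nat) : Nat := Bool.rec (eL639 i) (eL640 i) (Nat.ble 655360 i)
noncomputable def eT634 (i : Nat) : Nat := Bool.rec (eL638 i) (eT633 i) (Nat.ble 654336 i)
noncomputable def eT635 (i : Nat) : Nat := Bool.rec (eL641 i) (eL642 i) (Nat.ble 657408 i)
noncomputable def eT636 (i : Nat) : Nat := Bool.rec (eL643 i) (eL644 i) (Nat.ble 659456 i)
noncomputable def eT637 (i : Nat) : Nat := Bool.rec (eT635 i) (eT636 i) (Nat.ble 658432 i)
noncomputable def eT638 (i : Nat) : Nat := Bool.rec (eT634 i) (eT637 i) (Nat.ble 656384 i)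
noncomputable def eT639 (i : Nat) : Nat := Bool.rec (eT632 i) (eT638 i) (Nat.ble 653312 i)
noncomputable def eT640 (i : Nat) : Nat := Bool.rec (eT626 i) (eT639 i) (Nat.ble 646144 i)
noncomputable def eT641 (i : Nat) : Nat := Bool.rec (eL646 i) (eL647 i) (Nat.ble 662528 i)
noncomputable def eT642 (i : Nat) : Nat := Bool.rec (eL645 i) (eT641 i) (Nat.ble 661504 i)
noncomputable def eT643 (i : Nat) : Nat := Bool.rec (eL648 i) (eL649 i) (Nat.ble 664576 i)
noncomputable def eT644 (i : Nat) : Nat := Bool.rec (eL650 i) (eL651 i) (Nat.ble 666624 i)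
noncomputable def eT645 (i : Nat) : Nat := Bool.rec (eT643 i) (eT644 i) (Nat.ble 665600 i)
noncomputable def eT646 (i : Nat) : Nat := Bool.rec (eT642 i) (eT645 i) (Nat.ble 663552 i)
noncomputable def eT647 (i : Nat) : Nat := Bool.rec (eL653 i) (eL654 i) (Nat.ble 669696 i)
noncomputable def eT648 (i : Nat) : Nat := Bool.rec (eL652 i) (eT647 i) (Nat.ble 668672 i)
noncomputable def eT649 (i : Nat) : Nat := Bool.rec (eL655 i) (eL656 i) (Nat.ble 671744 i)
noncomputable def eT650 (i : Nat) : Nat := Bool.rec (eL657 i) (eL658 i) (Nat.ble 673792 i)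
noncomputable def eT651 (i : Nat) : Nat := Bool.rec (eT649 i) (eT650 i) (Nat.ble 672768 i)
noncomputable def eT652 (i : Nat) : Nat := Bool.rec (eT648 i) (eT651 i) (Nat.ble 670720 i)
noncomputable def eT653 (i : Nat) : Nat := Bool.rec (eT646 i) (eT652 i) (Nat.ble 667648 i)
noncomputable def eT654 (i : Nat) : Nat := Bool.rec (eL660 i) (eL661 i) (Nat.ble 676864 i)
noncomputable def eT655 (i : Nat) : Nat := Bool.rec (eL659 i) (eT654 i) (Nat.ble 675840 i)
noncomputable def eT656 (i : Nat) : Nat := Bool.rec (eL662 i) (eL663 i) (Nat.ble 678912 i)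
noncomputable def eT657 (i : Nat) : Nat := Bool.rec (eL664 i) (eL665 i) (Nat.ble 680960 i)
noncomputable def eT658 (i : Nat) : Nat := Bool.rec (eT656 i) (eT657 i) (Nat.ble 679936 i)
noncomputable def eT659 (i : Nat) : Nat := Bool.rec (eT655 i) (eT658 i) (Nat.ble 677888 i)
noncomputable def eT660 (i : Nat) : Nat := Bool.rec (eL666 i) (eL667 i) (Nat.ble 683008 i)
noncomputable def eT661 (i : Nat) : Nat := Bool.rec (eL668 i) (eL669 i) (Nat.ble 685056 i)
noncomputable def eT662 (i : Nat) : Nat := Bool.rec (eT660 i) (eT661 i) (Nat.ble 684032 i)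
noncomputable def eT663 (i : Nat) : Nat := Bool.rec (eL670 i) (eL671 i) (Nat.ble 687104 i)
noncomputable def eT664 (i : Nat) : Nat := Bool.rec (eL672 i) (eL673 i) (Nat.ble 689152 i)
noncomputable def eT665 (i : Nat) : Nat := Bool.rec (eT663 i) (eT664 i) (Nat.ble 688128 i)
noncomputable def eT666 (i : Nat) : Nat := Bool.rec (eT662 i) (eT665 i) (Nat.ble 686080 i)
noncomputable def eT667 (i : Nat) : Nat := Bool.rec (eT659 i) (eT666 i) (Nat.ble 681984 i)
noncomputable def eT668 (i : Nat) : Nat := Bool.rec (eT653 i) (eT667 i) (Nat.ble 674816 i)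
noncomputable def eT669 (i : Nat) : Nat := Bool.rec (eT640 i) (eT668 i) (Nat.ble 660480 i)
noncomputable def eT670 (i : Nat) : Nat := Bool.rec (eT613 i) (eT669 i) (Nat.ble 631808 i)
noncomputable def eT671 (i : Nat) : Nat := Bool.rec (eT558 i) (eT670 i) (Nat.ble 574464 i)
noncomputable def eT672 (i : Nat) : Nat := Bool.rec (eL675 i) (eL676 i) (Nat.ble 692224 i)
noncomputable def eT673 (i : Nat) : Nat := Bool.rec (eL674 i) (eT672 i) (Nat.ble 691200 i)
noncomputable def eT674 (i : Nat) : Nat := Bool.rec (eL677 i) (eL678 i) (Nat.ble 694272 i)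
noncomputable def eT675 (i : Nat) : Nat := Bool.rec (eL679 i) (eL680 i) (Nat.ble 696320 i)
noncomputable def eT676 (i : Nat) : Nat := Bool.rec (eT674 i) (eT675 i) (Nat.ble 695296 i)
noncomputable def eT677 (i : Nat) : Nat := Bool.rec (eT673 i) (eT676 i) (Nat.ble 693248 i)
noncomputable def eT678 (i : Nat) : Nat := Bool.rec (eL682 i) (eL683 i) (Nat.ble 699392 i)
noncomputable def eT679 (i : Nat) : Nat := Bool.rec (eL681 i) (eT678 i) (Nat.ble 698368 i)
noncomputable def eT680 (i : Nat) : Nat := Bool.rec (eL684 i) (eL685 i) (Nat.ble 701440 i)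
noncomputable def eT681 (i : Nat) : Nat := Bool.rec (eL686 i) (eL687 i) (Nat.ble 703488 i)
noncomputable def eT682 (i : Nat) : Nat := Bool.rec (eT680 i) (eT681 i) (Nat.ble 702464 i)
noncomputable def eT683 (i : Nat) : Nat := Bool.rec (eT679 i) (eT682 i) (Nat.ble 700416 i)
noncomputable def eT684 (i : Nat) : Nat := Bool.rec (eT677 i) (eT683 i) (Nat.ble 697344 i)
noncomputable def eT685 (i : Nat) : Nat := Bool.rec (eL689 i) (eL690 i) (Nat.ble 706560 i)
noncomputable def eT686 (i : Nat) : Nat := Bool.rec (eL688 i) (eT685 i) (Nat.ble 705536 i)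
noncomputable def eT687 (i : Nat) : Nat := Bool.rec (eL691 i) (eL692 i) (Nat.ble 708608 i)
noncomputable def eT688 (i : Nat) : Nat := Bool.rec (eL693 i) (eL694 i) (Nat.ble 710656 i)
noncomputable def eT689 (i : Nat) : Nat := Bool.rec (eT687 i) (eT688 i) (Nat.ble 709632 i)
noncomputable def eT690 (i : Nat) : Nat := Bool.rec (eT686 i) (eT689 i) (Nat.ble 707584 i)
noncomputable def eT691 (i : Nat) : Nat := Bool.rec (eL696 i) (eL697 i) (Nat.ble 713728 i)
noncomputable def eT692 (i : Nat) : Nat := Bool.rec (eL695 i) (eT691 i) (Nat.ble 712704 i)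
noncomputable def eT693 (i : Nat) : Nat := Bool.rec (eL698 i) (eL699 i) (Nat.ble 715776 i)
noncomputable def eT694 (i : Nat) : Nat := Bool.rec (eL700 i) (eL701 i) (Nat.ble 717824 i)
noncomputable def eT695 (i : Nat) : Nat := Bool.rec (eT693 i) (eT694 i) (Nat.ble 716800 i)
noncomputable def eT696 (i : Nat) : Nat := Bool.rec (eT692 i) (eT695 i) (Nat.ble 714752 i)
noncomputable def eT697 (i : Nat) : Nat := Bool.rec (eT690 i) (eT696 i) (Nat.ble 711680 i)
noncomputable def eT698 (i : Nat) : Nat := Bool.rec (eT684 i) (eT697 i) (Nat.ble 704512 i)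
noncomputable def eT699 (i : Nat) : Nat := Bool.rec (eL703 i) (eL704 i) (Nat.ble 720896 i)
noncomputable def eT700 (i : Nat) : Nat := Bool.rec (eL702 i) (eT699 i) (Nat.ble 719872 i)
noncomputable def eT701 (i : Nat) : Nat := Bool.rec (eL705 i) (eL706 i) (Nat.ble 722944 i)
noncomputable def eT702 (i : Nat) : Nat := Bool.rec (eL707 i) (eL708 i) (Nat.ble 724992 i)
noncomputable def eT703 (i : Nat) : Nat := Bool.rec (eT701 i) (eT702 i) (Nat.ble 723968 i)
noncomputable def eT704 (i : Nat) : Nat := Bool.rec (eT700 i) (eT703 i) (Nat.ble 721920 i)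
noncomputable def eT705 (i : Nat) : Nat := Bool.rec (eL710 i) (eL711 i) (Nat.ble 728064 i)
noncomputable def eT706 (i : Nat) : Nat := Bool.rec (eL709 i) (eT705 i) (Nat.ble 727040 i)
noncomputable def eT707 (i : Nat) : Nat := Bool.rec (eL712 i) (eL713 i) (Nat.ble 730112 i)
noncomputable def eT708 (i : Nat) : Nat := Bool.rec (eL714 i) (eL715 i) (Nat.ble 732160 i)
noncomputable def eT709 (i : Nat) : Nat := Bool.rec (eT707 i) (eT708 i) (Nat.ble 731136 i)
noncomputable def eT710 (i : Nat) : Nat := Bool.rec (eT706 i) (eT709 i) (Nat.ble 729088 i)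
noncomputable def eT711 (i : Nat) : Nat := Bool.rec (eT704 i) (eT710 i) (Nat.ble 726016 i)
noncomputable def eT712 (i : Nat) : Nat := Bool.rec (eL717 i) (eL718 i) (Nat.ble 735232 i)
noncomputable def eT713 (i : Nat) : Nat := Bool.rec (eL716 i) (eT712 i) (Nat.ble 734208 i)
noncomputable def eT714 (i : Nat) : Nat := Bool.rec (eL719 i) (eL720 i) (Nat.ble 737280 i)
noncomputable def eT715 (i : Nat) : Nat := Bool.rec (eL721 i) (eL722 i) (Nat.ble 739328 i)
noncomputable def eT716 (i : Nat) : Nat := Bool.rec (eT714 i) (eT715 i) (Nat.ble 738304 i)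
noncomputable def eT717 (i : Nat) : Nat := Bool.rec (eT713 i) (eT716 i) (Nat.ble 736256 i)
noncomputable def eT718 (i : Nat) : Nat := Bool.rec (eL724 i) (eL725 i) (Nat.ble 742400 i)
noncomputable def eT719 (i : Nat) : Nat := Bool.rec (eL723 i) (eT718 i) (Nat.ble 741376 i)
noncomputable def eT720 (i : Nat) : Nat := Bool.rec (eL726 i) (eL727 i) (Nat.ble 744448 i)
noncomputable def eT721 (i : Nat) : Nat := Bool.rec (eL728 i) (eL729 i) (Nat.ble 746496 i)
noncomputable def eT722 (i : Nat) : Nat := Bool.rec (eT720 i) (eT721 i) (Nat.ble 745472 i)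
noncomputable def eT723 (i : Nat) : Nat := Bool.rec (eT719 i) (eT722 i) (Nat.ble 743424 i)
noncomputable def eT724 (i : Nat) : Nat := Bool.rec (eT717 i) (eT723 i) (Nat.ble 740352 i)
noncomputable def eT725 (i : Nat) : Nat := Bool.rec (eT711 i) (eT724 i) (Nat.ble 733184 i)
noncomputable def eT726 (i : Nat) : Nat := Bool.rec (eT698 i) (eT725 i) (Nat.ble 718848 i)
noncomputable def eT727 (i : Nat) : Nat := Bool.rec (eL731 i) (eL732 i) (Nat.ble 749568 i)
noncomputable def eT728 (i : Nat) : Nat := Bool.rec (eL730 i) (eT727 i) (Nat.ble 748544 i)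
noncomputable def eT729 (i : Nat) : Nat := Bool.rec (eL733 i) (eL734 i) (Nat.ble 751616 i)
noncomputable def eT730 (i : Nat) : Nat := Bool.rec (eL735 i) (eL736 i) (Nat.ble 753664 i)
noncomputable def eT731 (i : Nat) : Nat := Bool.rec (eT729 i) (eT730 i) (Nat.ble 752640 i)
noncomputable def eT732 (i : Nat) : Nat := Bool.rec (eT728 i) (eT731 i) (Nat.ble 750592 i)
noncomputable def eT733 (i : Nat) : Nat := Bool.rec (eL738 i) (eL739 i) (Nat.ble 756736 i)
noncomputable def eT734 (i : Nat) : Nat := Bool.rec (eL737 i) (eT733 i) (Nat.ble 755712 i)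
noncomputable def eT735 (i : Nat) : Nat := Bool.rec (eL740 i) (eL741 i) (Nat.ble 758784 i)
noncomputable def eT736 (i : Nat) : Nat := Bool.rec (eL742 i) (eL743 i) (Nat.ble 760832 i)
noncomputable def eT737 (i : Nat) : Nat := Bool.rec (eT735 i) (eT736 i) (Nat.ble 759808 i)
noncomputable def eT738 (i : Nat) : Nat := Bool.rec (eT734 i) (eT737 i) (Nat.ble 757760 i)
noncomputable def eT739 (i : Nat) : Nat := Bool.rec (eT732 i) (eT738 i) (Nat.ble 754688 i)
noncomputable def eT740 (i : Nat) : Nat := Bool.rec (eL745 i) (eL746 i) (Nat.ble 763904 i)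
noncomputable def eT741 (i : Nat) : Nat := Bool.rec (eL744 i) (eT740 i) (Nat.ble 762880 i)
noncomputable def eT742 (i : Nat) : Nat := Bool.rec (eL747 i) (eL748 i) (Nat.ble 765952 i)
noncomputable def eT743 (i : Nat) : Nat := Bool.rec (eL749 i) (eL750 i) (Nat.ble 768000 i)
noncomputable def eT744 (i : Nat) : Nat := Bool.rec (eT742 i) (eT743 i) (Nat.ble 766976 i)
noncomputable def eT745 (i : Nat) : Nat := Bool.rec (eT741 i) (eT744 i) (Nat.ble 764928 i)
noncomputable def eT746 (i : Nat) : Nat := Bool.rec (eL752 i) (eL753 i) (Nat.ble 771072 i)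
noncomputable def eT747 (i : Nat) : Nat := Bool.rec (eL751 i) (eT746 i) (Nat.ble 770048 i)
noncomputable def eT748 (i : Nat) : Nat := Bool.rec (eL754 i) (eL755 i) (Nat.ble 773120 i)
noncomputable def eT749 (i : Nat) : Nat := Bool.rec (eL756 i) (eL757 i) (Nat.ble 775168 i)
noncomputable def eT750 (i : Nat) : Nat := Bool.rec (eT748 i) (eT749 i) (Nat.ble 774144 i)
noncomputable def eT751 (i : Nat) : Nat := Bool.rec (eT747 i) (eT750 i) (Nat.ble 772096 i)
noncomputable def eT752 (i : Nat) : Nat := Bool.rec (eT745 i) (eT751 i) (Nat.ble 769024 i)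
noncomputable def eT753 (i : Nat) : Nat := Bool.rec (eT739 i) (eT752 i) (Nat.ble 761856 i)
noncomputable def eT754 (i : Nat) : Nat := Bool.rec (eL759 i) (eL760 i) (Nat.ble 778240 i)
noncomputable def eT755 (i : Nat) : Nat := Bool.rec (eL758 i) (eT754 i) (Nat.ble 777216 i)
noncomputable def eT756 (i : Nat) : Nat := Bool.rec (eL761 i) (eL762 i) (Nat.ble 780288 i)
noncomputable def eT757 (i : Nat) : Nat := Bool.rec (eL763 i) (eL764 i) (Nat.ble 782336 i)
noncomputable def eT758 (i : Nat) : Nat := Bool.rec (eT756 i) (eT757 i) (Nat.ble 781312 i)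
noncomputable def eT759 (i : Nat) : Nat := Bool.rec (eT755 i) (eT758 i) (Nat.ble 779264 i)
noncomputable def eT760 (i : Nat) : Nat := Bool.rec (eL766 i) (eL767 i) (Nat.ble 785408 i)
noncomputable def eT761 (i : Nat) : Nat := Bool.rec (eL765 i) (eT760 i) (Nat.ble 784384 i)
noncomputable def eT762 (i : Nat) : Nat := Bool.rec (eL768 i) (eL769 i) (Nat.ble 787456 i)
noncomputable def eT763 (i : Nat) : Nat := Bool.rec (eL770 i) (eL771 i) (Nat.ble 789504 i)
noncomputable def eT764 (i : Nat) : Nat := Bool.rec (eT762 i) (eT763 i) (Nat.ble 788480 i)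
noncomputable def eT765 (i : Nat) : Nat := Bool.rec (eT761 i) (eT764 i) (Nat.ble 786432 i)
noncomputable def eT766 (i : Nat) : Nat := Bool.rec (eT759 i) (eT765 i) (Nat.ble 783360 i)
noncomputable def eT767 (i : Nat) : Nat := Bool.rec (eL773 i) (eL774 i) (Nat.ble 792576 i)
noncomputable def eT768 (i : Nat) : Nat := Bool.rec (eL772 i) (eT767 i) (Nat.ble 791552 i)
noncomputable def eT769 (i : Nat) : Nat := Bool.rec (eL775 i) (eL776 i) (Nat.ble 794624 i)
noncomputable def eT770 (i : Nat) : Nat := Bool.rec (eL777 i) (eL778 i) (Nat.ble 796672 i)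
noncomputable def eT771 (i : Nat) : Nat := Bool.rec (eT769 i) (eT770 i) (Nat.ble 795648 i)
noncomputable def eT772 (i : Nat) : Nat := Bool.rec (eT768 i) (eT771 i) (Nat.ble 793600 i)
noncomputable def eT773 (i : Nat) : Nat := Bool.rec (eL780 i) (eL781 i) (Nat.ble 799744 i)
noncomputable def eT774 (i : Nat) : Nat := Bool.rec (eL779 i) (eT773 i) (Nat.ble 798720 i)
noncomputable def eT775 (i : Nat) : Nat := Bool.rec (eL782 i) (eL783 i) (Nat.ble 801792 i)
noncomputable def eT776 (i : Nat) : Nat := Bool.rec (eL784 i) (eL785 i) (Nat.ble 803840 i)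
noncomputable def eT777 (i : Nat) : Nat := Bool.rec (eT775 i) (eT776 i) (Nat.ble 802816 i)
noncomputable def eT778 (i : Nat) : Nat := Bool.rec (eT774 i) (eT777 i) (Nat.ble 800768 i)
noncomputable def eT779 (i : Nat) : Nat := Bool.rec (eT772 i) (eT778 i) (Nat.ble 797696 i)
noncomputable def eT780 (i : Nat) : Nat := Bool.rec (eT766 i) (eT779 i) (Nat.ble 790528 i)
noncomputable def eT781 (i : Nat) : Nat := Bool.rec (eT753 i) (eT780 i) (Nat.ble 776192 i)
noncomputable def eT782 (i : Nat) : Nat := Bool.rec (eT726 i) (eT781 i) (Nat.ble 747520 i)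
noncomputable def eT783 (i : Nat) : Nat := Bool.rec (eL787 i) (eL788 i) (Nat.ble 806912 i)
noncomputable def eT784 (i : Nat) : Nat := Bool.rec (eL786 i) (eT783 i) (Nat.ble 805888 i)
noncomputable def eT785 (i : Nat) : Nat := Bool.rec (eL789 i) (eL790 i) (Nat.ble 808960 i)
noncomputable def eT786 (i : Nat) : Nat := Bool.rec (eL791 i) (eL792 i) (Nat.ble 811008 i)
noncomputable def eT787 (i : Nat) : Nat := Bool.rec (eT785 i) (eT786 i) (Nat.ble 809984 i)
noncomputable def eT788 (i : Nat) : Nat := Bool.rec (eT784 i) (eT787 i) (Nat.ble 807936 i)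
noncomputable def eT789 (i : Nat) : Nat := Bool.rec (eL794 i) (eL795 i) (Nat.ble 814080 i)
noncomputable def eT790 (i : Nat) : Nat := Bool.rec (eL793 i) (eT789 i) (Nat.ble 813056 i)
noncomputable def eT791 (i : Nat) : Nat := Bool.rec (eL796 i) (eL797 i) (Nat.ble 816128 i)
noncomputable def eT792 (i : Nat) : Nat := Bool.rec (eL798 i) (eL799 i) (Nat.ble 818176 i)
noncomputable def eT793 (i : Nat) : Nat := Bool.rec (eT791 i) (eT792 i) (Nat.ble 817152 i)
noncomputable def eT794 (i : Nat) : Nat := Bool.rec (eT790 i) (eT793 i) (Nat.ble 815104 i)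
noncomputable def eT795 (i : Nat) : Nat := Bool.rec (eT788 i) (eT794 i) (Nat.ble 812032 i)
noncomputable def eT796 (i : Nat) : Nat := Bool.rec (eL801 i) (eL802 i) (Nat.ble 821248 i)
noncomputable def eT797 (i : Nat) : Nat := Bool.rec (eL800 i) (eT796 i) (Nat.ble 820224 i)
noncomputable def eT798 (i : Nat) : Nat := Bool.rec (eL803 i) (eL804 i) (Nat.ble 823296 i)
noncomputable def eT799 (i : Nat) : Nat := Bool.rec (eL805 i) (eL806 i) (Nat.ble 825344 i)
noncomputable def eT800 (i : Nat) : Nat := Bool.rec (eT798 i) (eT799 i) (Nat.ble 824320 i)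
noncomputable def eT801 (i : Nat) : Nat := Bool.rec (eT797 i) (eT800 i) (Nat.ble 822272 i)
noncomputable def eT802 (i : Nat) : Nat := Bool.rec (eL808 i) (eL809 i) (Nat.ble 828416 i)
noncomputable def eT803 (i : Nat) : Nat := Bool.rec (eL807 i) (eT802 i) (Nat.ble 827392 i)
noncomputable def eT804 (i : Nat) : Nat := Bool.rec (eL810 i) (eL811 i) (Nat.ble 830464 i)
noncomputable def eT805 (i : Nat) : Nat := Bool.rec (eL812 i) (eL813 i) (Nat.ble 832512 i)
noncomputable def eT806 (i : Nat) : Nat := Bool.rec (eT804 i) (eT805 i) (Nat.ble 831488 i)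
noncomputable def eT807 (i : Nat) : Nat := Bool.rec (eT803 i) (eT806 i) (Nat.ble 829440 i)
noncomputable def eT808 (i : Nat) : Nat := Bool.rec (eT801 i) (eT807 i) (Nat.ble 826368 i)
noncomputable def eT809 (i : Nat) : Nat := Bool.rec (eT795 i) (eT808 i) (Nat.ble 819200 i)
noncomputable def eT810 (i : Nat) : Nat := Bool.rec (eL815 i) (eL816 i) (Nat.ble 835584 i)
noncomputable def eT811 (i : Nat) : Nat := Bool.rec (eL814 i) (eT810 i) (Nat.ble 834560 i)
noncomputable def eT812 (i : Nat) : Nat := Bool.rec (eL817 i) (eL818 i) (Nat.ble 837632 i)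
noncomputable def eT813 (i : Nat) : Nat := Bool.rec (eL819 i) (eL820 i) (Nat.ble 839680 i)
noncomputable def eT814 (i : Nat) : Nat := Bool.rec (eT812 i) (eT813 i) (Nat.ble 838656 i)
noncomputable def eT815 (i : Nat) : Nat := Bool.rec (eT811 i) (eT814 i) (Nat.ble 836608 i)
noncomputable def eT816 (i : Nat) : Nat := Bool.rec (eL822 i) (eL823 i) (Nat.ble 842752 i)
noncomputable def eT817 (i : Nat) : Nat := Bool.rec (eL821 i) (eT816 i) (Nat.ble 841728 i)
noncomputable def eT818 (i : Nat) : Nat := Bool.rec (eL824 i) (eL825 i) (Nat.ble 844800 i)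
noncomputable def eT819 (i : Nat) : Nat := Bool.rec (eL826 i) (eL827 i) (Nat.ble 846848 i)
noncomputable def eT820 (i : Nat) : Nat := Bool.rec (eT818 i) (eT819 i) (Nat.ble 845824 i)
noncomputable def eT821 (i : Nat) : Nat := Bool.rec (eT817 i) (eT820 i) (Nat.ble 843776 i)
noncomputable def eT822 (i : Nat) : Nat := Bool.rec (eT815 i) (eT821 i) (Nat.ble 840704 i)
noncomputable def eT823 (i : Nat) : Nat := Bool.rec (eL829 i) (eL830 i) (Nat.ble 849920 i)
noncomputable def eT824 (i : Nat) : Nat := Bool.rec (eL828 i) (eT823 i) (Nat.ble 848896 i)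
noncomputable def eT825 (i : Nat) : Nat := Bool.rec (eL831 i) (eL832 i) (Nat.ble 851968 i)
noncomputable def eT826 (i : Nat) : Nat := Bool.rec (eL833 i) (eL834 i) (Nat.ble 854016 i)
noncomputable def eT827 (i : Nat) : Nat := Bool.rec (eT825 i) (eT826 i) (Nat.ble 852992 i)
noncomputable def eT828 (i : Nat) : Nat := Bool.rec (eT824 i) (eT827 i) (Nat.ble 850944 i)
noncomputable def eT829 (i : Nat) : Nat := Bool.rec (eL836 i) (eL837 i) (Nat.ble 857088 i)
noncomputable def eT830 (i : Nat) : Nat := Bool.rec (eL835 i) (eT829 i) (Nat.ble 856064 i)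
noncomputable def eT831 (i : Nat) : Nat := Bool.rec (eL838 i) (eL839 i) (Nat.ble 859136 i)
noncomputable def eT832 (i : Nat) : Nat := Bool.rec (eL840 i) (eL841 i) (Nat.ble 861184 i)
noncomputable def eT833 (i : Nat) : Nat := Bool.rec (eT831 i) (eT832 i) (Nat.ble 860160 i)
noncomputable def eT834 (i : Nat) : Nat := Bool.rec (eT830 i) (eT833 i) (Nat.ble 858112 i)
noncomputable def eT835 (i : Nat) : Nat := Bool.rec (eT828 i) (eT834 i) (Nat.ble 855040 i)
noncomputable def eT836 (i : Nat) : Nat := Bool.rec (eT822 i) (eT835 i) (Nat.ble 847872 i)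
noncomputable def eT837 (i : Nat) : Nat := Bool.rec (eT809 i) (eT836 i) (Nat.ble 833536 i)
noncomputable def eT838 (i : Nat) : Nat := Bool.rec (eL843 i) (eL844 i) (Nat.ble 864256 i)
noncomputable def eT839 (i : Nat) : Nat := Bool.rec (eL842 i) (eT838 i) (Nat.ble 863232 i)
noncomputable def eT840 (i : Nat) : Nat := Bool.rec (eL845 i) (eL846 i) (Nat.ble 866304 i)
noncomputable def eT841 (i : Nat) : Nat := Bool.rec (eL847 i) (eL848 i) (Nat.ble 868352 i)
noncomputable def eT842 (i : Nat) : Nat := Bool.rec (eT840 i) (eT841 i) (Nat.ble 867328 i)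
noncomputable def eT843 (i : Nat) : Nat := Bool.rec (eT839 i) (eT842 i) (Nat.ble 865280 i)
noncomputable def eT844 (i : Nat) : Nat := Bool.rec (eL850 i) (eL851 i) (Nat.ble 871424 i)
noncomputable def eT845 (i : Nat) : Nat := Bool.rec (eL849 i) (eT844 i) (Nat.ble 870400 i)
noncomputable def eT846 (i : Nat) : Nat := Bool.rec (eL852 i) (eL853 i) (Nat.ble 873472 i)
noncomputable def eT847 (i : Nat) : Nat := Bool.rec (eL854 i) (eL855 i) (Nat.ble 875520 i)
noncomputable def eT848 (i : Nat) : Nat := Bool.rec (eT846 i) (eT847 i) (Nat.ble 874496 i)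
noncomputable def eT849 (i : Nat) : Nat := Bool.rec (eT845 i) (eT848 i) (Nat.ble 872448 i)
noncomputable def eT850 (i : Nat) : Nat := Bool.rec (eT843 i) (eT849 i) (Nat.ble 869376 i)
noncomputable def eT851 (i : Nat) : Nat := Bool.rec (eL857 i) (eL858 i) (Nat.ble 878592 i)
noncomputable def eT852 (i : Nat) : Nat := Bool.rec (eL856 i) (eT851 i) (Nat.ble 877568 i)
noncomputable def eT853 (i : Nat) : Nat := Bool.rec (eL859 i) (eL860 i) (Nat.ble 880640 i)
noncomputable def eT854 (i : Nat) : Nat := Bool.rec (eL861 i) (eL862 i) (Nat.ble 882688 i)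
noncomputable def eT855 (i : Nat) : Nat := Bool.rec (eT853 i) (eT854 i) (Nat.ble 881664 i)
noncomputable def eT856 (i : Nat) : Nat := Bool.rec (eT852 i) (eT855 i) (Nat.ble 879616 i)
noncomputable def eT857 (i : Nat) : Nat := Bool.rec (eL864 i) (eL865 i) (Nat.ble 885760 i)
noncomputable def eT858 (i : Nat) : Nat := Bool.rec (eL863 i) (eT857 i) (Nat.ble 884736 i)
noncomputable def eT859 (i : Nat) : Nat := Bool.rec (eL866 i) (eL867 i) (Nat.ble 887808 i)
noncomputable def eT860 (i : Nat) : Nat := Bool.rec (eL868 i) (eL869 i) (Nat.ble 889856 i)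
noncomputable def eT861 (i : Nat) : Nat := Bool.rec (eT859 i) (eT860 i) (Nat.ble 888832 i)
noncomputable def eT862 (i : Nat) : Nat := Bool.rec (eT858 i) (eT861 i) (Nat.ble 886784 i)
noncomputable def eT863 (i : Nat) : Nat := Bool.rec (eT856 i) (eT862 i) (Nat.ble 883712 i)
noncomputable def eT864 (i : Nat) : Nat := Bool.rec (eT850 i) (eT863 i) (Nat.ble 876544 i)
noncomputable def eT865 (i : Nat) : Nat := Bool.rec (eL871 i) (eL872 i) (Nat.ble 892928 i)
noncomputable def eT866 (i : Nat) : Nat := Bool.rec (eL870 i) (eT865 i) (Nat.ble 891904 i)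
noncomputable def eT867 (i : Nat) : Nat := Bool.rec (eL873 i) (eL874 i) (Nat.ble 894976 i)
noncomputable def eT868 (i : Nat) : Nat := Bool.rec (eL875 i) (eL876 i) (Nat.ble 897024 i)
noncomputable def eT869 (i : Nat) : Nat := Bool.rec (eT867 i) (eT868 i) (Nat.ble 896000 i)
noncomputable def eT870 (i : Nat) : Nat := Bool.rec (eT866 i) (eT869 i) (Nat.ble 893952 i)
noncomputable def eT871 (i : Nat) : Nat := Bool.rec (eL878 i) (eL879 i) (Nat.ble 900096 i)
noncomputable def eT872 (i : Nat) : Nat := Bool.rec (eL877 i) (eT871 i) (Nat.ble 899072 i)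
noncomputable def eT873 (i : Nat) : Nat := Bool.rec (eL880 i) (eL881 i) (Nat.ble 902144 i)
noncomputable def eT874 (i : Nat) : Nat := Bool.rec (eL882 i) (eL883 i) (Nat.ble 904192 i)
noncomputable def eT875 (i : Nat) : Nat := Bool.rec (eT873 i) (eT874 i) (Nat.ble 903168 i)
noncomputable def eT876 (i : Nat) : Nat := Bool.rec (eT872 i) (eT875 i) (Nat.ble 901120 i)
noncomputable def eT877 (i : Nat) : Nat := Bool.rec (eT870 i) (eT876 i) (Nat.ble 898048 i)
noncomputable def eT878 (i : Nat) : Nat := Bool.rec (eL885 i) (eL886 i) (Nat.ble 907264 i)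
noncomputable def eT879 (i : Nat) : Nat := Bool.rec (eL884 i) (eT878 i) (Nat.ble 906240 i)
noncomputable def eT880 (i : Nat) : Nat := Bool.rec (eL887 i) (eL888 i) (Nat.ble 909312 i)
noncomputable def eT881 (i : Nat) : Nat := Bool.rec (eL889 i) (eL890 i) (Nat.ble 911360 i)
noncomputable def eT882 (i : Nat) : Nat := Bool.rec (eT880 i) (eT881 i) (Nat.ble 910336 i)
noncomputable def eT883 (i : Nat) : Nat := Bool.rec (eT879 i) (eT882 i) (Nat.ble 908288 i)
noncomputable def eT884 (i : Nat) : Nat := Bool.rec (eL891 i) (eL892 i) (Nat.ble 913408 i)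
noncomputable def eT885 (i : Nat) : Nat := Bool.rec (eL893 i) (eL894 i) (Nat.ble 915456 i)
noncomputable def eT886 (i : Nat) : Nat := Bool.rec (eT884 i) (eT885 i) (Nat.ble 914432 i)
noncomputable def eT887 (i : Nat) : Nat := Bool.rec (eL895 i) (eL896 i) (Nat.ble 917504 i)
noncomputable def eT888 (i : Nat) : Nat := Bool.rec (eL897 i) (eL898 i) (Nat.ble 919552 i)
noncomputable def eT889 (i : Nat) : Nat := Bool.rec (eT887 i) (eT888 i) (Nat.ble 918528 i)
noncomputable def eT890 (i : Nat) : Nat := Bool.rec (eT886 i) (eT889 i) (Nat.ble 916480 i)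
noncomputable def eT891 (i : Nat) : Nat := Bool.rec (eT883 i) (eT890 i) (Nat.ble 912384 i)
noncomputable def eT892 (i : Nat) : Nat := Bool.rec (eT877 i) (eT891 i) (Nat.ble 905216 i)
noncomputable def eT893 (i : Nat) : Nat := Bool.rec (eT864 i) (eT892 i) (Nat.ble 890880 i)
noncomputable def eT894 (i : Nat) : Nat := Bool.rec (eT837 i) (eT893 i) (Nat.ble 862208 i)
noncomputable def eT895 (i : Nat) : Nat := Bool.rec (eT782 i) (eT894 i) (Nat.ble 804864 i)
noncomputable def eT896 (i : Nat) : Nat := Bool.rec (eT671 i) (eT895 i) (Nat.ble 690176 i)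
noncomputable def eT897 (i : Nat) : Nat := Bool.rec (eT447 i) (eT896 i) (Nat.ble 459776 i)
noncomputable def eT898 (i : Nat) : Nat := Bool.rec (eL900 i) (eL901 i) (Nat.ble 922624 i)
noncomputable def eT899 (i : Nat) : Nat := Bool.rec (eL899 i) (eT898 i) (Nat.ble 921600 i)
noncomputable def eT900 (i : Nat) : Nat := Bool.rec (eL902 i) (eL903 i) (Nat.ble 924672 i)
noncomputable def eT901 (i : Nat) : Nat := Bool.rec (eL904 i) (eL905 i) (Nat.ble 926720 i)
noncomputable def eT902 (i : Nat) : Nat := Bool.rec (eT900 i) (eT901 i) (Nat.ble 925696 i)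
noncomputable def eT903 (i : Nat) : Nat := Bool.rec (eT899 i) (eT902 i) (Nat.ble 923648 i)
noncomputable def eT904 (i : Nat) : Nat := Bool.rec (eL907 i) (eL908 i) (Nat.ble 929792 i)
noncomputable def eT905 (i : Nat) : Nat := Bool.rec (eL906 i) (eT904 i) (Nat.ble 928768 i)
noncomputable def eT906 (i : Nat) : Nat := Bool.rec (eL909 i) (eL910 i) (Nat.ble 931840 i)
noncomputable def eT907 (i : Nat) : Nat := Bool.rec (eL911 i) (eL912 i) (Nat.ble 933888 i)
noncomputable def eT908 (i : Nat) : Nat := Bool.rec (eT906 i) (eT907 i) (Nat.ble 932864 i)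
noncomputable def eT909 (i : Nat) : Nat := Bool.rec (eT905 i) (eT908 i) (Nat.ble 930816 i)
noncomputable def eT910 (i : Nat) : Nat := Bool.rec (eT903 i) (eT909 i) (Nat.ble 927744 i)
noncomputable def eT911 (i : Nat) : Nat := Bool.rec (eL914 i) (eL915 i) (Nat.ble 936960 i)
noncomputable def eT912 (i : Nat) : Nat := Bool.rec (eL913 i) (eT911 i) (Nat.ble 935936 i)
noncomputable def eT913 (i : Nat) : Nat := Bool.rec (eL916 i) (eL917 i) (Nat.ble 939008 i)
noncomputable def eT914 (i : Nat) : Nat := Bool.rec (eL918 i) (eL919 i) (Nat.ble 941056 i)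
noncomputable def eT915 (i : Nat) : Nat := Bool.rec (eT913 i) (eT914 i) (Nat.ble 940032 i)
noncomputable def eT916 (i : Nat) : Nat := Bool.rec (eT912 i) (eT915 i) (Nat.ble 937984 i)
noncomputable def eT917 (i : Nat) : Nat := Bool.rec (eL921 i) (eL922 i) (Nat.ble 944128 i)
noncomputable def eT918 (i : Nat) : Nat := Bool.rec (eL920 i) (eT917 i) (Nat.ble 943104 i)
noncomputable def eT919 (i : Nat) : Nat := Bool.rec (eL923 i) (eL924 i) (Nat.ble 946176 i)
noncomputable def eT920 (i : Nat) : Nat := Bool.rec (eL925 i) (eL926 i) (Nat.ble 948224 i)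
noncomputable def eT921 (i : Nat) : Nat := Bool.rec (eT919 i) (eT920 i) (Nat.ble 947200 i)
noncomputable def eT922 (i : Nat) : Nat := Bool.rec (eT918 i) (eT921 i) (Nat.ble 945152 i)
noncomputable def eT923 (i : Nat) : Nat := Bool.rec (eT916 i) (eT922 i) (Nat.ble 942080 i)
noncomputable def eT924 (i : Nat) : Nat := Bool.rec (eT910 i) (eT923 i) (Nat.ble 934912 i)
noncomputable def eT925 (i : Nat) : Nat := Bool.rec (eL928 i) (eL929 i) (Nat.ble 951296 i)
noncomputable def eT926 (i : Nat) : Nat := Bool.rec (eL927 i) (eT925 i) (Nat.ble 950272 i)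
noncomputable def eT927 (i : Nat) : Nat := Bool.rec (eL930 i) (eL931 i) (Nat.ble 953344 i)
noncomputable def eT928 (i : Nat) : Nat := Bool.rec (eL932 i) (eL933 i) (Nat.ble 955392 i)
noncomputable def eT929 (i : Nat) : Nat := Bool.rec (eT927 i) (eT928 i) (Nat.ble 954368 i)
noncomputable def eT930 (i : Nat) : Nat := Bool.rec (eT926 i) (eT929 i) (Nat.ble 952320 i)
noncomputable def eT931 (i : Nat) : Nat := Bool.rec (eL935 i) (eL936 i) (Nat.ble 958464 i)
noncomputable def eT932 (i : Nat) : Nat := Bool.rec (eL934 i) (eT931 i) (Nat.ble 957440 i)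
noncomputable def eT933 (i : Nat) : Nat := Bool.rec (eL937 i) (eL938 i) (Nat.ble 960512 i)
noncomputable def eT934 (i : Nat) : Nat := Bool.rec (eL939 i) (eL940 i) (Nat.ble 962560 i)
noncomputable def eT935 (i : Nat) : Nat := Bool.rec (eT933 i) (eT934 i) (Nat.ble 961536 i)
noncomputable def eT936 (i : Nat) : Nat := Bool.rec (eT932 i) (eT935 i) (Nat.ble 959488 i)
noncomputable def eT937 (i : Nat) : Nat := Bool.rec (eT930 i) (eT936 i) (Nat.ble 956416 i)
noncomputable def eT938 (i : Nat) : Nat := Bool.rec (eL942 i) (eL943 i) (Nat.ble 965632 i)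
noncomputable def eT939 (i : Nat) : Nat := Bool.rec (eL941 i) (eT938 i) (Nat.ble 964608 i)
noncomputable def eT940 (i : Nat) : Nat := Bool.rec (eL944 i) (eL945 i) (Nat.ble 967680 i)
noncomputable def eT941 (i : Nat) : Nat := Bool.rec (eL946 i) (eL947 i) (Nat.ble 969728 i)
noncomputable def eT942 (i : Nat) : Nat := Bool.rec (eT940 i) (eT941 i) (Nat.ble 968704 i)
noncomputable def eT943 (i : Nat) : Nat := Bool.rec (eT939 i) (eT942 i) (Nat.ble 966656 i)
noncomputable def eT944 (i : Nat) : Nat := Bool.rec (eL949 i) (eL950 i) (Nat.ble 972800 i)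
noncomputable def eT945 (i : Nat) : Nat := Bool.rec (eL948 i) (eT944 i) (Nat.ble 971776 i)
noncomputable def eT946 (i : Nat) : Nat := Bool.rec (eL951 i) (eL952 i) (Nat.ble 974848 i)
noncomputable def eT947 (i : Nat) : Nat := Bool.rec (eL953 i) (eL954 i) (Nat.ble 976896 i)
noncomputable def eT948 (i : Nat) : Nat := Bool.rec (eT946 i) (eT947 i) (Nat.ble 975872 i)
noncomputable def eT949 (i : Nat) : Nat := Bool.rec (eT945 i) (eT948 i) (Nat.ble 973824 i)
noncomputable def eT950 (i : Nat) : Nat := Bool.rec (eT943 i) (eT949 i) (Nat.ble 970752 i)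
noncomputable def eT951 (i : Nat) : Nat := Bool.rec (eT937 i) (eT950 i) (Nat.ble 963584 i)
noncomputable def eT952 (i : Nat) : Nat := Bool.rec (eT924 i) (eT951 i) (Nat.ble 949248 i)
noncomputable def eT953 (i : Nat) : Nat := Bool.rec (eL956 i) (eL957 i) (Nat.ble 979968 i)
noncomputable def eT954 (i : Nat) : Nat := Bool.rec (eL955 i) (eT953 i) (Nat.ble 978944 i)
noncomputable def eT955 (i : Nat) : Nat := Bool.rec (eL958 i) (eL959 i) (Nat.ble 982016 i)
noncomputable def eT956 (i : Nat) : Nat := Bool.rec (eL960 i) (eL961 i) (Nat.ble 984064 i)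
noncomputable def eT957 (i : Nat) : Nat := Bool.rec (eT955 i) (eT956 i) (Nat.ble 983040 i)
noncomputable def eT958 (i : Nat) : Nat := Bool.rec (eT954 i) (eT957 i) (Nat.ble 980992 i)
noncomputable def eT959 (i : Nat) : Nat := Bool.rec (eL963 i) (eL964 i) (Nat.ble 987136 i)
noncomputable def eT960 (i : Nat) : Nat := Bool.rec (eL962 i) (eT959 i) (Nat.ble 986112 i)
noncomputable def eT961 (i : Nat) : Nat := Bool.rec (eL965 i) (eL966 i) (Nat.ble 989184 i)
noncomputable def eT962 (i : Nat) : Nat := Bool.rec (eL967 i) (eL968 i) (Nat.ble 991232 i)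
noncomputable def eT963 (i : Nat) : Nat := Bool.rec (eT961 i) (eT962 i) (Nat.ble 990208 i)
noncomputable def eT964 (i : Nat) : Nat := Bool.rec (eT960 i) (eT963 i) (Nat.ble 988160 i)
noncomputable def eT965 (i : Nat) : Nat := Bool.rec (eT958 i) (eT964 i) (Nat.ble 985088 i)
noncomputable def eT966 (i : Nat) : Nat := Bool.rec (eL970 i) (eL971 i) (Nat.ble 994304 i)
noncomputable def eT967 (i : Nat) : Nat := Bool.rec (eL969 i) (eT966 i) (Nat.ble 993280 i)
noncomputable def eT968 (i : Nat) : Nat := Bool.rec (eL972 i) (eL973 i) (Nat.ble 996352 i)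
noncomputable def eT969 (i : Nat) : Nat := Bool.rec (eL974 i) (eL975 i) (Nat.ble 998400 i)
noncomputable def eT970 (i : Nat) : Nat := Bool.rec (eT968 i) (eT969 i) (Nat.ble 997376 i)
noncomputable def eT971 (i : Nat) : Nat := Bool.rec (eT967 i) (eT970 i) (Nat.ble 995328 i)
noncomputable def eT972 (i : Nat) : Nat := Bool.rec (eL977 i) (eL978 i) (Nat.ble 1001472 i)
noncomputable def eT973 (i : Nat) : Nat := Bool.rec (eL976 i) (eT972 i) (Nat.ble 1000448 i)
noncomputable def eT974 (i : Nat) : Nat := Bool.rec (eL979 i) (eL980 i) (Nat.ble 1003520 i)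
noncomputable def eT975 (i : Nat) : Nat := Bool.rec (eL981 i) (eL982 i) (Nat.ble 1005568 i)
noncomputable def eT976 (i : Nat) : Nat := Bool.rec (eT974 i) (eT975 i) (Nat.ble 1004544 i)
noncomputable def eT977 (i : Nat) : Nat := Bool.rec (eT973 i) (eT976 i) (Nat.ble 1002496 i)
noncomputable def eT978 (i : Nat) : Nat := Bool.rec (eT971 i) (eT977 i) (Nat.ble 999424 i)
noncomputable def eT979 (i : Nat) : Nat := Bool.rec (eT965 i) (eT978 i) (Nat.ble 992256 i)
noncomputable def eT980 (i : Nat) : Nat := Bool.rec (eL984 i) (eL985 i) (Nat.ble 1008640 i)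
noncomputable def eT981 (i : Nat) : Nat := Bool.rec (eL983 i) (eT980 i) (Nat.ble 1007616 i)
noncomputable def eT982 (i : Nat) : Nat := Bool.rec (eL986 i) (eL987 i) (Nat.ble 1010688 i)
noncomputable def eT983 (i : Nat) : Nat := Bool.rec (eL988 i) (eL989 i) (Nat.ble 1012736 i)
noncomputable def eT984 (i : Nat) : Nat := Bool.rec (eT982 i) (eT983 i) (Nat.ble 1011712 i)
noncomputable def eT985 (i : Nat) : Nat := Bool.rec (eT981 i) (eT984 i) (Nat.ble 1009664 i)
noncomputable def eT986 (i : Nat) : Nat := Bool.rec (eL991 i) (eL992 i) (Nat.ble 1015808 i)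
noncomputable def eT987 (i : Nat) : Nat := Bool.rec (eL990 i) (eT986 i) (Nat.ble 1014784 i)
noncomputable def eT988 (i : Nat) : Nat := Bool.rec (eL993 i) (eL994 i) (Nat.ble 1017856 i)
noncomputable def eT989 (i : Nat) : Nat := Bool.rec (eL995 i) (eL996 i) (Nat.ble 1019904 i)
noncomputable def eT990 (i : Nat) : Nat := Bool.rec (eT988 i) (eT989 i) (Nat.ble 1018880 i)
noncomputable def eT991 (i : Nat) : Nat := Bool.rec (eT987 i) (eT990 i) (Nat.ble 1016832 i)
noncomputable def eT992 (i : Nat) : Nat := Bool.rec (eT985 i) (eT991 i) (Nat.ble 1013760 i)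
noncomputable def eT993 (i : Nat) : Nat := Bool.rec (eL998 i) (eL999 i) (Nat.ble 1022976 i)
noncomputable def eT994 (i : Nat) : Nat := Bool.rec (eL997 i) (eT993 i) (Nat.ble 1021952 i)
noncomputable def eT995 (i : Nat) : Nat := Bool.rec (eL1000 i) (eL1001 i) (Nat.ble 1025024 i)
noncomputable def eT996 (i : Nat) : Nat := Bool.rec (eL1002 i) (eL1003 i) (Nat.ble 1027072 i)
noncomputable def eT997 (i : Nat) : Nat := Bool.rec (eT995 i) (eT996 i) (Nat.ble 1026048 i)
noncomputable def eT998 (i : Nat) : Nat := Bool.rec (eT994 i) (eT997 i) (Nat.ble 1024000 i)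
noncomputable def eT999 (i : Nat) : Nat := Bool.rec (eL1005 i) (eL1006 i) (Nat.ble 1030144 i)
noncomputable def eT1000 (i : Nat) : Nat := Bool.rec (eL1004 i) (eT999 i) (Nat.ble 1029120 i)
noncomputable def eT1001 (i : Nat) : Nat := Bool.rec (eL1007 i) (eL1008 i) (Nat.ble 1032192 i)
noncomputable def eT1002 (i : Nat) : Nat := Bool.rec (eL1009 i) (eL1010 i) (Nat.ble 1034240 i)
noncomputable def eT1003 (i : Nat) : Nat := Bool.rec (eT1001 i) (eT1002 i) (Nat.ble 1033216 i)
noncomputable def eT1004 (i : Nat) : Nat := Bool.rec (eT1000 i) (eT1003 i) (Nat.ble 1031168 i)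
noncomputable def eT1005 (i : Nat) : Nat := Bool.rec (eT998 i) (eT1004 i) (Nat.ble 1028096 i)
noncomputable def eT1006 (i : Nat) : Nat := Bool.rec (eT992 i) (eT1005 i) (Nat.ble 1020928 i)
noncomputable def eT1007 (i : Nat) : Nat := Bool.rec (eT979 i) (eT1006 i) (Nat.ble 1006592 i)
noncomputable def eT1008 (i : Nat) : Nat := Bool.rec (eT952 i) (eT1007 i) (Nat.ble 977920 i)
noncomputable def eT1009 (i : Nat) : Nat := Bool.rec (eL1012 i) (eL1013 i) (Nat.ble 1037312 i)
noncomputable def eT1010 (i : Nat) : Nat := Bool.rec (eL1011 i) (eT1009 i) (Nat.ble 1036288 i)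
noncomputable def eT1011 (i : Nat) : Nat := Bool.rec (eL1014 i) (eL1015 i) (Nat.ble 1039360 i)
noncomputable def eT1012 (i : Nat) : Nat := Bool.rec (eL1016 i) (eL1017 i) (Nat.ble 1041408 i)
noncomputable def eT1013 (i : Nat) : Nat := Bool.rec (eT1011 i) (eT1012 i) (Nat.ble 1040384 i)
noncomputable def eT1014 (i : Nat) : Nat := Bool.rec (eT1010 i) (eT1013 i) (Nat.ble 1038336 i)
noncomputable def eT1015 (i : Nat) : Nat := Bool.rec (eL1019 i) (eL1020 i) (Nat.ble 1044480 i)
noncomputable def eT1016 (i : Nat) : Nat := Bool.rec (eL1018 i) (eT1015 i) (Nat.ble 1043456 i)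
noncomputable def eT1017 (i : Nat) : Nat := Bool.rec (eL1021 i) (eL1022 i) (Nat.ble 1046528 i)
noncomputable def eT1018 (i : Nat) : Nat := Bool.rec (eL1023 i) (eL1024 i) (Nat.ble 1048576 i)
noncomputable def eT1019 (i : Nat) : Nat := Bool.rec (eT1017 i) (eT1018 i) (Nat.ble 1047552 i)
noncomputable def eT1020 (i : Nat) : Nat := Bool.rec (eT1016 i) (eT1019 i) (Nat.ble 1045504 i)
noncomputable def eT1021 (i : Nat) : Nat := Bool.rec (eT1014 i) (eT1020 i) (Nat.ble 1042432 i)
noncomputable def eT1022 (i : Nat) : Nat := Bool.rec (eL1026 i) (eL1027 i) (Nat.ble 1051648 i)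
noncomputable def eT1023 (i : Nat) : Nat := Bool.rec (eL1025 i) (eT1022 i) (Nat.ble 1050624 i)
noncomputable def eT1024 (i : Nat) : Nat := Bool.rec (eL1028 i) (eL1029 i) (Nat.ble 1053696 i)
noncomputable def eT1025 (i : Nat) : Nat := Bool.rec (eL1030 i) (eL1031 i) (Nat.ble 1055744 i)
noncomputable def eT1026 (i : Nat) : Nat := Bool.rec (eT1024 i) (eT1025 i) (Nat.ble 1054720 i)
noncomputable def eT1027 (i : Nat) : Nat := Bool.rec (eT1023 i) (eT1026 i) (Nat.ble 1052672 i)
noncomputable def eT1028 (i : Nat) : Nat := Bool.rec (eL1033 i) (eL1034 i) (Nat.ble 1058816 i)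
noncomputable def eT1029 (i : Nat) : Nat := Bool.rec (eL1032 i) (eT1028 i) (Nat.ble 1057792 i)
noncomputable def eT1030 (i : Nat) : Nat := Bool.rec (eL1035 i) (eL1036 i) (Nat.ble 1060864 i)
noncomputable def eT1031 (i : Nat) : Nat := Bool.rec (eL1037 i) (eL1038 i) (Nat.ble 1062912 i)
noncomputable def eT1032 (i : Nat) : Nat := Bool.rec (eT1030 i) (eT1031 i) (Nat.ble 1061888 i)
noncomputable def eT1033 (i : Nat) : Nat := Bool.rec (eT1029 i) (eT1032 i) (Nat.ble 1059840 i)
noncomputable def eT1034 (i : Nat) : Nat := Bool.rec (eT1027 i) (eT1033 i) (Nat.ble 1056768 i)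
noncomputable def eT1035 (i : Nat) : Nat := Bool.rec (eT1021 i) (eT1034 i) (Nat.ble 1049600 i)
noncomputable def eT1036 (i : Nat) : Nat := Bool.rec (eL1040 i) (eL1041 i) (Nat.ble 1065984 i)
noncomputable def eT1037 (i : Nat) : Nat := Bool.rec (eL1039 i) (eT1036 i) (Nat.ble 1064960 i)
noncomputable def eT1038 (i : Nat) : Nat := Bool.rec (eL1042 i) (eL1043 i) (Nat.ble 1068032 i)
noncomputable def eT1039 (i : Nat) : Nat := Bool.rec (eL1044 i) (eL1045 i) (Nat.ble 1070080 i)
noncomputable def eT1040 (i : Nat) : Nat := Bool.rec (eT1038 i) (eT1039 i) (Nat.ble 1069056 i)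
noncomputable def eT1041 (i : Nat) : Nat := Bool.rec (eT1037 i) (eT1040 i) (Nat.ble 1067008 i)
noncomputable def eT1042 (i : Nat) : Nat := Bool.rec (eL1047 i) (eL1048 i) (Nat.ble 1073152 i)
noncomputable def eT1043 (i : Nat) : Nat := Bool.rec (eL1046 i) (eT1042 i) (Nat.ble 1072128 i)
noncomputable def eT1044 (i : Nat) : Nat := Bool.rec (eL1049 i) (eL1050 i) (Nat.ble 1075200 i)
noncomputable def eT1045 (i : Nat) : Nat := Bool.rec (eL1051 i) (eL1052 i) (Nat.ble 1077248 i)
noncomputable def eT1046 (i : Nat) : Nat := Bool.rec (eT1044 i) (eT1045 i) (Nat.ble 1076224 i)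
noncomputable def eT1047 (i : Nat) : Nat := Bool.rec (eT1043 i) (eT1046 i) (Nat.ble 1074176 i)
noncomputable def eT1048 (i : Nat) : Nat := Bool.rec (eT1041 i) (eT1047 i) (Nat.ble 1071104 i)
noncomputable def eT1049 (i : Nat) : Nat := Bool.rec (eL1054 i) (eL1055 i) (Nat.ble 1080320 i)
noncomputable def eT1050 (i : Nat) : Nat := Bool.rec (eL1053 i) (eT1049 i) (Nat.ble 1079296 i)
noncomputable def eT1051 (i : Nat) : Nat := Bool.rec (eL1056 i) (eL1057 i) (Nat.ble 1082368 i)
noncomputable def eT1052 (i : Nat) : Nat := Bool.rec (eL1058 i) (eL1059 i) (Nat.ble 1084416 i)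
noncomputable def eT1053 (i : Nat) : Nat := Bool.rec (eT1051 i) (eT1052 i) (Nat.ble 1083392 i)
noncomputable def eT1054 (i : Nat) : Nat := Bool.rec (eT1050 i) (eT1053 i) (Nat.ble 1081344 i)
noncomputable def eT1055 (i : Nat) : Nat := Bool.rec (eL1061 i) (eL1062 i) (Nat.ble 1087488 i)
noncomputable def eT1056 (i : Nat) : Nat := Bool.rec (eL1060 i) (eT1055 i) (Nat.ble 1086464 i)
noncomputable def eT1057 (i : Nat) : Nat := Bool.rec (eL1063 i) (eL1064 i) (Nat.ble 1089536 i)
noncomputable def eT1058 (i : Nat) : Nat := Bool.rec (eL1065 i) (eL1066 i) (Nat.ble 1091584 i)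
noncomputable def eT1059 (i : Nat) : Nat := Bool.rec (eT1057 i) (eT1058 i) (Nat.ble 1090560 i)
noncomputable def eT1060 (i : Nat) : Nat := Bool.rec (eT1056 i) (eT1059 i) (Nat.ble 1088512 i)
noncomputable def eT1061 (i : Nat) : Nat := Bool.rec (eT1054 i) (eT1060 i) (Nat.ble 1085440 i)
noncomputable def eT1062 (i : Nat) : Nat := Bool.rec (eT1048 i) (eT1061 i) (Nat.ble 1078272 i)
noncomputable def eT1063 (i : Nat) : Nat := Bool.rec (eT1035 i) (eT1062 i) (Nat.ble 1063936 i)
noncomputable def eT1064 (i : Nat) : Nat := Bool.rec (eL1068 i) (eL1069 i) (Nat.ble 1094656 i)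
noncomputable def eT1065 (i : Nat) : Nat := Bool.rec (eL1067 i) (eT1064 i) (Nat.ble 1093632 i)
noncomputable def eT1066 (i : Nat) : Nat := Bool.rec (eL1070 i) (eL1071 i) (Nat.ble 1096704 i)
noncomputable def eT1067 (i : Nat) : Nat := Bool.rec (eL1072 i) (eL1073 i) (Nat.ble 1098752 i)
noncomputable def eT1068 (i : Nat) : Nat := Bool.rec (eT1066 i) (eT1067 i) (Nat.ble 1097728 i)
noncomputable def eT1069 (i : Nat) : Nat := Bool.rec (eT1065 i) (eT1068 i) (Nat.ble 1095680 i)
noncomputable def eT1070 (i : Nat) : Nat := Bool.rec (eL1075 i) (eL1076 i) (Nat.ble 1101824 i)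
noncomputable def eT1071 (i : Nat) : Nat := Bool.rec (eL1074 i) (eT1070 i) (Nat.ble 1100800 i)
noncomputable def eT1072 (i : Nat) : Nat := Bool.rec (eL1077 i) (eL1078 i) (Nat.ble 1103872 i)
noncomputable def eT1073 (i : Nat) : Nat := Bool.rec (eL1079 i) (eL1080 i) (Nat.ble 1105920 i)
noncomputable def eT1074 (i : Nat) : Nat := Bool.rec (eT1072 i) (eT1073 i) (Nat.ble 1104896 i)
noncomputable def eT1075 (i : Nat) : Nat := Bool.rec (eT1071 i) (eT1074 i) (Nat.ble 1102848 i)
noncomputable def eT1076 (i : Nat) : Nat := Bool.rec (eT1069 i) (eT1075 i) (Nat.ble 1099776 i)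
noncomputable def eT1077 (i : Nat) : Nat := Bool.rec (eL1082 i) (eL1083 i) (Nat.ble 1108992 i)
noncomputable def eT1078 (i : Nat) : Nat := Bool.rec (eL1081 i) (eT1077 i) (Nat.ble 1107968 i)
noncomputable def eT1079 (i : Nat) : Nat := Bool.rec (eL1084 i) (eL1085 i) (Nat.ble 1111040 i)
noncomputable def eT1080 (i : Nat) : Nat := Bool.rec (eL1086 i) (eL1087 i) (Nat.ble 1113088 i)
noncomputable def eT1081 (i : Nat) : Nat := Bool.rec (eT1079 i) (eT1080 i) (Nat.ble 1112064 i)
noncomputable def eT1082 (i : Nat) : Nat := Bool.rec (eT1078 i) (eT1081 i) (Nat.ble 1110016 i)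
noncomputable def eT1083 (i : Nat) : Nat := Bool.rec (eL1089 i) (eL1090 i) (Nat.ble 1116160 i)
noncomputable def eT1084 (i : Nat) : Nat := Bool.rec (eL1088 i) (eT1083 i) (Nat.ble 1115136 i)
noncomputable def eT1085 (i : Nat) : Nat := Bool.rec (eL1091 i) (eL1092 i) (Nat.ble 1118208 i)
noncomputable def eT1086 (i : Nat) : Nat := Bool.rec (eL1093 i) (eL1094 i) (Nat.ble 1120256 i)
noncomputable def eT1087 (i : Nat) : Nat := Bool.rec (eT1085 i) (eT1086 i) (Nat.ble 1119232 i)
noncomputable def eT1088 (i : Nat) : Nat := Bool.rec (eT1084 i) (eT1087 i) (Nat.ble 1117184 i)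
noncomputable def eT1089 (i : Nat) : Nat := Bool.rec (eT1082 i) (eT1088 i) (Nat.ble 1114112 i)
noncomputable def eT1090 (i : Nat) : Nat := Bool.rec (eT1076 i) (eT1089 i) (Nat.ble 1106944 i)
noncomputable def eT1091 (i : Nat) : Nat := Bool.rec (eL1096 i) (eL1097 i) (Nat.ble 1123328 i)
noncomputable def eT1092 (i : Nat) : Nat := Bool.rec (eL1095 i) (eT1091 i) (Nat.ble 1122304 i)
noncomputable def eT1093 (i : Nat) : Nat := Bool.rec (eL1098 i) (eL1099 i) (Nat.ble 1125376 i)
noncomputable def eT1094 (i : Nat) : Nat := Bool.rec (eL1100 i) (eL1101 i) (Nat.ble 1127424 i)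
noncomputable def eT1095 (i : Nat) : Nat := Bool.rec (eT1093 i) (eT1094 i) (Nat.ble 1126400 i)
noncomputable def eT1096 (i : Nat) : Nat := Bool.rec (eT1092 i) (eT1095 i) (Nat.ble 1124352 i)
noncomputable def eT1097 (i : Nat) : Nat := Bool.rec (eL1103 i) (eL1104 i) (Nat.ble 1130496 i)
noncomputable def eT1098 (i : Nat) : Nat := Bool.rec (eL1102 i) (eT1097 i) (Nat.ble 1129472 i)
noncomputable def eT1099 (i : Nat) : Nat := Bool.rec (eL1105 i) (eL1106 i) (Nat.ble 1132544 i)
noncomputable def eT1100 (i : Nat) : Nat := Bool.rec (eL1107 i) (eL1108 i) (Nat.ble 1134592 i)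
noncomputable def eT1101 (i : Nat) : Nat := Bool.rec (eT1099 i) (eT1100 i) (Nat.ble 1133568 i)
noncomputable def eT1102 (i : Nat) : Nat := Bool.rec (eT1098 i) (eT1101 i) (Nat.ble 1131520 i)
noncomputable def eT1103 (i : Nat) : Nat := Bool.rec (eT1096 i) (eT1102 i) (Nat.ble 1128448 i)
noncomputable def eT1104 (i : Nat) : Nat := Bool.rec (eL1110 i) (eL1111 i) (Nat.ble 1137664 i)
noncomputable def eT1105 (i : Nat) : Nat := Bool.rec (eL1109 i) (eT1104 i) (Nat.ble 1136640 i)
noncomputable def eT1106 (i : Nat) : Nat := Bool.rec (eL1112 i) (eL1113 i) (Nat.ble 1139712 i)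
noncomputable def eT1107 (i : Nat) : Nat := Bool.rec (eL1114 i) (eL1115 i) (Nat.ble 1141760 i)
noncomputable def eT1108 (i : Nat) : Nat := Bool.rec (eT1106 i) (eT1107 i) (Nat.ble 1140736 i)
noncomputable def eT1109 (i : Nat) : Nat := Bool.rec (eT1105 i) (eT1108 i) (Nat.ble 1138688 i)
noncomputable def eT1110 (i : Nat) : Nat := Bool.rec (eL1117 i) (eL1118 i) (Nat.ble 1144832 i)
noncomputable def eT1111 (i : Nat) : Nat := Bool.rec (eL1116 i) (eT1110 i) (Nat.ble 1143808 i)
noncomputable def eT1112 (i : Nat) : Nat := Bool.rec (eL1119 i) (eL1120 i) (Nat.ble 1146880 i)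
noncomputable def eT1113 (i : Nat) : Nat := Bool.rec (eL1121 i) (eL1122 i) (Nat.ble 1148928 i)
noncomputable def eT1114 (i : Nat) : Nat := Bool.rec (eT1112 i) (eT1113 i) (Nat.ble 1147904 i)
noncomputable def eT1115 (i : Nat) : Nat := Bool.rec (eT1111 i) (eT1114 i) (Nat.ble 1145856 i)
noncomputable def eT1116 (i : Nat) : Nat := Bool.rec (eT1109 i) (eT1115 i) (Nat.ble 1142784 i)
noncomputable def eT1117 (i : Nat) : Nat := Bool.rec (eT1103 i) (eT1116 i) (Nat.ble 1135616 i)
noncomputable def eT1118 (i : Nat) : Nat := Bool.rec (eT1090 i) (eT1117 i) (Nat.ble 1121280 i)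
noncomputable def eT1119 (i : Nat) : Nat := Bool.rec (eT1063 i) (eT1118 i) (Nat.ble 1092608 i)
noncomputable def eT1120 (i : Nat) : Nat := Bool.rec (eT1008 i) (eT1119 i) (Nat.ble 1035264 i)
noncomputable def eT1121 (i : Nat) : Nat := Bool.rec (eL1124 i) (eL1125 i) (Nat.ble 1152000 i)
noncomputable def eT1122 (i : Nat) : Nat := Bool.rec (eL1123 i) (eT1121 i) (Nat.ble 1150976 i)
noncomputable def eT1123 (i : Nat) : Nat := Bool.rec (eL1126 i) (eL1127 i) (Nat.ble 1154048 i)
noncomputable def eT1124 (i : Nat) : Nat := Bool.rec (eL1128 i) (eL1129 i) (Nat.ble 1156096 i)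
noncomputable def eT1125 (i : Nat) : Nat := Bool.rec (eT1123 i) (eT1124 i) (Nat.ble 1155072 i)
noncomputable def eT1126 (i : Nat) : Nat := Bool.rec (eT1122 i) (eT1125 i) (Nat.ble 1153024 i)
noncomputable def eT1127 (i : Nat) : Nat := Bool.rec (eL1131 i) (eL1132 i) (Nat.ble 1159168 i)
noncomputable def eT1128 (i : Nat) : Nat := Bool.rec (eL1130 i) (eT1127 i) (Nat.ble 1158144 i)
noncomputable def eT1129 (i : Nat) : Nat := Bool.rec (eL1133 i) (eL1134 i) (Nat.ble 1161216 i)
noncomputable def eT1130 (i : Nat) : Nat := Bool.rec (eL1135 i) (eL1136 i) (Nat.ble 1163264 i)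
noncomputable def eT1131 (i : Nat) : Nat := Bool.rec (eT1129 i) (eT1130 i) (Nat.ble 1162240 i)
noncomputable def eT1132 (i : Nat) : Nat := Bool.rec (eT1128 i) (eT1131 i) (Nat.ble 1160192 i)
noncomputable def eT1133 (i : Nat) : Nat := Bool.rec (eT1126 i) (eT1132 i) (Nat.ble 1157120 i)
noncomputable def eT1134 (i : Nat) : Nat := Bool.rec (eL1138 i) (eL1139 i) (Nat.ble 1166336 i)
noncomputable def eT1135 (i : Nat) : Nat := Bool.rec (eL1137 i) (eT1134 i) (Nat.ble 1165312 i)
noncomputable def eT1136 (i : Nat) : Nat := Bool.rec (eL1140 i) (eL1141 i) (Nat.ble 1168384 i)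
noncomputable def eT1137 (i : Nat) : Nat := Bool.rec (eL1142 i) (eL1143 i) (Nat.ble 1170432 i)
noncomputable def eT1138 (i : Nat) : Nat := Bool.rec (eT1136 i) (eT1137 i) (Nat.ble 1169408 i)
noncomputable def eT1139 (i : Nat) : Nat := Bool.rec (eT1135 i) (eT1138 i) (Nat.ble 1167360 i)
noncomputable def eT1140 (i : Nat) : Nat := Bool.rec (eL1145 i) (eL1146 i) (Nat.ble 1173504 i)
noncomputable def eT1141 (i : Nat) : Nat := Bool.rec (eL1144 i) (eT1140 i) (Nat.ble 1172480 i)
noncomputable def eT1142 (i : Nat) : Nat := Bool.rec (eL1147 i) (eL1148 i) (Nat.ble 1175552 i)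
noncomputable def eT1143 (i : Nat) : Nat := Bool.rec (eL1149 i) (eL1150 i) (Nat.ble 1177600 i)
noncomputable def eT1144 (i : Nat) : Nat := Bool.rec (eT1142 i) (eT1143 i) (Nat.ble 1176576 i)
noncomputable def eT1145 (i : Nat) : Nat := Bool.rec (eT1141 i) (eT1144 i) (Nat.ble 1174528 i)
noncomputable def eT1146 (i : Nat) : Nat := Bool.rec (eT1139 i) (eT1145 i) (Nat.ble 1171456 i)
noncomputable def eT1147 (i : Nat) : Nat := Bool.rec (eT1133 i) (eT1146 i) (Nat.ble 1164288 i)
noncomputable def eT1148 (i : Nat) : Nat := Bool.rec (eL1152 i) (eL1153 i) (Nat.ble 1180672 i)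
noncomputable def eT1149 (i : Nat) : Nat := Bool.rec (eL1151 i) (eT1148 i) (Nat.ble 1179648 i)
noncomputable def eT1150 (i : Nat) : Nat := Bool.rec (eL1154 i) (eL1155 i) (Nat.ble 1182720 i)
noncomputable def eT1151 (i : Nat) : Nat := Bool.rec (eL1156 i) (eL1157 i) (Nat.ble 1184768 i)
noncomputable def eT1152 (i : Nat) : Nat := Bool.rec (eT1150 i) (eT1151 i) (Nat.ble 1183744 i)
noncomputable def eT1153 (i : Nat) : Nat := Bool.rec (eT1149 i) (eT1152 i) (Nat.ble 1181696 i)
noncomputable def eT1154 (i : Nat) : Nat := Bool.rec (eL1159 i) (eL1160 i) (Nat.ble 1187840 i)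
noncomputable def eT1155 (i : Nat) : Nat := Bool.rec (eL1158 i) (eT1154 i) (Nat.ble 1186816 i)
noncomputable def eT1156 (i : Nat) : Nat := Bool.rec (eL1161 i) (eL1162 i) (Nat.ble 1189888 i)
noncomputable def eT1157 (i : Nat) : Nat := Bool.rec (eL1163 i) (eL1164 i) (Nat.ble 1191936 i)
noncomputable def eT1158 (i : Nat) : Nat := Bool.rec (eT1156 i) (eT1157 i) (Nat.ble 1190912 i)
noncomputable def eT1159 (i : Nat) : Nat := Bool.rec (eT1155 i) (eT1158 i) (Nat.ble 1188864 i)
noncomputable def eT1160 (i : Nat) : Nat := Bool.rec (eT1153 i) (eT1159 i) (Nat.ble 1185792 i)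
noncomputable def eT1161 (i : Nat) : Nat := Bool.rec (eL1166 i) (eL1167 i) (Nat.ble 1195008 i)
noncomputable def eT1162 (i : Nat) : Nat := Bool.rec (eL1165 i) (eT1161 i) (Nat.ble 1193984 i)
noncomputable def eT1163 (i : Nat) : Nat := Bool.rec (eL1168 i) (eL1169 i) (Nat.ble 1197056 i)
noncomputable def eT1164 (i : Nat) : Nat := Bool.rec (eL1170 i) (eL1171 i) (Nat.ble 1199104 i)
noncomputable def eT1165 (i : Nat) : Nat := Bool.rec (eT1163 i) (eT1164 i) (Nat.ble 1198080 i)
noncomputable def eT1166 (i : Nat) : Nat := Bool.rec (eT1162 i) (eT1165 i) (Nat.ble 1196032 i)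
noncomputable def eT1167 (i : Nat) : Nat := Bool.rec (eL1173 i) (eL1174 i) (Nat.ble 1202176 i)
noncomputable def eT1168 (i : Nat) : Nat := Bool.rec (eL1172 i) (eT1167 i) (Nat.ble 1201152 i)
noncomputable def eT1169 (i : Nat) : Nat := Bool.rec (eL1175 i) (eL1176 i) (Nat.ble 1204224 i)
noncomputable def eT1170 (i : Nat) : Nat := Bool.rec (eL1177 i) (eL1178 i) (Nat.ble 1206272 i)
noncomputable def eT1171 (i : Nat) : Nat := Bool.rec (eT1169 i) (eT1170 i) (Nat.ble 1205248 i)
noncomputable def eT1172 (i : Nat) : Nat := Bool.rec (eT1168 i) (eT1171 i) (Nat.ble 1203200 i)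
noncomputable def eT1173 (i : Nat) : Nat := Bool.rec (eT1166 i) (eT1172 i) (Nat.ble 1200128 i)
noncomputable def eT1174 (i : Nat) : Nat := Bool.rec (eT1160 i) (eT1173 i) (Nat.ble 1192960 i)
noncomputable def eT1175 (i : Nat) : Nat := Bool.rec (eT1147 i) (eT1174 i) (Nat.ble 1178624 i)
noncomputable def eT1176 (i : Nat) : Nat := Bool.rec (eL1180 i) (eL1181 i) (Nat.ble 1209344 i)
noncomputable def eT1177 (i : Nat) : Nat := Bool.rec (eL1179 i) (eT1176 i) (Nat.ble 1208320 i)
noncomputable def eT1178 (i : Nat) : Nat := Bool.rec (eL1182 i) (eL1183 i) (Nat.ble 1211392 i)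
noncomputable def eT1179 (i : Nat) : Nat := Bool.rec (eL1184 i) (eL1185 i) (Nat.ble 1213440 i)
noncomputable def eT1180 (i : Nat) : Nat := Bool.rec (eT1178 i) (eT1179 i) (Nat.ble 1212416 i)
noncomputable def eT1181 (i : Nat) : Nat := Bool.rec (eT1177 i) (eT1180 i) (Nat.ble 1210368 i)
noncomputable def eT1182 (i : Nat) : Nat := Bool.rec (eL1187 i) (eL1188 i) (Nat.ble 1216512 i)
noncomputable def eT1183 (i : Nat) : Nat := Bool.rec (eL1186 i) (eT1182 i) (Nat.ble 1215488 i)
noncomputable def eT1184 (i : Nat) : Nat := Bool.rec (eL1189 i) (eL1190 i) (Nat.ble 1218560 i)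
noncomputable def eT1185 (i : Nat) : Nat := Bool.rec (eL1191 i) (eL1192 i) (Nat.ble 1220608 i)
noncomputable def eT1186 (i : Nat) : Nat := Bool.rec (eT1184 i) (eT1185 i) (Nat.ble 1219584 i)
noncomputable def eT1187 (i : Nat) : Nat := Bool.rec (eT1183 i) (eT1186 i) (Nat.ble 1217536 i)
noncomputable def eT1188 (i : Nat) : Nat := Bool.rec (eT1181 i) (eT1187 i) (Nat.ble 1214464 i)
noncomputable def eT1189 (i : Nat) : Nat := Bool.rec (eL1194 i) (eL1195 i) (Nat.ble 1223680 i)
noncomputable def eT1190 (i : Nat) : Nat := Bool.rec (eL1193 i) (eT1189 i) (Nat.ble 1222656 i)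
noncomputable def eT1191 (i : Nat) : Nat := Bool.rec (eL1196 i) (eL1197 i) (Nat.ble 1225728 i)
noncomputable def eT1192 (i : Nat) : Nat := Bool.rec (eL1198 i) (eL1199 i) (Nat.ble 1227776 i)
noncomputable def eT1193 (i : Nat) : Nat := Bool.rec (eT1191 i) (eT1192 i) (Nat.ble 1226752 i)
noncomputable def eT1194 (i : Nat) : Nat := Bool.rec (eT1190 i) (eT1193 i) (Nat.ble 1224704 i)
noncomputable def eT1195 (i : Nat) : Nat := Bool.rec (eL1201 i) (eL1202 i) (Nat.ble 1230848 i)
noncomputable def eT1196 (i : Nat) : Nat := Bool.rec (eL1200 i) (eT1195 i) (Nat.ble 1229824 i)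
noncomputable def eT1197 (i : Nat) : Nat := Bool.rec (eL1203 i) (eL1204 i) (Nat.ble 1232896 i)
noncomputable def eT1198 (i : Nat) : Nat := Bool.rec (eL1205 i) (eL1206 i) (Nat.ble 1234944 i)
noncomputable def eT1199 (i : Nat) : Nat := Bool.rec (eT1197 i) (eT1198 i) (Nat.ble 1233920 i)
noncomputable def eT1200 (i : Nat) : Nat := Bool.rec (eT1196 i) (eT1199 i) (Nat.ble 1231872 i)
noncomputable def eT1201 (i : Nat) : Nat := Bool.rec (eT1194 i) (eT1200 i) (Nat.ble 1228800 i)
noncomputable def eT1202 (i : Nat) : Nat := Bool.rec (eT1188 i) (eT1201 i) (Nat.ble 1221632 i)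
noncomputable def eT1203 (i : Nat) : Nat := Bool.rec (eL1208 i) (eL1209 i) (Nat.ble 1238016 i)
noncomputable def eT1204 (i : Nat) : Nat := Bool.rec (eL1207 i) (eT1203 i) (Nat.ble 1236992 i)
noncomputable def eT1205 (i : Nat) : Nat := Bool.rec (eL1210 i) (eL1211 i) (Nat.ble 1240064 i)
noncomputable def eT1206 (i : Nat) : Nat := Bool.rec (eL1212 i) (eL1213 i) (Nat.ble 1242112 i)
noncomputable def eT1207 (i : Nat) : Nat := Bool.rec (eT1205 i) (eT1206 i) (Nat.ble 1241088 i)
noncomputable def eT1208 (i : Nat) : Nat := Bool.rec (eT1204 i) (eT1207 i) (Nat.ble 1239040 i)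
noncomputable def eT1209 (i : Nat) : Nat := Bool.rec (eL1215 i) (eL1216 i) (Nat.ble 1245184 i)
noncomputable def eT1210 (i : Nat) : Nat := Bool.rec (eL1214 i) (eT1209 i) (Nat.ble 1244160 i)
noncomputable def eT1211 (i : Nat) : Nat := Bool.rec (eL1217 i) (eL1218 i) (Nat.ble 1247232 i)
noncomputable def eT1212 (i : Nat) : Nat := Bool.rec (eL1219 i) (eL1220 i) (Nat.ble 1249280 i)
noncomputable def eT1213 (i : Nat) : Nat := Bool.rec (eT1211 i) (eT1212 i) (Nat.ble 1248256 i)
noncomputable def eT1214 (i : Nat) : Nat := Bool.rec (eT1210 i) (eT1213 i) (Nat.ble 1246208 i)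
noncomputable def eT1215 (i : Nat) : Nat := Bool.rec (eT1208 i) (eT1214 i) (Nat.ble 1243136 i)
noncomputable def eT1216 (i : Nat) : Nat := Bool.rec (eL1222 i) (eL1223 i) (Nat.ble 1252352 i)
noncomputable def eT1217 (i : Nat) : Nat := Bool.rec (eL1221 i) (eT1216 i) (Nat.ble 1251328 i)
noncomputable def eT1218 (i : Nat) : Nat := Bool.rec (eL1224 i) (eL1225 i) (Nat.ble 1254400 i)
noncomputable def eT1219 (i : Nat) : Nat := Bool.rec (eL1226 i) (eL1227 i) (Nat.ble 1256448 i)
noncomputable def eT1220 (i : Nat) : Nat := Bool.rec (eT1218 i) (eT1219 i) (Nat.ble 1255424 i)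
noncomputable def eT1221 (i : Nat) : Nat := Bool.rec (eT1217 i) (eT1220 i) (Nat.ble 1253376 i)
noncomputable def eT1222 (i : Nat) : Nat := Bool.rec (eL1229 i) (eL1230 i) (Nat.ble 1259520 i)
noncomputable def eT1223 (i : Nat) : Nat := Bool.rec (eL1228 i) (eT1222 i) (Nat.ble 1258496 i)
noncomputable def eT1224 (i : Nat) : Nat := Bool.rec (eL1231 i) (eL1232 i) (Nat.ble 1261568 i)
noncomputable def eT1225 (i : Nat) : Nat := Bool.rec (eL1233 i) (eL1234 i) (Nat.ble 1263616 i)
noncomputable def eT1226 (i : Nat) : Nat := Bool.rec (eT1224 i) (eT1225 i) (Nat.ble 1262592 i)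
noncomputable def eT1227 (i : Nat) : Nat := Bool.rec (eT1223 i) (eT1226 i) (Nat.ble 1260544 i)
noncomputable def eT1228 (i : Nat) : Nat := Bool.rec (eT1221 i) (eT1227 i) (Nat.ble 1257472 i)
noncomputable def eT1229 (i : Nat) : Nat := Bool.rec (eT1215 i) (eT1228 i) (Nat.ble 1250304 i)
noncomputable def eT1230 (i : Nat) : Nat := Bool.rec (eT1202 i) (eT1229 i) (Nat.ble 1235968 i)
noncomputable def eT1231 (i : Nat) : Nat := Bool.rec (eT1175 i) (eT1230 i) (Nat.ble 1207296 i)
noncomputable def eT1232 (i : Nat) : Nat := Bool.rec (eL1236 i) (eL1237 i) (Nat.ble 1266688 i)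
noncomputable def eT1233 (i : Nat) : Nat := Bool.rec (eL1235 i) (eT1232 i) (Nat.ble 1265664 i)
noncomputable def eT1234 (i : Nat) : Nat := Bool.rec (eL1238 i) (eL1239 i) (Nat.ble 1268736 i)
noncomputable def eT1235 (i : Nat) : Nat := Bool.rec (eL1240 i) (eL1241 i) (Nat.ble 1270784 i)
noncomputable def eT1236 (i : Nat) : Nat := Bool.rec (eT1234 i) (eT1235 i) (Nat.ble 1269760 i)
noncomputable def eT1237 (i : Nat) : Nat := Bool.rec (eT1233 i) (eT1236 i) (Nat.ble 1267712 i)
noncomputable def eT1238 (i : Nat) : Nat := Bool.rec (eL1243 i) (eL1244 i) (Nat.ble 1273856 i)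
noncomputable def eT1239 (i : Nat) : Nat := Bool.rec (eL1242 i) (eT1238 i) (Nat.ble 1272832 i)
noncomputable def eT1240 (i : Nat) : Nat := Bool.rec (eL1245 i) (eL1246 i) (Nat.ble 1275904 i)
noncomputable def eT1241 (i : Nat) : Nat := Bool.rec (eL1247 i) (eL1248 i) (Nat.ble 1277952 i)
noncomputable def eT1242 (i : Nat) : Nat := Bool.rec (eT1240 i) (eT1241 i) (Nat.ble 1276928 i)
noncomputable def eT1243 (i : Nat) : Nat := Bool.rec (eT1239 i) (eT1242 i) (Nat.ble 1274880 i)
noncomputable def eT1244 (i : Nat) : Nat := Bool.rec (eT1237 i) (eT1243 i) (Nat.ble 1271808 i)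
noncomputable def eT1245 (i : Nat) : Nat := Bool.rec (eL1250 i) (eL1251 i) (Nat.ble 1281024 i)
noncomputable def eT1246 (i : Nat) : Nat := Bool.rec (eL1249 i) (eT1245 i) (Nat.ble 1280000 i)
noncomputable def eT1247 (i : Nat) : Nat := Bool.rec (eL1252 i) (eL1253 i) (Nat.ble 1283072 i)
noncomputable def eT1248 (i : Nat) : Nat := Bool.rec (eL1254 i) (eL1255 i) (Nat.ble 1285120 i)
noncomputable def eT1249 (i : Nat) : Nat := Bool.rec (eT1247 i) (eT1248 i) (Nat.ble 1284096 i)
noncomputable def eT1250 (i : Nat) : Nat := Bool.rec (eT1246 i) (eT1249 i) (Nat.ble 1282048 i)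
noncomputable def eT1251 (i : Nat) : Nat := Bool.rec (eL1257 i) (eL1258 i) (Nat.ble 1288192 i)
noncomputable def eT1252 (i : Nat) : Nat := Bool.rec (eL1256 i) (eT1251 i) (Nat.ble 1287168 i)
noncomputable def eT1253 (i : Nat) : Nat := Bool.rec (eL1259 i) (eL1260 i) (Nat.ble 1290240 i)
noncomputable def eT1254 (i : Nat) : Nat := Bool.rec (eL1261 i) (eL1262 i) (Nat.ble 1292288 i)
noncomputable def eT1255 (i : Nat) : Nat := Bool.rec (eT1253 i) (eT1254 i) (Nat.ble 1291264 i)
noncomputable def eT1256 (i : Nat) : Nat := Bool.rec (eT1252 i) (eT1255 i) (Nat.ble 1289216 i)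
noncomputable def eT1257 (i : Nat) : Nat := Bool.rec (eT1250 i) (eT1256 i) (Nat.ble 1286144 i)
noncomputable def eT1258 (i : Nat) : Nat := Bool.rec (eT1244 i) (eT1257 i) (Nat.ble 1278976 i)
noncomputable def eT1259 (i : Nat) : Nat := Bool.rec (eL1264 i) (eL1265 i) (Nat.ble 1295360 i)
noncomputable def eT1260 (i : Nat) : Nat := Bool.rec (eL1263 i) (eT1259 i) (Nat.ble 1294336 i)
noncomputable def eT1261 (i : Nat) : Nat := Bool.rec (eL1266 i) (eL1267 i) (Nat.ble 1297408 i)
noncomputable def eT1262 (i : Nat) : Nat := Bool.rec (eL1268 i) (eL1269 i) (Nat.ble 1299456 i)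
noncomputable def eT1263 (i : Nat) : Nat := Bool.rec (eT1261 i) (eT1262 i) (Nat.ble 1298432 i)
noncomputable def eT1264 (i : Nat) : Nat := Bool.rec (eT1260 i) (eT1263 i) (Nat.ble 1296384 i)
noncomputable def eT1265 (i : Nat) : Nat := Bool.rec (eL1271 i) (eL1272 i) (Nat.ble 1302528 i)
noncomputable def eT1266 (i : Nat) : Nat := Bool.rec (eL1270 i) (eT1265 i) (Nat.ble 1301504 i)
noncomputable def eT1267 (i : Nat) : Nat := Bool.rec (eL1273 i) (eL1274 i) (Nat.ble 1304576 i)
noncomputable def eT1268 (i : Nat) : Nat := Bool.rec (eL1275 i) (eL1276 i) (Nat.ble 1306624 i)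
noncomputable def eT1269 (i : Nat) : Nat := Bool.rec (eT1267 i) (eT1268 i) (Nat.ble 1305600 i)
noncomputable def eT1270 (i : Nat) : Nat := Bool.rec (eT1266 i) (eT1269 i) (Nat.ble 1303552 i)
noncomputable def eT1271 (i : Nat) : Nat := Bool.rec (eT1264 i) (eT1270 i) (Nat.ble 1300480 i)
noncomputable def eT1272 (i : Nat) : Nat := Bool.rec (eL1278 i) (eL1279 i) (Nat.ble 1309696 i)
noncomputable def eT1273 (i : Nat) : Nat := Bool.rec (eL1277 i) (eT1272 i) (Nat.ble 1308672 i)
noncomputable def eT1274 (i : Nat) : Nat := Bool.rec (eL1280 i) (eL1281 i) (Nat.ble 1311744 i)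
noncomputable def eT1275 (i : Nat) : Nat := Bool.rec (eL1282 i) (eL1283 i) (Nat.ble 1313792 i)
noncomputable def eT1276 (i : Nat) : Nat := Bool.rec (eT1274 i) (eT1275 i) (Nat.ble 1312768 i)
noncomputable def eT1277 (i : Nat) : Nat := Bool.rec (eT1273 i) (eT1276 i) (Nat.ble 1310720 i)
noncomputable def eT1278 (i : Nat) : Nat := Bool.rec (eL1285 i) (eL1286 i) (Nat.ble 1316864 i)
noncomputable def eT1279 (i : Nat) : Nat := Bool.rec (eL1284 i) (eT1278 i) (Nat.ble 1315840 i)
noncomputable def eT1280 (i : Nat) : Nat := Bool.rec (eL1287 i) (eL1288 i) (Nat.ble 1318912 i)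
noncomputable def eT1281 (i : Nat) : Nat := Bool.rec (eL1289 i) (eL1290 i) (Nat.ble 1320960 i)
noncomputable def eT1282 (i : Nat) : Nat := Bool.rec (eT1280 i) (eT1281 i) (Nat.ble 1319936 i)
noncomputable def eT1283 (i : Nat) : Nat := Bool.rec (eT1279 i) (eT1282 i) (Nat.ble 1317888 i)
noncomputable def eT1284 (i : Nat) : Nat := Bool.rec (eT1277 i) (eT1283 i) (Nat.ble 1314816 i)
noncomputable def eT1285 (i : Nat) : Nat := Bool.rec (eT1271 i) (eT1284 i) (Nat.ble 1307648 i)
noncomputable def eT1286 (i : Nat) : Nat := Bool.rec (eT1258 i) (eT1285 i) (Nat.ble 1293312 i)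
noncomputable def eT1287 (i : Nat) : Nat := Bool.rec (eL1292 i) (eL1293 i) (Nat.ble 1324032 i)
noncomputable def eT1288 (i : Nat) : Nat := Bool.rec (eL1291 i) (eT1287 i) (Nat.ble 1323008 i)
noncomputable def eT1289 (i : Nat) : Nat := Bool.rec (eL1294 i) (eL1295 i) (Nat.ble 1326080 i)
noncomputable def eT1290 (i : Nat) : Nat := Bool.rec (eL1296 i) (eL1297 i) (Nat.ble 1328128 i)
noncomputable def eT1291 (i : Nat) : Nat := Bool.rec (eT1289 i) (eT1290 i) (Nat.ble 1327104 i)
noncomputable def eT1292 (i : Nat) : Nat := Bool.rec (eT1288 i) (eT1291 i) (Nat.ble 1325056 i)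
noncomputable def eT1293 (i : Nat) : Nat := Bool.rec (eL1299 i) (eL1300 i) (Nat.ble 1331200 i)
noncomputable def eT1294 (i : Nat) : Nat := Bool.rec (eL1298 i) (eT1293 i) (Nat.ble 1330176 i)
noncomputable def eT1295 (i : Nat) : Nat := Bool.rec (eL1301 i) (eL1302 i) (Nat.ble 1333248 i)
noncomputable def eT1296 (i : Nat) : Nat := Bool.rec (eL1303 i) (eL1304 i) (Nat.ble 1335296 i)
noncomputable def eT1297 (i : Nat) : Nat := Bool.rec (eT1295 i) (eT1296 i) (Nat.ble 1334272 i)
noncomputable def eT1298 (i : Nat) : Nat := Bool.rec (eT1294 i) (eT1297 i) (Nat.ble 1332224 i)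
noncomputable def eT1299 (i : Nat) : Nat := Bool.rec (eT1292 i) (eT1298 i) (Nat.ble 1329152 i)
noncomputable def eT1300 (i : Nat) : Nat := Bool.rec (eL1306 i) (eL1307 i) (Nat.ble 1338368 i)
noncomputable def eT1301 (i : Nat) : Nat := Bool.rec (eL1305 i) (eT1300 i) (Nat.ble 1337344 i)
noncomputable def eT1302 (i : Nat) : Nat := Bool.rec (eL1308 i) (eL1309 i) (Nat.ble 1340416 i)
noncomputable def eT1303 (i : Nat) : Nat := Bool.rec (eL1310 i) (eL1311 i) (Nat.ble 1342464 i)
noncomputable def eT1304 (i : Nat) : Nat := Bool.rec (eT1302 i) (eT1303 i) (Nat.ble 1341440 i)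
noncomputable def eT1305 (i : Nat) : Nat := Bool.rec (eT1301 i) (eT1304 i) (Nat.ble 1339392 i)
noncomputable def eT1306 (i : Nat) : Nat := Bool.rec (eL1313 i) (eL1314 i) (Nat.ble 1345536 i)
noncomputable def eT1307 (i : Nat) : Nat := Bool.rec (eL1312 i) (eT1306 i) (Nat.ble 1344512 i)
noncomputable def eT1308 (i : Nat) : Nat := Bool.rec (eL1315 i) (eL1316 i) (Nat.ble 1347584 i)
noncomputable def eT1309 (i : Nat) : Nat := Bool.rec (eL1317 i) (eL1318 i) (Nat.ble 1349632 i)
noncomputable def eT1310 (i : Nat) : Nat := Bool.rec (eT1308 i) (eT1309 i) (Nat.ble 1348608 i)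
noncomputable def eT1311 (i : Nat) : Nat := Bool.rec (eT1307 i) (eT1310 i) (Nat.ble 1346560 i)
noncomputable def eT1312 (i : Nat) : Nat := Bool.rec (eT1305 i) (eT1311 i) (Nat.ble 1343488 i)
noncomputable def eT1313 (i : Nat) : Nat := Bool.rec (eT1299 i) (eT1312 i) (Nat.ble 1336320 i)
noncomputable def eT1314 (i : Nat) : Nat := Bool.rec (eL1320 i) (eL1321 i) (Nat.ble 1352704 i)
noncomputable def eT1315 (i : Nat) : Nat := Bool.rec (eL1319 i) (eT1314 i) (Nat.ble 1351680 i)
noncomputable def eT1316 (i : Nat) : Nat := Bool.rec (eL1322 i) (eL1323 i) (Nat.ble 1354752 i)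
noncomputable def eT1317 (i : Nat) : Nat := Bool.rec (eL1324 i) (eL1325 i) (Nat.ble 1356800 i)
noncomputable def eT1318 (i : Nat) : Nat := Bool.rec (eT1316 i) (eT1317 i) (Nat.ble 1355776 i)
noncomputable def eT1319 (i : Nat) : Nat := Bool.rec (eT1315 i) (eT1318 i) (Nat.ble 1353728 i)
noncomputable def eT1320 (i : Nat) : Nat := Bool.rec (eL1327 i) (eL1328 i) (Nat.ble 1359872 i)
noncomputable def eT1321 (i : Nat) : Nat := Bool.rec (eL1326 i) (eT1320 i) (Nat.ble 1358848 i)
noncomputable def eT1322 (i : Nat) : Nat := Bool.rec (eL1329 i) (eL1330 i) (Nat.ble 1361920 i)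
noncomputable def eT1323 (i : Nat) : Nat := Bool.rec (eL1331 i) (eL1332 i) (Nat.ble 1363968 i)
noncomputable def eT1324 (i : Nat) : Nat := Bool.rec (eT1322 i) (eT1323 i) (Nat.ble 1362944 i)
noncomputable def eT1325 (i : Nat) : Nat := Bool.rec (eT1321 i) (eT1324 i) (Nat.ble 1360896 i)
noncomputable def eT1326 (i : Nat) : Nat := Bool.rec (eT1319 i) (eT1325 i) (Nat.ble 1357824 i)
noncomputable def eT1327 (i : Nat) : Nat := Bool.rec (eL1334 i) (eL1335 i) (Nat.ble 1367040 i)
noncomputable def eT1328 (i : Nat) : Nat := Bool.rec (eL1333 i) (eT1327 i) (Nat.ble 1366016 i)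
noncomputable def eT1329 (i : Nat) : Nat := Bool.rec (eL1336 i) (eL1337 i) (Nat.ble 1369088 i)
noncomputable def eT1330 (i : Nat) : Nat := Bool.rec (eL1338 i) (eL1339 i) (Nat.ble 1371136 i)
noncomputable def eT1331 (i : Nat) : Nat := Bool.rec (eT1329 i) (eT1330 i) (Nat.ble 1370112 i)
noncomputable def eT1332 (i : Nat) : Nat := Bool.rec (eT1328 i) (eT1331 i) (Nat.ble 1368064 i)
noncomputable def eT1333 (i : Nat) : Nat := Bool.rec (eL1340 i) (eL1341 i) (Nat.ble 1373184 i)
noncomputable def eT1334 (i : Nat) : Nat := Bool.rec (eL1342 i) (eL1343 i) (Nat.ble 1375232 i)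
noncomputable def eT1335 (i : Nat) : Nat := Bool.rec (eT1333 i) (eT1334 i) (Nat.ble 1374208 i)
noncomputable def eT1336 (i : Nat) : Nat := Bool.rec (eL1344 i) (eL1345 i) (Nat.ble 1377280 i)
noncomputable def eT1337 (i : Nat) : Nat := Bool.rec (eL1346 i) (eL1347 i) (Nat.ble 1379328 i)
noncomputable def eT1338 (i : Nat) : Nat := Bool.rec (eT1336 i) (eT1337 i) (Nat.ble 1378304 i)
noncomputable def eT1339 (i : Nat) : Nat := Bool.rec (eT1335 i) (eT1338 i) (Nat.ble 1376256 i)
noncomputable def eT1340 (i : Nat) : Nat := Bool.rec (eT1332 i) (eT1339 i) (Nat.ble 1372160 i)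
noncomputable def eT1341 (i : Nat) : Nat := Bool.rec (eT1326 i) (eT1340 i) (Nat.ble 1364992 i)
noncomputable def eT1342 (i : Nat) : Nat := Bool.rec (eT1313 i) (eT1341 i) (Nat.ble 1350656 i)
noncomputable def eT1343 (i : Nat) : Nat := Bool.rec (eT1286 i) (eT1342 i) (Nat.ble 1321984 i)
noncomputable def eT1344 (i : Nat) : Nat := Bool.rec (eT1231 i) (eT1343 i) (Nat.ble 1264640 i)
noncomputable def eT1345 (i : Nat) : Nat := Bool.rec (eT1120 i) (eT1344 i) (Nat.ble 1149952 i)
noncomputable def eT1346 (i : Nat) : Nat := Bool.rec (eL1349 i) (eL1350 i) (Nat.ble 1382400 i)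
noncomputable def eT1347 (i : Nat) : Nat := Bool.rec (eL1348 i) (eT1346 i) (Nat.ble 1381376 i)
noncomputable def eT1348 (i : Nat) : Nat := Bool.rec (eL1351 i) (eL1352 i) (Nat.ble 1384448 i)
noncomputable def eT1349 (i : Nat) : Nat := Bool.rec (eL1353 i) (eL1354 i) (Nat.ble 1386496 i)
noncomputable def eT1350 (i : Nat) : Nat := Bool.rec (eT1348 i) (eT1349 i) (Nat.ble 1385472 i)
noncomputable def eT1351 (i : Nat) : Nat := Bool.rec (eT1347 i) (eT1350 i) (Nat.ble 1383424 i)
noncomputable def eT1352 (i : Nat) : Nat := Bool.rec (eL1356 i) (eL1357 i) (Nat.ble 1389568 i)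
noncomputable def eT1353 (i : Nat) : Nat := Bool.rec (eL1355 i) (eT1352 i) (Nat.ble 1388544 i)
noncomputable def eT1354 (i : Nat) : Nat := Bool.rec (eL1358 i) (eL1359 i) (Nat.ble 1391616 i)
noncomputable def eT1355 (i : Nat) : Nat := Bool.rec (eL1360 i) (eL1361 i) (Nat.ble 1393664 i)
noncomputable def eT1356 (i : Nat) : Nat := Bool.rec (eT1354 i) (eT1355 i) (Nat.ble 1392640 i)
noncomputable def eT1357 (i : Nat) : Nat := Bool.rec (eT1353 i) (eT1356 i) (Nat.ble 1390592 i)
noncomputable def eT1358 (i : Nat) : Nat := Bool.rec (eT1351 i) (eT1357 i) (Nat.ble 1387520 i)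
noncomputable def eT1359 (i : Nat) : Nat := Bool.rec (eL1363 i) (eL1364 i) (Nat.ble 1396736 i)
noncomputable def eT1360 (i : Nat) : Nat := Bool.rec (eL1362 i) (eT1359 i) (Nat.ble 1395712 i)
noncomputable def eT1361 (i : Nat) : Nat := Bool.rec (eL1365 i) (eL1366 i) (Nat.ble 1398784 i)
noncomputable def eT1362 (i : Nat) : Nat := Bool.rec (eL1367 i) (eL1368 i) (Nat.ble 1400832 i)
noncomputable def eT1363 (i : Nat) : Nat := Bool.rec (eT1361 i) (eT1362 i) (Nat.ble 1399808 i)
noncomputable def eT1364 (i : Nat) : Nat := Bool.rec (eT1360 i) (eT1363 i) (Nat.ble 1397760 i)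
noncomputable def eT1365 (i : Nat) : Nat := Bool.rec (eL1370 i) (eL1371 i) (Nat.ble 1403904 i)
noncomputable def eT1366 (i : Nat) : Nat := Bool.rec (eL1369 i) (eT1365 i) (Nat.ble 1402880 i)
noncomputable def eT1367 (i : Nat) : Nat := Bool.rec (eL1372 i) (eL1373 i) (Nat.ble 1405952 i)
noncomputable def eT1368 (i : Nat) : Nat := Bool.rec (eL1374 i) (eL1375 i) (Nat.ble 1408000 i)
noncomputable def eT1369 (i : Nat) : Nat := Bool.rec (eT1367 i) (eT1368 i) (Nat.ble 1406976 i)
noncomputable def eT1370 (i : Nat) : Nat := Bool.rec (eT1366 i) (eT1369 i) (Nat.ble 1404928 i)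
noncomputable def eT1371 (i : Nat) : Nat := Bool.rec (eT1364 i) (eT1370 i) (Nat.ble 1401856 i)
noncomputable def eT1372 (i : Nat) : Nat := Bool.rec (eT1358 i) (eT1371 i) (Nat.ble 1394688 i)
noncomputable def eT1373 (i : Nat) : Nat := Bool.rec (eL1377 i) (eL1378 i) (Nat.ble 1411072 i)
noncomputable def eT1374 (i : Nat) : Nat := Bool.rec (eL1376 i) (eT1373 i) (Nat.ble 1410048 i)
noncomputable def eT1375 (i : Nat) : Nat := Bool.rec (eL1379 i) (eL1380 i) (Nat.ble 1413120 i)
noncomputable def eT1376 (i : Nat) : Nat := Bool.rec (eL1381 i) (eL1382 i) (Nat.ble 1415168 i)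
noncomputable def eT1377 (i : Nat) : Nat := Bool.rec (eT1375 i) (eT1376 i) (Nat.ble 1414144 i)
noncomputable def eT1378 (i : Nat) : Nat := Bool.rec (eT1374 i) (eT1377 i) (Nat.ble 1412096 i)
noncomputable def eT1379 (i : Nat) : Nat := Bool.rec (eL1384 i) (eL1385 i) (Nat.ble 1418240 i)
noncomputable def eT1380 (i : Nat) : Nat := Bool.rec (eL1383 i) (eT1379 i) (Nat.ble 1417216 i)
noncomputable def eT1381 (i : Nat) : Nat := Bool.rec (eL1386 i) (eL1387 i) (Nat.ble 1420288 i)
noncomputable def eT1382 (i : Nat) : Nat := Bool.rec (eL1388 i) (eL1389 i) (Nat.ble 1422336 i)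
noncomputable def eT1383 (i : Nat) : Nat := Bool.rec (eT1381 i) (eT1382 i) (Nat.ble 1421312 i)
noncomputable def eT1384 (i : Nat) : Nat := Bool.rec (eT1380 i) (eT1383 i) (Nat.ble 1419264 i)
noncomputable def eT1385 (i : Nat) : Nat := Bool.rec (eT1378 i) (eT1384 i) (Nat.ble 1416192 i)
noncomputable def eT1386 (i : Nat) : Nat := Bool.rec (eL1391 i) (eL1392 i) (Nat.ble 1425408 i)
noncomputable def eT1387 (i : Nat) : Nat := Bool.rec (eL1390 i) (eT1386 i) (Nat.ble 1424384 i)
noncomputable def eT1388 (i : Nat) : Nat := Bool.rec (eL1393 i) (eL1394 i) (Nat.ble 1427456 i)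
noncomputable def eT1389 (i : Nat) : Nat := Bool.rec (eL1395 i) (eL1396 i) (Nat.ble 1429504 i)
noncomputable def eT1390 (i : Nat) : Nat := Bool.rec (eT1388 i) (eT1389 i) (Nat.ble 1428480 i)
noncomputable def eT1391 (i : Nat) : Nat := Bool.rec (eT1387 i) (eT1390 i) (Nat.ble 1426432 i)
noncomputable def eT1392 (i : Nat) : Nat := Bool.rec (eL1398 i) (eL1399 i) (Nat.ble 1432576 i)
noncomputable def eT1393 (i : Nat) : Nat := Bool.rec (eL1397 i) (eT1392 i) (Nat.ble 1431552 i)
noncomputable def eT1394 (i : Nat) : Nat := Bool.rec (eL1400 i) (eL1401 i) (Nat.ble 1434624 i)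
noncomputable def eT1395 (i : Nat) : Nat := Bool.rec (eL1402 i) (eL1403 i) (Nat.ble 1436672 i)
noncomputable def eT1396 (i : Nat) : Nat := Bool.rec (eT1394 i) (eT1395 i) (Nat.ble 1435648 i)
noncomputable def eT1397 (i : Nat) : Nat := Bool.rec (eT1393 i) (eT1396 i) (Nat.ble 1433600 i)
noncomputable def eT1398 (i : Nat) : Nat := Bool.rec (eT1391 i) (eT1397 i) (Nat.ble 1430528 i)
noncomputable def eT1399 (i : Nat) : Nat := Bool.rec (eT1385 i) (eT1398 i) (Nat.ble 1423360 i)
noncomputable def eT1400 (i : Nat) : Nat := Bool.rec (eT1372 i) (eT1399 i) (Nat.ble 1409024 i)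
noncomputable def eT1401 (i : Nat) : Nat := Bool.rec (eL1405 i) (eL1406 i) (Nat.ble 1439744 i)
noncomputable def eT1402 (i : Nat) : Nat := Bool.rec (eL1404 i) (eT1401 i) (Nat.ble 1438720 i)
noncomputable def eT1403 (i : Nat) : Nat := Bool.rec (eL1407 i) (eL1408 i) (Nat.ble 1441792 i)
noncomputable def eT1404 (i : Nat) : Nat := Bool.rec (eL1409 i) (eL1410 i) (Nat.ble 1443840 i)
noncomputable def eT1405 (i : Nat) : Nat := Bool.rec (eT1403 i) (eT1404 i) (Nat.ble 1442816 i)
noncomputable def eT1406 (i : Nat) : Nat := Bool.rec (eT1402 i) (eT1405 i) (Nat.ble 1440768 i)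
noncomputable def eT1407 (i : Nat) : Nat := Bool.rec (eL1412 i) (eL1413 i) (Nat.ble 1446912 i)
noncomputable def eT1408 (i : Nat) : Nat := Bool.rec (eL1411 i) (eT1407 i) (Nat.ble 1445888 i)
noncomputable def eT1409 (i : Nat) : Nat := Bool.rec (eL1414 i) (eL1415 i) (Nat.ble 1448960 i)
noncomputable def eT1410 (i : Nat) : Nat := Bool.rec (eL1416 i) (eL1417 i) (Nat.ble 1451008 i)
noncomputable def eT1411 (i : Nat) : Nat := Bool.rec (eT1409 i) (eT1410 i) (Nat.ble 1449984 i)
noncomputable def eT1412 (i : Nat) : Nat := Bool.rec (eT1408 i) (eT1411 i) (Nat.ble 1447936 i)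
noncomputable def eT1413 (i : Nat) : Nat := Bool.rec (eT1406 i) (eT1412 i) (Nat.ble 1444864 i)
noncomputable def eT1414 (i : Nat) : Nat := Bool.rec (eL1419 i) (eL1420 i) (Nat.ble 1454080 i)
noncomputable def eT1415 (i : Nat) : Nat := Bool.rec (eL1418 i) (eT1414 i) (Nat.ble 1453056 i)
noncomputable def eT1416 (i : Nat) : Nat := Bool.rec (eL1421 i) (eL1422 i) (Nat.ble 1456128 i)
noncomputable def eT1417 (i : Nat) : Nat := Bool.rec (eL1423 i) (eL1424 i) (Nat.ble 1458176 i)
noncomputable def eT1418 (i : Nat) : Nat := Bool.rec (eT1416 i) (eT1417 i) (Nat.ble 1457152 i)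
noncomputable def eT1419 (i : Nat) : Nat := Bool.rec (eT1415 i) (eT1418 i) (Nat.ble 1455104 i)
noncomputable def eT1420 (i : Nat) : Nat := Bool.rec (eL1426 i) (eL1427 i) (Nat.ble 1461248 i)
noncomputable def eT1421 (i : Nat) : Nat := Bool.rec (eL1425 i) (eT1420 i) (Nat.ble 1460224 i)
noncomputable def eT1422 (i : Nat) : Nat := Bool.rec (eL1428 i) (eL1429 i) (Nat.ble 1463296 i)
noncomputable def eT1423 (i : Nat) : Nat := Bool.rec (eL1430 i) (eL1431 i) (Nat.ble 1465344 i)
noncomputable def eT1424 (i : Nat) : Nat := Bool.rec (eT1422 i) (eT1423 i) (Nat.ble 1464320 i)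
noncomputable def eT1425 (i : Nat) : Nat := Bool.rec (eT1421 i) (eT1424 i) (Nat.ble 1462272 i)
noncomputable def eT1426 (i : Nat) : Nat := Bool.rec (eT1419 i) (eT1425 i) (Nat.ble 1459200 i)
noncomputable def eT1427 (i : Nat) : Nat := Bool.rec (eT1413 i) (eT1426 i) (Nat.ble 1452032 i)
noncomputable def eT1428 (i : Nat) : Nat := Bool.rec (eL1433 i) (eL1434 i) (Nat.ble 1468416 i)
noncomputable def eT1429 (i : Nat) : Nat := Bool.rec (eL1432 i) (eT1428 i) (Nat.ble 1467392 i)
noncomputable def eT1430 (i : Nat) : Nat := Bool.rec (eL1435 i) (eL1436 i) (Nat.ble 1470464 i)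
noncomputable def eT1431 (i : Nat) : Nat := Bool.rec (eL1437 i) (eL1438 i) (Nat.ble 1472512 i)
noncomputable def eT1432 (i : Nat) : Nat := Bool.rec (eT1430 i) (eT1431 i) (Nat.ble 1471488 i)
noncomputable def eT1433 (i : Nat) : Nat := Bool.rec (eT1429 i) (eT1432 i) (Nat.ble 1469440 i)
noncomputable def eT1434 (i : Nat) : Nat := Bool.rec (eL1440 i) (eL1441 i) (Nat.ble 1475584 i)
noncomputable def eT1435 (i : Nat) : Nat := Bool.rec (eL1439 i) (eT1434 i) (Nat.ble 1474560 i)
noncomputable def eT1436 (i : Nat) : Nat := Bool.rec (eL1442 i) (eL1443 i) (Nat.ble 1477632 i)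
noncomputable def eT1437 (i : Nat) : Nat := Bool.rec (eL1444 i) (eL1445 i) (Nat.ble 1479680 i)
noncomputable def eT1438 (i : Nat) : Nat := Bool.rec (eT1436 i) (eT1437 i) (Nat.ble 1478656 i)
noncomputable def eT1439 (i : Nat) : Nat := Bool.rec (eT1435 i) (eT1438 i) (Nat.ble 1476608 i)
noncomputable def eT1440 (i : Nat) : Nat := Bool.rec (eT1433 i) (eT1439 i) (Nat.ble 1473536 i)
noncomputable def eT1441 (i : Nat) : Nat := Bool.rec (eL1447 i) (eL1448 i) (Nat.ble 1482752 i)
noncomputable def eT1442 (i : Nat) : Nat := Bool.rec (eL1446 i) (eT1441 i) (Nat.ble 1481728 i)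
noncomputable def eT1443 (i : Nat) : Nat := Bool.rec (eL1449 i) (eL1450 i) (Nat.ble 1484800 i)
noncomputable def eT1444 (i : Nat) : Nat := Bool.rec (eL1451 i) (eL1452 i) (Nat.ble 1486848 i)
noncomputable def eT1445 (i : Nat) : Nat := Bool.rec (eT1443 i) (eT1444 i) (Nat.ble 1485824 i)
noncomputable def eT1446 (i : Nat) : Nat := Bool.rec (eT1442 i) (eT1445 i) (Nat.ble 1483776 i)
noncomputable def eT1447 (i : Nat) : Nat := Bool.rec (eL1454 i) (eL1455 i) (Nat.ble 1489920 i)
noncomputable def eT1448 (i : Nat) : Nat := Bool.rec (eL1453 i) (eT1447 i) (Nat.ble 1488896 i)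
noncomputable def eT1449 (i : Nat) : Nat := Bool.rec (eL1456 i) (eL1457 i) (Nat.ble 1491968 i)
noncomputable def eT1450 (i : Nat) : Nat := Bool.rec (eL1458 i) (eL1459 i) (Nat.ble 1494016 i)
noncomputable def eT1451 (i : Nat) : Nat := Bool.rec (eT1449 i) (eT1450 i) (Nat.ble 1492992 i)
noncomputable def eT1452 (i : Nat) : Nat := Bool.rec (eT1448 i) (eT1451 i) (Nat.ble 1490944 i)
noncomputable def eT1453 (i : Nat) : Nat := Bool.rec (eT1446 i) (eT1452 i) (Nat.ble 1487872 i)
noncomputable def eT1454 (i : Nat) : Nat := Bool.rec (eT1440 i) (eT1453 i) (Nat.ble 1480704 i)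
noncomputable def eT1455 (i : Nat) : Nat := Bool.rec (eT1427 i) (eT1454 i) (Nat.ble 1466368 i)
noncomputable def eT1456 (i : Nat) : Nat := Bool.rec (eT1400 i) (eT1455 i) (Nat.ble 1437696 i)
noncomputable def eT1457 (i : Nat) : Nat := Bool.rec (eL1461 i) (eL1462 i) (Nat.ble 1497088 i)
noncomputable def eT1458 (i : Nat) : Nat := Bool.rec (eL1460 i) (eT1457 i) (Nat.ble 1496064 i)
noncomputable def eT1459 (i : Nat) : Nat := Bool.rec (eL1463 i) (eL1464 i) (Nat.ble 1499136 i)
noncomputable def eT1460 (i : Nat) : Nat := Bool.rec (eL1465 i) (eL1466 i) (Nat.ble 1501184 i)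
noncomputable def eT1461 (i : Nat) : Nat := Bool.rec (eT1459 i) (eT1460 i) (Nat.ble 1500160 i)
noncomputable def eT1462 (i : Nat) : Nat := Bool.rec (eT1458 i) (eT1461 i) (Nat.ble 1498112 i)
noncomputable def eT1463 (i : Nat) : Nat := Bool.rec (eL1468 i) (eL1469 i) (Nat.ble 1504256 i)
noncomputable def eT1464 (i : Nat) : Nat := Bool.rec (eL1467 i) (eT1463 i) (Nat.ble 1503232 i)
noncomputable def eT1465 (i : Nat) : Nat := Bool.rec (eL1470 i) (eL1471 i) (Nat.ble 1506304 i)
noncomputable def eT1466 (i : Nat) : Nat := Bool.rec (eL1472 i) (eL1473 i) (Nat.ble 1508352 i)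
noncomputable def eT1467 (i : Nat) : Nat := Bool.rec (eT1465 i) (eT1466 i) (Nat.ble 1507328 i)
noncomputable def eT1468 (i : Nat) : Nat := Bool.rec (eT1464 i) (eT1467 i) (Nat.ble 1505280 i)
noncomputable def eT1469 (i : Nat) : Nat := Bool.rec (eT1462 i) (eT1468 i) (Nat.ble 1502208 i)
noncomputable def eT1470 (i : Nat) : Nat := Bool.rec (eL1475 i) (eL1476 i) (Nat.ble 1511424 i)
noncomputable def eT1471 (i : Nat) : Nat := Bool.rec (eL1474 i) (eT1470 i) (Nat.ble 1510400 i)
noncomputable def eT1472 (i : Nat) : Nat := Bool.rec (eL1477 i) (eL1478 i) (Nat.ble 1513472 i)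
noncomputable def eT1473 (i : Nat) : Nat := Bool.rec (eL1479 i) (eL1480 i) (Nat.ble 1515520 i)
noncomputable def eT1474 (i : Nat) : Nat := Bool.rec (eT1472 i) (eT1473 i) (Nat.ble 1514496 i)
noncomputable def eT1475 (i : Nat) : Nat := Bool.rec (eT1471 i) (eT1474 i) (Nat.ble 1512448 i)
noncomputable def eT1476 (i : Nat) : Nat := Bool.rec (eL1482 i) (eL1483 i) (Nat.ble 1518592 i)
noncomputable def eT1477 (i : Nat) : Nat := Bool.rec (eL1481 i) (eT1476 i) (Nat.ble 1517568 i)
noncomputable def eT1478 (i : Nat) : Nat := Bool.rec (eL1484 i) (eL1485 i) (Nat.ble 1520640 i)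
noncomputable def eT1479 (i : Nat) : Nat := Bool.rec (eL1486 i) (eL1487 i) (Nat.ble 1522688 i)
noncomputable def eT1480 (i : Nat) : Nat := Bool.rec (eT1478 i) (eT1479 i) (Nat.ble 1521664 i)
noncomputable def eT1481 (i : Nat) : Nat := Bool.rec (eT1477 i) (eT1480 i) (Nat.ble 1519616 i)
noncomputable def eT1482 (i : Nat) : Nat := Bool.rec (eT1475 i) (eT1481 i) (Nat.ble 1516544 i)
noncomputable def eT1483 (i : Nat) : Nat := Bool.rec (eT1469 i) (eT1482 i) (Nat.ble 1509376 i)
noncomputable def eT1484 (i : Nat) : Nat := Bool.rec (eL1489 i) (eL1490 i) (Nat.ble 1525760 i)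
noncomputable def eT1485 (i : Nat) : Nat := Bool.rec (eL1488 i) (eT1484 i) (Nat.ble 1524736 i)
noncomputable def eT1486 (i : Nat) : Nat := Bool.rec (eL1491 i) (eL1492 i) (Nat.ble 1527808 i)
noncomputable def eT1487 (i : Nat) : Nat := Bool.rec (eL1493 i) (eL1494 i) (Nat.ble 1529856 i)
noncomputable def eT1488 (i : Nat) : Nat := Bool.rec (eT1486 i) (eT1487 i) (Nat.ble 1528832 i)
noncomputable def eT1489 (i : Nat) : Nat := Bool.rec (eT1485 i) (eT1488 i) (Nat.ble 1526784 i)
noncomputable def eT1490 (i : Nat) : Nat := Bool.rec (eL1496 i) (eL1497 i) (Nat.ble 1532928 i)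
noncomputable def eT1491 (i : Nat) : Nat := Bool.rec (eL1495 i) (eT1490 i) (Nat.ble 1531904 i)
noncomputable def eT1492 (i : Nat) : Nat := Bool.rec (eL1498 i) (eL1499 i) (Nat.ble 1534976 i)
noncomputable def eT1493 (i : Nat) : Nat := Bool.rec (eL1500 i) (eL1501 i) (Nat.ble 1537024 i)
noncomputable def eT1494 (i : Nat) : Nat := Bool.rec (eT1492 i) (eT1493 i) (Nat.ble 1536000 i)
noncomputable def eT1495 (i : Nat) : Nat := Bool.rec (eT1491 i) (eT1494 i) (Nat.ble 1533952 i)
noncomputable def eT1496 (i : Nat) : Nat := Bool.rec (eT1489 i) (eT1495 i) (Nat.ble 1530880 i)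
noncomputable def eT1497 (i : Nat) : Nat := Bool.rec (eL1503 i) (eL1504 i) (Nat.ble 1540096 i)
noncomputable def eT1498 (i : Nat) : Nat := Bool.rec (eL1502 i) (eT1497 i) (Nat.ble 1539072 i)
noncomputable def eT1499 (i : Nat) : Nat := Bool.rec (eL1505 i) (eL1506 i) (Nat.ble 1542144 i)
noncomputable def eT1500 (i : Nat) : Nat := Bool.rec (eL1507 i) (eL1508 i) (Nat.ble 1544192 i)
noncomputable def eT1501 (i : Nat) : Nat := Bool.rec (eT1499 i) (eT1500 i) (Nat.ble 1543168 i)
noncomputable def eT1502 (i : Nat) : Nat := Bool.rec (eT1498 i) (eT1501 i) (Nat.ble 1541120 i)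
noncomputable def eT1503 (i : Nat) : Nat := Bool.rec (eL1510 i) (eL1511 i) (Nat.ble 1547264 i)
noncomputable def eT1504 (i : Nat) : Nat := Bool.rec (eL1509 i) (eT1503 i) (Nat.ble 1546240 i)
noncomputable def eT1505 (i : Nat) : Nat := Bool.rec (eL1512 i) (eL1513 i) (Nat.ble 1549312 i)
noncomputable def eT1506 (i : Nat) : Nat := Bool.rec (eL1514 i) (eL1515 i) (Nat.ble 1551360 i)
noncomputable def eT1507 (i : Nat) : Nat := Bool.rec (eT1505 i) (eT1506 i) (Nat.ble 1550336 i)
noncomputable def eT1508 (i : Nat) : Nat := Bool.rec (eT1504 i) (eT1507 i) (Nat.ble 1548288 i)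
noncomputable def eT1509 (i : Nat) : Nat := Bool.rec (eT1502 i) (eT1508 i) (Nat.ble 1545216 i)
noncomputable def eT1510 (i : Nat) : Nat := Bool.rec (eT1496 i) (eT1509 i) (Nat.ble 1538048 i)
noncomputable def eT1511 (i : Nat) : Nat := Bool.rec (eT1483 i) (eT1510 i) (Nat.ble 1523712 i)
noncomputable def eT1512 (i : Nat) : Nat := Bool.rec (eL1517 i) (eL1518 i) (Nat.ble 1554432 i)
noncomputable def eT1513 (i : Nat) : Nat := Bool.rec (eL1516 i) (eT1512 i) (Nat.ble 1553408 i)
noncomputable def eT1514 (i : Nat) : Nat := Bool.rec (eL1519 i) (eL1520 i) (Nat.ble 1556480 i)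
noncomputable def eT1515 (i : Nat) : Nat := Bool.rec (eL1521 i) (eL1522 i) (Nat.ble 1558528 i)
noncomputable def eT1516 (i : Nat) : Nat := Bool.rec (eT1514 i) (eT1515 i) (Nat.ble 1557504 i)
noncomputable def eT1517 (i : Nat) : Nat := Bool.rec (eT1513 i) (eT1516 i) (Nat.ble 1555456 i)
noncomputable def eT1518 (i : Nat) : Nat := Bool.rec (eL1524 i) (eL1525 i) (Nat.ble 1561600 i)
noncomputable def eT1519 (i : Nat) : Nat := Bool.rec (eL1523 i) (eT1518 i) (Nat.ble 1560576 i)
noncomputable def eT1520 (i : Nat) : Nat := Bool.rec (eL1526 i) (eL1527 i) (Nat.ble 1563648 i)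
noncomputable def eT1521 (i : Nat) : Nat := Bool.rec (eL1528 i) (eL1529 i) (Nat.ble 1565696 i)
noncomputable def eT1522 (i : Nat) : Nat := Bool.rec (eT1520 i) (eT1521 i) (Nat.ble 1564672 i)
noncomputable def eT1523 (i : Nat) : Nat := Bool.rec (eT1519 i) (eT1522 i) (Nat.ble 1562624 i)
noncomputable def eT1524 (i : Nat) : Nat := Bool.rec (eT1517 i) (eT1523 i) (Nat.ble 1559552 i)
noncomputable def eT1525 (i : Nat) : Nat := Bool.rec (eL1531 i) (eL1532 i) (Nat.ble 1568768 i)
noncomputable def eT1526 (i : Nat) : Nat := Bool.rec (eL1530 i) (eT1525 i) (Nat.ble 1567744 i)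
noncomputable def eT1527 (i : Nat) : Nat := Bool.rec (eL1533 i) (eL1534 i) (Nat.ble 1570816 i)
noncomputable def eT1528 (i : Nat) : Nat := Bool.rec (eL1535 i) (eL1536 i) (Nat.ble 1572864 i)
noncomputable def eT1529 (i : Nat) : Nat := Bool.rec (eT1527 i) (eT1528 i) (Nat.ble 1571840 i)
noncomputable def eT1530 (i : Nat) : Nat := Bool.rec (eT1526 i) (eT1529 i) (Nat.ble 1569792 i)
noncomputable def eT1531 (i : Nat) : Nat := Bool.rec (eL1538 i) (eL1539 i) (Nat.ble 1575936 i)
noncomputable def eT1532 (i : Nat) : Nat := Bool.rec (eL1537 i) (eT1531 i) (Nat.ble 1574912 i)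
noncomputable def eT1533 (i : Nat) : Nat := Bool.rec (eL1540 i) (eL1541 i) (Nat.ble 1577984 i)
noncomputable def eT1534 (i : Nat) : Nat := Bool.rec (eL1542 i) (eL1543 i) (Nat.ble 1580032 i)
noncomputable def eT1535 (i : Nat) : Nat := Bool.rec (eT1533 i) (eT1534 i) (Nat.ble 1579008 i)
noncomputable def eT1536 (i : Nat) : Nat := Bool.rec (eT1532 i) (eT1535 i) (Nat.ble 1576960 i)
noncomputable def eT1537 (i : Nat) : Nat := Bool.rec (eT1530 i) (eT1536 i) (Nat.ble 1573888 i)
noncomputable def eT1538 (i : Nat) : Nat := Bool.rec (eT1524 i) (eT1537 i) (Nat.ble 1566720 i)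
noncomputable def eT1539 (i : Nat) : Nat := Bool.rec (eL1545 i) (eL1546 i) (Nat.ble 1583104 i)
noncomputable def eT1540 (i : Nat) : Nat := Bool.rec (eL1544 i) (eT1539 i) (Nat.ble 1582080 i)
noncomputable def eT1541 (i : Nat) : Nat := Bool.rec (eL1547 i) (eL1548 i) (Nat.ble 1585152 i)
noncomputable def eT1542 (i : Nat) : Nat := Bool.rec (eL1549 i) (eL1550 i) (Nat.ble 1587200 i)
noncomputable def eT1543 (i : Nat) : Nat := Bool.rec (eT1541 i) (eT1542 i) (Nat.ble 1586176 i)
noncomputable def eT1544 (i : Nat) : Nat := Bool.rec (eT1540 i) (eT1543 i) (Nat.ble 1584128 i)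
noncomputable def eT1545 (i : Nat) : Nat := Bool.rec (eL1552 i) (eL1553 i) (Nat.ble 1590272 i)
noncomputable def eT1546 (i : Nat) : Nat := Bool.rec (eL1551 i) (eT1545 i) (Nat.ble 1589248 i)
noncomputable def eT1547 (i : Nat) : Nat := Bool.rec (eL1554 i) (eL1555 i) (Nat.ble 1592320 i)
noncomputable def eT1548 (i : Nat) : Nat := Bool.rec (eL1556 i) (eL1557 i) (Nat.ble 1594368 i)
noncomputable def eT1549 (i : Nat) : Nat := Bool.rec (eT1547 i) (eT1548 i) (Nat.ble 1593344 i)
noncomputable def eT1550 (i : Nat) : Nat := Bool.rec (eT1546 i) (eT1549 i) (Nat.ble 1591296 i)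
noncomputable def eT1551 (i : Nat) : Nat := Bool.rec (eT1544 i) (eT1550 i) (Nat.ble 1588224 i)
noncomputable def eT1552 (i : Nat) : Nat := Bool.rec (eL1559 i) (eL1560 i) (Nat.ble 1597440 i)
noncomputable def eT1553 (i : Nat) : Nat := Bool.rec (eL1558 i) (eT1552 i) (Nat.ble 1596416 i)
noncomputable def eT1554 (i : Nat) : Nat := Bool.rec (eL1561 i) (eL1562 i) (Nat.ble 1599488 i)
noncomputable def eT1555 (i : Nat) : Nat := Bool.rec (eL1563 i) (eL1564 i) (Nat.ble 1601536 i)
noncomputable def eT1556 (i : Nat) : Nat := Bool.rec (eT1554 i) (eT1555 i) (Nat.ble 1600512 i)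
noncomputable def eT1557 (i : Nat) : Nat := Bool.rec (eT1553 i) (eT1556 i) (Nat.ble 1598464 i)
noncomputable def eT1558 (i : Nat) : Nat := Bool.rec (eL1565 i) (eL1566 i) (Nat.ble 1603584 i)
noncomputable def eT1559 (i : Nat) : Nat := Bool.rec (eL1567 i) (eL1568 i) (Nat.ble 1605632 i)
noncomputable def eT1560 (i : Nat) : Nat := Bool.rec (eT1558 i) (eT1559 i) (Nat.ble 1604608 i)
noncomputable def eT1561 (i : Nat) : Nat := Bool.rec (eL1569 i) (eL1570 i) (Nat.ble 1607680 i)
noncomputable def eT1562 (i : Nat) : Nat := Bool.rec (eL1571 i) (eL1572 i) (Nat.ble 1609728 i)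
noncomputable def eT1563 (i : Nat) : Nat := Bool.rec (eT1561 i) (eT1562 i) (Nat.ble 1608704 i)
noncomputable def eT1564 (i : Nat) : Nat := Bool.rec (eT1560 i) (eT1563 i) (Nat.ble 1606656 i)
noncomputable def eT1565 (i : Nat) : Nat := Bool.rec (eT1557 i) (eT1564 i) (Nat.ble 1602560 i)
noncomputable def eT1566 (i : Nat) : Nat := Bool.rec (eT1551 i) (eT1565 i) (Nat.ble 1595392 i)
noncomputable def eT1567 (i : Nat) : Nat := Bool.rec (eT1538 i) (eT1566 i) (Nat.ble 1581056 i)
noncomputable def eT1568 (i : Nat) : Nat := Bool.rec (eT1511 i) (eT1567 i) (Nat.ble 1552384 i)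
noncomputable def eT1569 (i : Nat) : Nat := Bool.rec (eT1456 i) (eT1568 i) (Nat.ble 1495040 i)
noncomputable def eT1570 (i : Nat) : Nat := Bool.rec (eL1574 i) (eL1575 i) (Nat.ble 1612800 i)
noncomputable def eT1571 (i : Nat) : Nat := Bool.rec (eL1573 i) (eT1570 i) (Nat.ble 1611776 i)
noncomputable def eT1572 (i : Nat) : Nat := Bool.rec (eL1576 i) (eL1577 i) (Nat.ble 1614848 i)
noncomputable def eT1573 (i : Nat) : Nat := Bool.rec (eL1578 i) (eL1579 i) (Nat.ble 1616896 i)
noncomputable def eT1574 (i : Nat) : Nat := Bool.rec (eT1572 i) (eT1573 i) (Nat.ble 1615872 i)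
noncomputable def eT1575 (i : Nat) : Nat := Bool.rec (eT1571 i) (eT1574 i) (Nat.ble 1613824 i)
noncomputable def eT1576 (i : Nat) : Nat := Bool.rec (eL1581 i) (eL1582 i) (Nat.ble 1619968 i)
noncomputable def eT1577 (i : Nat) : Nat := Bool.rec (eL1580 i) (eT1576 i) (Nat.ble 1618944 i)
noncomputable def eT1578 (i : Nat) : Nat := Bool.rec (eL1583 i) (eL1584 i) (Nat.ble 1622016 i)
noncomputable def eT1579 (i : Nat) : Nat := Bool.rec (eL1585 i) (eL1586 i) (Nat.ble 1624064 i)
noncomputable def eT1580 (i : Nat) : Nat := Bool.rec (eT1578 i) (eT1579 i) (Nat.ble 1623040 i)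
noncomputable def eT1581 (i : Nat) : Nat := Bool.rec (eT1577 i) (eT1580 i) (Nat.ble 1620992 i)
noncomputable def eT1582 (i : Nat) : Nat := Bool.rec (eT1575 i) (eT1581 i) (Nat.ble 1617920 i)
noncomputable def eT1583 (i : Nat) : Nat := Bool.rec (eL1588 i) (eL1589 i) (Nat.ble 1627136 i)
noncomputable def eT1584 (i : Nat) : Nat := Bool.rec (eL1587 i) (eT1583 i) (Nat.ble 1626112 i)
noncomputable def eT1585 (i : Nat) : Nat := Bool.rec (eL1590 i) (eL1591 i) (Nat.ble 1629184 i)
noncomputable def eT1586 (i : Nat) : Nat := Bool.rec (eL1592 i) (eL1593 i) (Nat.ble 1631232 i)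
noncomputable def eT1587 (i : Nat) : Nat := Bool.rec (eT1585 i) (eT1586 i) (Nat.ble 1630208 i)
noncomputable def eT1588 (i : Nat) : Nat := Bool.rec (eT1584 i) (eT1587 i) (Nat.ble 1628160 i)
noncomputable def eT1589 (i : Nat) : Nat := Bool.rec (eL1595 i) (eL1596 i) (Nat.ble 1634304 i)
noncomputable def eT1590 (i : Nat) : Nat := Bool.rec (eL1594 i) (eT1589 i) (Nat.ble 1633280 i)
noncomputable def eT1591 (i : Nat) : Nat := Bool.rec (eL1597 i) (eL1598 i) (Nat.ble 1636352 i)
noncomputable def eT1592 (i : Nat) : Nat := Bool.rec (eL1599 i) (eL1600 i) (Nat.ble 1638400 i)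
noncomputable def eT1593 (i : Nat) : Nat := Bool.rec (eT1591 i) (eT1592 i) (Nat.ble 1637376 i)
noncomputable def eT1594 (i : Nat) : Nat := Bool.rec (eT1590 i) (eT1593 i) (Nat.ble 1635328 i)
noncomputable def eT1595 (i : Nat) : Nat := Bool.rec (eT1588 i) (eT1594 i) (Nat.ble 1632256 i)
noncomputable def eT1596 (i : Nat) : Nat := Bool.rec (eT1582 i) (eT1595 i) (Nat.ble 1625088 i)
noncomputable def eT1597 (i : Nat) : Nat := Bool.rec (eL1602 i) (eL1603 i) (Nat.ble 1641472 i)
noncomputable def eT1598 (i : Nat) : Nat := Bool.rec (eL1601 i) (eT1597 i) (Nat.ble 1640448 i)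
noncomputable def eT1599 (i : Nat) : Nat := Bool.rec (eL1604 i) (eL1605 i) (Nat.ble 1643520 i)
noncomputable def eT1600 (i : Nat) : Nat := Bool.rec (eL1606 i) (eL1607 i) (Nat.ble 1645568 i)
noncomputable def eT1601 (i : Nat) : Nat := Bool.rec (eT1599 i) (eT1600 i) (Nat.ble 1644544 i)
noncomputable def eT1602 (i : Nat) : Nat := Bool.rec (eT1598 i) (eT1601 i) (Nat.ble 1642496 i)
noncomputable def eT1603 (i : Nat) : Nat := Bool.rec (eL1609 i) (eL1610 i) (Nat.ble 1648640 i)
noncomputable def eT1604 (i : Nat) : Nat := Bool.rec (eL1608 i) (eT1603 i) (Nat.ble 1647616 i)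
noncomputable def eT1605 (i : Nat) : Nat := Bool.rec (eL1611 i) (eL1612 i) (Nat.ble 1650688 i)
noncomputable def eT1606 (i : Nat) : Nat := Bool.rec (eL1613 i) (eL1614 i) (Nat.ble 1652736 i)
noncomputable def eT1607 (i : Nat) : Nat := Bool.rec (eT1605 i) (eT1606 i) (Nat.ble 1651712 i)
noncomputable def eT1608 (i : Nat) : Nat := Bool.rec (eT1604 i) (eT1607 i) (Nat.ble 1649664 i)
noncomputable def eT1609 (i : Nat) : Nat := Bool.rec (eT1602 i) (eT1608 i) (Nat.ble 1646592 i)
noncomputable def eT1610 (i : Nat) : Nat := Bool.rec (eL1616 i) (eL1617 i) (Nat.ble 1655808 i)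
noncomputable def eT1611 (i : Nat) : Nat := Bool.rec (eL1615 i) (eT1610 i) (Nat.ble 1654784 i)
noncomputable def eT1612 (i : Nat) : Nat := Bool.rec (eL1618 i) (eL1619 i) (Nat.ble 1657856 i)
noncomputable def eT1613 (i : Nat) : Nat := Bool.rec (eL1620 i) (eL1621 i) (Nat.ble 1659904 i)
noncomputable def eT1614 (i : Nat) : Nat := Bool.rec (eT1612 i) (eT1613 i) (Nat.ble 1658880 i)
noncomputable def eT1615 (i : Nat) : Nat := Bool.rec (eT1611 i) (eT1614 i) (Nat.ble 1656832 i)
noncomputable def eT1616 (i : Nat) : Nat := Bool.rec (eL1623 i) (eL1624 i) (Nat.ble 1662976 i)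
noncomputable def eT1617 (i : Nat) : Nat := Bool.rec (eL1622 i) (eT1616 i) (Nat.ble 1661952 i)
noncomputable def eT1618 (i : Nat) : Nat := Bool.rec (eL1625 i) (eL1626 i) (Nat.ble 1665024 i)
noncomputable def eT1619 (i : Nat) : Nat := Bool.rec (eL1627 i) (eL1628 i) (Nat.ble 1667072 i)
noncomputable def eT1620 (i : Nat) : Nat := Bool.rec (eT1618 i) (eT1619 i) (Nat.ble 1666048 i)
noncomputable def eT1621 (i : Nat) : Nat := Bool.rec (eT1617 i) (eT1620 i) (Nat.ble 1664000 i)
noncomputable def eT1622 (i : Nat) : Nat := Bool.rec (eT1615 i) (eT1621 i) (Nat.ble 1660928 i)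
noncomputable def eT1623 (i : Nat) : Nat := Bool.rec (eT1609 i) (eT1622 i) (Nat.ble 1653760 i)
noncomputable def eT1624 (i : Nat) : Nat := Bool.rec (eT1596 i) (eT1623 i) (Nat.ble 1639424 i)
noncomputable def eT1625 (i : Nat) : Nat := Bool.rec (eL1630 i) (eL1631 i) (Nat.ble 1670144 i)
noncomputable def eT1626 (i : Nat) : Nat := Bool.rec (eL1629 i) (eT1625 i) (Nat.ble 1669120 i)
noncomputable def eT1627 (i : Nat) : Nat := Bool.rec (eL1632 i) (eL1633 i) (Nat.ble 1672192 i)
noncomputable def eT1628 (i : Nat) : Nat := Bool.rec (eL1634 i) (eL1635 i) (Nat.ble 1674240 i)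
noncomputable def eT1629 (i : Nat) : Nat := Bool.rec (eT1627 i) (eT1628 i) (Nat.ble 1673216 i)
noncomputable def eT1630 (i : Nat) : Nat := Bool.rec (eT1626 i) (eT1629 i) (Nat.ble 1671168 i)
noncomputable def eT1631 (i : Nat) : Nat := Bool.rec (eL1637 i) (eL1638 i) (Nat.ble 1677312 i)
noncomputable def eT1632 (i : Nat) : Nat := Bool.rec (eL1636 i) (eT1631 i) (Nat.ble 1676288 i)
noncomputable def eT1633 (i : Nat) : Nat := Bool.rec (eL1639 i) (eL1640 i) (Nat.ble 1679360 i)
noncomputable def eT1634 (i : Nat) : Nat := Bool.rec (eL1641 i) (eL1642 i) (Nat.ble 1681408 i)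
noncomputable def eT1635 (i : Nat) : Nat := Bool.rec (eT1633 i) (eT1634 i) (Nat.ble 1680384 i)
noncomputable def eT1636 (i : Nat) : Nat := Bool.rec (eT1632 i) (eT1635 i) (Nat.ble 1678336 i)
noncomputable def eT1637 (i : Nat) : Nat := Bool.rec (eT1630 i) (eT1636 i) (Nat.ble 1675264 i)
noncomputable def eT1638 (i : Nat) : Nat := Bool.rec (eL1644 i) (eL1645 i) (Nat.ble 1684480 i)
noncomputable def eT1639 (i : Nat) : Nat := Bool.rec (eL1643 i) (eT1638 i) (Nat.ble 1683456 i)
noncomputable def eT1640 (i : Nat) : Nat := Bool.rec (eL1646 i) (eL1647 i) (Nat.ble 1686528 i)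
noncomputable def eT1641 (i : Nat) : Nat := Bool.rec (eL1648 i) (eL1649 i) (Nat.ble 1688576 i)
noncomputable def eT1642 (i : Nat) : Nat := Bool.rec (eT1640 i) (eT1641 i) (Nat.ble 1687552 i)
noncomputable def eT1643 (i : Nat) : Nat := Bool.rec (eT1639 i) (eT1642 i) (Nat.ble 1685504 i)
noncomputable def eT1644 (i : Nat) : Nat := Bool.rec (eL1651 i) (eL1652 i) (Nat.ble 1691648 i)
noncomputable def eT1645 (i : Nat) : Nat := Bool.rec (eL1650 i) (eT1644 i) (Nat.ble 1690624 i)
noncomputable def eT1646 (i : Nat) : Nat := Bool.rec (eL1653 i) (eL1654 i) (Nat.ble 1693696 i)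
noncomputable def eT1647 (i : Nat) : Nat := Bool.rec (eL1655 i) (eL1656 i) (Nat.ble 1695744 i)
noncomputable def eT1648 (i : Nat) : Nat := Bool.rec (eT1646 i) (eT1647 i) (Nat.ble 1694720 i)
noncomputable def eT1649 (i : Nat) : Nat := Bool.rec (eT1645 i) (eT1648 i) (Nat.ble 1692672 i)
noncomputable def eT1650 (i : Nat) : Nat := Bool.rec (eT1643 i) (eT1649 i) (Nat.ble 1689600 i)
noncomputable def eT1651 (i : Nat) : Nat := Bool.rec (eT1637 i) (eT1650 i) (Nat.ble 1682432 i)
noncomputable def eT1652 (i : Nat) : Nat := Bool.rec (eL1658 i) (eL1659 i) (Nat.ble 1698816 i)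
noncomputable def eT1653 (i : Nat) : Nat := Bool.rec (eL1657 i) (eT1652 i) (Nat.ble 1697792 i)
noncomputable def eT1654 (i : Nat) : Nat := Bool.rec (eL1660 i) (eL1661 i) (Nat.ble 1700864 i)
noncomputable def eT1655 (i : Nat) : Nat := Bool.rec (eL1662 i) (eL1663 i) (Nat.ble 1702912 i)
noncomputable def eT1656 (i : Nat) : Nat := Bool.rec (eT1654 i) (eT1655 i) (Nat.ble 1701888 i)
noncomputable def eT1657 (i : Nat) : Nat := Bool.rec (eT1653 i) (eT1656 i) (Nat.ble 1699840 i)
noncomputable def eT1658 (i : Nat) : Nat := Bool.rec (eL1665 i) (eL1666 i) (Nat.ble 1705984 i)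
noncomputable def eT1659 (i : Nat) : Nat := Bool.rec (eL1664 i) (eT1658 i) (Nat.ble 1704960 i)
noncomputable def eT1660 (i : Nat) : Nat := Bool.rec (eL1667 i) (eL1668 i) (Nat.ble 1708032 i)
noncomputable def eT1661 (i : Nat) : Nat := Bool.rec (eL1669 i) (eL1670 i) (Nat.ble 1710080 i)
noncomputable def eT1662 (i : Nat) : Nat := Bool.rec (eT1660 i) (eT1661 i) (Nat.ble 1709056 i)
noncomputable def eT1663 (i : Nat) : Nat := Bool.rec (eT1659 i) (eT1662 i) (Nat.ble 1707008 i)
noncomputable def eT1664 (i : Nat) : Nat := Bool.rec (eT1657 i) (eT1663 i) (Nat.ble 1703936 i)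
noncomputable def eT1665 (i : Nat) : Nat := Bool.rec (eL1672 i) (eL1673 i) (Nat.ble 1713152 i)
noncomputable def eT1666 (i : Nat) : Nat := Bool.rec (eL1671 i) (eT1665 i) (Nat.ble 1712128 i)
noncomputable def eT1667 (i : Nat) : Nat := Bool.rec (eL1674 i) (eL1675 i) (Nat.ble 1715200 i)
noncomputable def eT1668 (i : Nat) : Nat := Bool.rec (eL1676 i) (eL1677 i) (Nat.ble 1717248 i)
noncomputable def eT1669 (i : Nat) : Nat := Bool.rec (eT1667 i) (eT1668 i) (Nat.ble 1716224 i)
noncomputable def eT1670 (i : Nat) : Nat := Bool.rec (eT1666 i) (eT1669 i) (Nat.ble 1714176 i)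
noncomputable def eT1671 (i : Nat) : Nat := Bool.rec (eL1679 i) (eL1680 i) (Nat.ble 1720320 i)
noncomputable def eT1672 (i : Nat) : Nat := Bool.rec (eL1678 i) (eT1671 i) (Nat.ble 1719296 i)
noncomputable def eT1673 (i : Nat) : Nat := Bool.rec (eL1681 i) (eL1682 i) (Nat.ble 1722368 i)
noncomputable def eT1674 (i : Nat) : Nat := Bool.rec (eL1683 i) (eL1684 i) (Nat.ble 1724416 i)
noncomputable def eT1675 (i : Nat) : Nat := Bool.rec (eT1673 i) (eT1674 i) (Nat.ble 1723392 i)
noncomputable def eT1676 (i : Nat) : Nat := Bool.rec (eT1672 i) (eT1675 i) (Nat.ble 1721344 i)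
noncomputable def eT1677 (i : Nat) : Nat := Bool.rec (eT1670 i) (eT1676 i) (Nat.ble 1718272 i)
noncomputable def eT1678 (i : Nat) : Nat := Bool.rec (eT1664 i) (eT1677 i) (Nat.ble 1711104 i)
noncomputable def eT1679 (i : Nat) : Nat := Bool.rec (eT1651 i) (eT1678 i) (Nat.ble 1696768 i)
noncomputable def eT1680 (i : Nat) : Nat := Bool.rec (eT1624 i) (eT1679 i) (Nat.ble 1668096 i)
noncomputable def eT1681 (i : Nat) : Nat := Bool.rec (eL1686 i) (eL1687 i) (Nat.ble 1727488 i)
noncomputable def eT1682 (i : Nat) : Nat := Bool.rec (eL1685 i) (eT1681 i) (Nat.ble 1726464 i)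
noncomputable def eT1683 (i : Nat) : Nat := Bool.rec (eL1688 i) (eL1689 i) (Nat.ble 1729536 i)
noncomputable def eT1684 (i : Nat) : Nat := Bool.rec (eL1690 i) (eL1691 i) (Nat.ble 1731584 i)
noncomputable def eT1685 (i : Nat) : Nat := Bool.rec (eT1683 i) (eT1684 i) (Nat.ble 1730560 i)
noncomputable def eT1686 (i : Nat) : Nat := Bool.rec (eT1682 i) (eT1685 i) (Nat.ble 1728512 i)
noncomputable def eT1687 (i : Nat) : Nat := Bool.rec (eL1693 i) (eL1694 i) (Nat.ble 1734656 i)
noncomputable def eT1688 (i : Nat) : Nat := Bool.rec (eL1692 i) (eT1687 i) (Nat.ble 1733632 i)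
noncomputable def eT1689 (i : Nat) : Nat := Bool.rec (eL1695 i) (eL1696 i) (Nat.ble 1736704 i)
noncomputable def eT1690 (i : Nat) : Nat := Bool.rec (eL1697 i) (eL1698 i) (Nat.ble 1738752 i)
noncomputable def eT1691 (i : Nat) : Nat := Bool.rec (eT1689 i) (eT1690 i) (Nat.ble 1737728 i)
noncomputable def eT1692 (i : Nat) : Nat := Bool.rec (eT1688 i) (eT1691 i) (Nat.ble 1735680 i)
noncomputable def eT1693 (i : Nat) : Nat := Bool.rec (eT1686 i) (eT1692 i) (Nat.ble 1732608 i)
noncomputable def eT1694 (i : Nat) : Nat := Bool.rec (eL1700 i) (eL1701 i) (Nat.ble 1741824 i)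
noncomputable def eT1695 (i : Nat) : Nat := Bool.rec (eL1699 i) (eT1694 i) (Nat.ble 1740800 i)
noncomputable def eT1696 (i : Nat) : Nat := Bool.rec (eL1702 i) (eL1703 i) (Nat.ble 1743872 i)
noncomputable def eT1697 (i : Nat) : Nat := Bool.rec (eL1704 i) (eL1705 i) (Nat.ble 1745920 i)
noncomputable def eT1698 (i : Nat) : Nat := Bool.rec (eT1696 i) (eT1697 i) (Nat.ble 1744896 i)
noncomputable def eT1699 (i : Nat) : Nat := Bool.rec (eT1695 i) (eT1698 i) (Nat.ble 1742848 i)
noncomputable def eT1700 (i : Nat) : Nat := Bool.rec (eL1707 i) (eL1708 i) (Nat.ble 1748992 i)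
noncomputable def eT1701 (i : Nat) : Nat := Bool.rec (eL1706 i) (eT1700 i) (Nat.ble 1747968 i)
noncomputable def eT1702 (i : Nat) : Nat := Bool.rec (eL1709 i) (eL1710 i) (Nat.ble 1751040 i)
noncomputable def eT1703 (i : Nat) : Nat := Bool.rec (eL1711 i) (eL1712 i) (Nat.ble 1753088 i)
noncomputable def eT1704 (i : Nat) : Nat := Bool.rec (eT1702 i) (eT1703 i) (Nat.ble 1752064 i)
noncomputable def eT1705 (i : Nat) : Nat := Bool.rec (eT1701 i) (eT1704 i) (Nat.ble 1750016 i)
noncomputable def eT1706 (i : Nat) : Nat := Bool.rec (eT1699 i) (eT1705 i) (Nat.ble 1746944 i)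
noncomputable def eT1707 (i : Nat) : Nat := Bool.rec (eT1693 i) (eT1706 i) (Nat.ble 1739776 i)
noncomputable def eT1708 (i : Nat) : Nat := Bool.rec (eL1714 i) (eL1715 i) (Nat.ble 1756160 i)
noncomputable def eT1709 (i : Nat) : Nat := Bool.rec (eL1713 i) (eT1708 i) (Nat.ble 1755136 i)
noncomputable def eT1710 (i : Nat) : Nat := Bool.rec (eL1716 i) (eL1717 i) (Nat.ble 1758208 i)
noncomputable def eT1711 (i : Nat) : Nat := Bool.rec (eL1718 i) (eL1719 i) (Nat.ble 1760256 i)
noncomputable def eT1712 (i : Nat) : Nat := Bool.rec (eT1710 i) (eT1711 i) (Nat.ble 1759232 i)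
noncomputable def eT1713 (i : Nat) : Nat := Bool.rec (eT1709 i) (eT1712 i) (Nat.ble 1757184 i)
noncomputable def eT1714 (i : Nat) : Nat := Bool.rec (eL1721 i) (eL1722 i) (Nat.ble 1763328 i)
noncomputable def eT1715 (i : Nat) : Nat := Bool.rec (eL1720 i) (eT1714 i) (Nat.ble 1762304 i)
noncomputable def eT1716 (i : Nat) : Nat := Bool.rec (eL1723 i) (eL1724 i) (Nat.ble 1765376 i)
noncomputable def eT1717 (i : Nat) : Nat := Bool.rec (eL1725 i) (eL1726 i) (Nat.ble 1767424 i)
noncomputable def eT1718 (i : Nat) : Nat := Bool.rec (eT1716 i) (eT1717 i) (Nat.ble 1766400 i)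
noncomputable def eT1719 (i : Nat) : Nat := Bool.rec (eT1715 i) (eT1718 i) (Nat.ble 1764352 i)
noncomputable def eT1720 (i : Nat) : Nat := Bool.rec (eT1713 i) (eT1719 i) (Nat.ble 1761280 i)
noncomputable def eT1721 (i : Nat) : Nat := Bool.rec (eL1728 i) (eL1729 i) (Nat.ble 1770496 i)
noncomputable def eT1722 (i : Nat) : Nat := Bool.rec (eL1727 i) (eT1721 i) (Nat.ble 1769472 i)
noncomputable def eT1723 (i : Nat) : Nat := Bool.rec (eL1730 i) (eL1731 i) (Nat.ble 1772544 i)
noncomputable def eT1724 (i : Nat) : Nat := Bool.rec (eL1732 i) (eL1733 i) (Nat.ble 1774592 i)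
noncomputable def eT1725 (i : Nat) : Nat := Bool.rec (eT1723 i) (eT1724 i) (Nat.ble 1773568 i)
noncomputable def eT1726 (i : Nat) : Nat := Bool.rec (eT1722 i) (eT1725 i) (Nat.ble 1771520 i)
noncomputable def eT1727 (i : Nat) : Nat := Bool.rec (eL1735 i) (eL1736 i) (Nat.ble 1777664 i)
noncomputable def eT1728 (i : Nat) : Nat := Bool.rec (eL1734 i) (eT1727 i) (Nat.ble 1776640 i)
noncomputable def eT1729 (i : Nat) : Nat := Bool.rec (eL1737 i) (eL1738 i) (Nat.ble 1779712 i)
noncomputable def eT1730 (i : Nat) : Nat := Bool.rec (eL1739 i) (eL1740 i) (Nat.ble 1781760 i)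
noncomputable def eT1731 (i : Nat) : Nat := Bool.rec (eT1729 i) (eT1730 i) (Nat.ble 1780736 i)
noncomputable def eT1732 (i : Nat) : Nat := Bool.rec (eT1728 i) (eT1731 i) (Nat.ble 1778688 i)
noncomputable def eT1733 (i : Nat) : Nat := Bool.rec (eT1726 i) (eT1732 i) (Nat.ble 1775616 i)
noncomputable def eT1734 (i : Nat) : Nat := Bool.rec (eT1720 i) (eT1733 i) (Nat.ble 1768448 i)
noncomputable def eT1735 (i : Nat) : Nat := Bool.rec (eT1707 i) (eT1734 i) (Nat.ble 1754112 i)
noncomputable def eT1736 (i : Nat) : Nat := Bool.rec (eL1742 i) (eL1743 i) (Nat.ble 1784832 i)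
noncomputable def eT1737 (i : Nat) : Nat := Bool.rec (eL1741 i) (eT1736 i) (Nat.ble 1783808 i)
noncomputable def eT1738 (i : Nat) : Nat := Bool.rec (eL1744 i) (eL1745 i) (Nat.ble 1786880 i)
noncomputable def eT1739 (i : Nat) : Nat := Bool.rec (eL1746 i) (eL1747 i) (Nat.ble 1788928 i)
noncomputable def eT1740 (i : Nat) : Nat := Bool.rec (eT1738 i) (eT1739 i) (Nat.ble 1787904 i)
noncomputable def eT1741 (i : Nat) : Nat := Bool.rec (eT1737 i) (eT1740 i) (Nat.ble 1785856 i)
noncomputable def eT1742 (i : Nat) : Nat := Bool.rec (eL1749 i) (eL1750 i) (Nat.ble 1792000 i)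
noncomputable def eT1743 (i : Nat) : Nat := Bool.rec (eL1748 i) (eT1742 i) (Nat.ble 1790976 i)
noncomputable def eT1744 (i : Nat) : Nat := Bool.rec (eL1751 i) (eL1752 i) (Nat.ble 1794048 i)
noncomputable def eT1745 (i : Nat) : Nat := Bool.rec (eL1753 i) (eL1754 i) (Nat.ble 1796096 i)
noncomputable def eT1746 (i : Nat) : Nat := Bool.rec (eT1744 i) (eT1745 i) (Nat.ble 1795072 i)
noncomputable def eT1747 (i : Nat) : Nat := Bool.rec (eT1743 i) (eT1746 i) (Nat.ble 1793024 i)
noncomputable def eT1748 (i : Nat) : Nat := Bool.rec (eT1741 i) (eT1747 i) (Nat.ble 1789952 i)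
noncomputable def eT1749 (i : Nat) : Nat := Bool.rec (eL1756 i) (eL1757 i) (Nat.ble 1799168 i)
noncomputable def eT1750 (i : Nat) : Nat := Bool.rec (eL1755 i) (eT1749 i) (Nat.ble 1798144 i)
noncomputable def eT1751 (i : Nat) : Nat := Bool.rec (eL1758 i) (eL1759 i) (Nat.ble 1801216 i)
noncomputable def eT1752 (i : Nat) : Nat := Bool.rec (eL1760 i) (eL1761 i) (Nat.ble 1803264 i)
noncomputable def eT1753 (i : Nat) : Nat := Bool.rec (eT1751 i) (eT1752 i) (Nat.ble 1802240 i)
noncomputable def eT1754 (i : Nat) : Nat := Bool.rec (eT1750 i) (eT1753 i) (Nat.ble 1800192 i)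
noncomputable def eT1755 (i : Nat) : Nat := Bool.rec (eL1763 i) (eL1764 i) (Nat.ble 1806336 i)
noncomputable def eT1756 (i : Nat) : Nat := Bool.rec (eL1762 i) (eT1755 i) (Nat.ble 1805312 i)
noncomputable def eT1757 (i : Nat) : Nat := Bool.rec (eL1765 i) (eL1766 i) (Nat.ble 1808384 i)
noncomputable def eT1758 (i : Nat) : Nat := Bool.rec (eL1767 i) (eL1768 i) (Nat.ble 1810432 i)
noncomputable def eT1759 (i : Nat) : Nat := Bool.rec (eT1757 i) (eT1758 i) (Nat.ble 1809408 i)
noncomputable def eT1760 (i : Nat) : Nat := Bool.rec (eT1756 i) (eT1759 i) (Nat.ble 1807360 i)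
noncomputable def eT1761 (i : Nat) : Nat := Bool.rec (eT1754 i) (eT1760 i) (Nat.ble 1804288 i)
noncomputable def eT1762 (i : Nat) : Nat := Bool.rec (eT1748 i) (eT1761 i) (Nat.ble 1797120 i)
noncomputable def eT1763 (i : Nat) : Nat := Bool.rec (eL1770 i) (eL1771 i) (Nat.ble 1813504 i)
noncomputable def eT1764 (i : Nat) : Nat := Bool.rec (eL1769 i) (eT1763 i) (Nat.ble 1812480 i)
noncomputable def eT1765 (i : Nat) : Nat := Bool.rec (eL1772 i) (eL1773 i) (Nat.ble 1815552 i)
noncomputable def eT1766 (i : Nat) : Nat := Bool.rec (eL1774 i) (eL1775 i) (Nat.ble 1817600 i)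
noncomputable def eT1767 (i : Nat) : Nat := Bool.rec (eT1765 i) (eT1766 i) (Nat.ble 1816576 i)
noncomputable def eT1768 (i : Nat) : Nat := Bool.rec (eT1764 i) (eT1767 i) (Nat.ble 1814528 i)
noncomputable def eT1769 (i : Nat) : Nat := Bool.rec (eL1777 i) (eL1778 i) (Nat.ble 1820672 i)
noncomputable def eT1770 (i : Nat) : Nat := Bool.rec (eL1776 i) (eT1769 i) (Nat.ble 1819648 i)
noncomputable def eT1771 (i : Nat) : Nat := Bool.rec (eL1779 i) (eL1780 i) (Nat.ble 1822720 i)
noncomputable def eT1772 (i : Nat) : Nat := Bool.rec (eL1781 i) (eL1782 i) (Nat.ble 1824768 i)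
noncomputable def eT1773 (i : Nat) : Nat := Bool.rec (eT1771 i) (eT1772 i) (Nat.ble 1823744 i)
noncomputable def eT1774 (i : Nat) : Nat := Bool.rec (eT1770 i) (eT1773 i) (Nat.ble 1821696 i)
noncomputable def eT1775 (i : Nat) : Nat := Bool.rec (eT1768 i) (eT1774 i) (Nat.ble 1818624 i)
noncomputable def eT1776 (i : Nat) : Nat := Bool.rec (eL1784 i) (eL1785 i) (Nat.ble 1827840 i)
noncomputable def eT1777 (i : Nat) : Nat := Bool.rec (eL1783 i) (eT1776 i) (Nat.ble 1826816 i)
noncomputable def eT1778 (i : Nat) : Nat := Bool.rec (eL1786 i) (eL1787 i) (Nat.ble 1829888 i)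
noncomputable def eT1779 (i : Nat) : Nat := Bool.rec (eL1788 i) (eL1789 i) (Nat.ble 1831936 i)
noncomputable def eT1780 (i : Nat) : Nat := Bool.rec (eT1778 i) (eT1779 i) (Nat.ble 1830912 i)
noncomputable def eT1781 (i : Nat) : Nat := Bool.rec (eT1777 i) (eT1780 i) (Nat.ble 1828864 i)
noncomputable def eT1782 (i : Nat) : Nat := Bool.rec (eL1790 i) (eL1791 i) (Nat.ble 1833984 i)
noncomputable def eT1783 (i : Nat) : Nat := Bool.rec (eL1792 i) (eL1793 i) (Nat.ble 1836032 i)
noncomputable def eT1784 (i : Nat) : Nat := Bool.rec (eT1782 i) (eT1783 i) (Nat.ble 1835008 i)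
noncomputable def eT1785 (i : Nat) : Nat := Bool.rec (eL1794 i) (eL1795 i) (Nat.ble 1838080 i)
noncomputable def eT1786 (i : Nat) : Nat := Bool.rec (eL1796 i) (eL1797 i) (Nat.ble 1840128 i)
noncomputable def eT1787 (i : Nat) : Nat := Bool.rec (eT1785 i) (eT1786 i) (Nat.ble 1839104 i)
noncomputable def eT1788 (i : Nat) : Nat := Bool.rec (eT1784 i) (eT1787 i) (Nat.ble 1837056 i)
noncomputable def eT1789 (i : Nat) : Nat := Bool.rec (eT1781 i) (eT1788 i) (Nat.ble 1832960 i)
noncomputable def eT1790 (i : Nat) : Nat := Bool.rec (eT1775 i) (eT1789 i) (Nat.ble 1825792 i)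
noncomputable def eT1791 (i : Nat) : Nat := Bool.rec (eT1762 i) (eT1790 i) (Nat.ble 1811456 i)
noncomputable def eT1792 (i : Nat) : Nat := Bool.rec (eT1735 i) (eT1791 i) (Nat.ble 1782784 i)
noncomputable def eT1793 (i : Nat) : Nat := Bool.rec (eT1680 i) (eT1792 i) (Nat.ble 1725440 i)
noncomputable def eT1794 (i : Nat) : Nat := Bool.rec (eT1569 i) (eT1793 i) (Nat.ble 1610752 i)
noncomputable def eT1795 (i : Nat) : Nat := Bool.rec (eT1345 i) (eT1794 i) (Nat.ble 1380352 i)
noncomputable def eT1796 (i : Nat) : Nat := Bool.rec (eT897 i) (eT1795 i) (Nat.ble 920576 i)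
noncomputable def eT1797 (i : Nat) : Nat := Bool.rec (eL1799 i) (eL1800 i) (Nat.ble 1843200 i)
noncomputable def eT1798 (i : Nat) : Nat := Bool.rec (eL1798 i) (eT1797 i) (Nat.ble 1842176 i)
noncomputable def eT1799 (i : Nat) : Nat := Bool.rec (eL1801 i) (eL1802 i) (Nat.ble 1845248 i)
noncomputable def eT1800 (i : Nat) : Nat := Bool.rec (eL1803 i) (eL1804 i) (Nat.ble 1847296 i)
noncomputable def eT1801 (i : Nat) : Nat := Bool.rec (eT1799 i) (eT1800 i) (Nat.ble 1846272 i)
noncomputable def eT1802 (i : Nat) : Nat := Bool.rec (eT1798 i) (eT1801 i) (Nat.ble 1844224 i)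
noncomputable def eT1803 (i : Nat) : Nat := Bool.rec (eL1806 i) (eL1807 i) (Nat.ble 1850368 i)
noncomputable def eT1804 (i : Nat) : Nat := Bool.rec (eL1805 i) (eT1803 i) (Nat.ble 1849344 i)
noncomputable def eT1805 (i : Nat) : Nat := Bool.rec (eL1808 i) (eL1809 i) (Nat.ble 1852416 i)
noncomputable def eT1806 (i : Nat) : Nat := Bool.rec (eL1810 i) (eL1811 i) (Nat.ble 1854464 i)
noncomputable def eT1807 (i : Nat) : Nat := Bool.rec (eT1805 i) (eT1806 i) (Nat.ble 1853440 i)
noncomputable def eT1808 (i : Nat) : Nat := Bool.rec (eT1804 i) (eT1807 i) (Nat.ble 1851392 i)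
noncomputable def eT1809 (i : Nat) : Nat := Bool.rec (eT1802 i) (eT1808 i) (Nat.ble 1848320 i)
noncomputable def eT1810 (i : Nat) : Nat := Bool.rec (eL1813 i) (eL1814 i) (Nat.ble 1857536 i)
noncomputable def eT1811 (i : Nat) : Nat := Bool.rec (eL1812 i) (eT1810 i) (Nat.ble 1856512 i)
noncomputable def eT1812 (i : Nat) : Nat := Bool.rec (eL1815 i) (eL1816 i) (Nat.ble 1859584 i)
noncomputable def eT1813 (i : Nat) : Nat := Bool.rec (eL1817 i) (eL1818 i) (Nat.ble 1861632 i)
noncomputable def eT1814 (i : Nat) : Nat := Bool.rec (eT1812 i) (eT1813 i) (Nat.ble 1860608 i)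
noncomputable def eT1815 (i : Nat) : Nat := Bool.rec (eT1811 i) (eT1814 i) (Nat.ble 1858560 i)
noncomputable def eT1816 (i : Nat) : Nat := Bool.rec (eL1820 i) (eL1821 i) (Nat.ble 1864704 i)
noncomputable def eT1817 (i : Nat) : Nat := Bool.rec (eL1819 i) (eT1816 i) (Nat.ble 1863680 i)
noncomputable def eT1818 (i : Nat) : Nat := Bool.rec (eL1822 i) (eL1823 i) (Nat.ble 1866752 i)
noncomputable def eT1819 (i : Nat) : Nat := Bool.rec (eL1824 i) (eL1825 i) (Nat.ble 1868800 i)
noncomputable def eT1820 (i : Nat) : Nat := Bool.rec (eT1818 i) (eT1819 i) (Nat.ble 1867776 i)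
noncomputable def eT1821 (i : Nat) : Nat := Bool.rec (eT1817 i) (eT1820 i) (Nat.ble 1865728 i)
noncomputable def eT1822 (i : Nat) : Nat := Bool.rec (eT1815 i) (eT1821 i) (Nat.ble 1862656 i)
noncomputable def eT1823 (i : Nat) : Nat := Bool.rec (eT1809 i) (eT1822 i) (Nat.ble 1855488 i)
noncomputable def eT1824 (i : Nat) : Nat := Bool.rec (eL1827 i) (eL1828 i) (Nat.ble 1871872 i)
noncomputable def eT1825 (i : Nat) : Nat := Bool.rec (eL1826 i) (eT1824 i) (Nat.ble 1870848 i)
noncomputable def eT1826 (i : Nat) : Nat := Bool.rec (eL1829 i) (eL1830 i) (Nat.ble 1873920 i)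
noncomputable def eT1827 (i : Nat) : Nat := Bool.rec (eL1831 i) (eL1832 i) (Nat.ble 1875968 i)
noncomputable def eT1828 (i : Nat) : Nat := Bool.rec (eT1826 i) (eT1827 i) (Nat.ble 1874944 i)
noncomputable def eT1829 (i : Nat) : Nat := Bool.rec (eT1825 i) (eT1828 i) (Nat.ble 1872896 i)
noncomputable def eT1830 (i : Nat) : Nat := Bool.rec (eL1834 i) (eL1835 i) (Nat.ble 1879040 i)
noncomputable def eT1831 (i : Nat) : Nat := Bool.rec (eL1833 i) (eT1830 i) (Nat.ble 1878016 i)
noncomputable def eT1832 (i : Nat) : Nat := Bool.rec (eL1836 i) (eL1837 i) (Nat.ble 1881088 i)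
noncomputable def eT1833 (i : Nat) : Nat := Bool.rec (eL1838 i) (eL1839 i) (Nat.ble 1883136 i)
noncomputable def eT1834 (i : Nat) : Nat := Bool.rec (eT1832 i) (eT1833 i) (Nat.ble 1882112 i)
noncomputable def eT1835 (i : Nat) : Nat := Bool.rec (eT1831 i) (eT1834 i) (Nat.ble 1880064 i)
noncomputable def eT1836 (i : Nat) : Nat := Bool.rec (eT1829 i) (eT1835 i) (Nat.ble 1876992 i)
noncomputable def eT1837 (i : Nat) : Nat := Bool.rec (eL1841 i) (eL1842 i) (Nat.ble 1886208 i)
noncomputable def eT1838 (i : Nat) : Nat := Bool.rec (eL1840 i) (eT1837 i) (Nat.ble 1885184 i)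
noncomputable def eT1839 (i : Nat) : Nat := Bool.rec (eL1843 i) (eL1844 i) (Nat.ble 1888256 i)
noncomputable def eT1840 (i : Nat) : Nat := Bool.rec (eL1845 i) (eL1846 i) (Nat.ble 1890304 i)
noncomputable def eT1841 (i : Nat) : Nat := Bool.rec (eT1839 i) (eT1840 i) (Nat.ble 1889280 i)
noncomputable def eT1842 (i : Nat) : Nat := Bool.rec (eT1838 i) (eT1841 i) (Nat.ble 1887232 i)
noncomputable def eT1843 (i : Nat) : Nat := Bool.rec (eL1848 i) (eL1849 i) (Nat.ble 1893376 i)
noncomputable def eT1844 (i : Nat) : Nat := Bool.rec (eL1847 i) (eT1843 i) (Nat.ble 1892352 i)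
noncomputable def eT1845 (i : Nat) : Nat := Bool.rec (eL1850 i) (eL1851 i) (Nat.ble 1895424 i)
noncomputable def eT1846 (i : Nat) : Nat := Bool.rec (eL1852 i) (eL1853 i) (Nat.ble 1897472 i)
noncomputable def eT1847 (i : Nat) : Nat := Bool.rec (eT1845 i) (eT1846 i) (Nat.ble 1896448 i)
noncomputable def eT1848 (i : Nat) : Nat := Bool.rec (eT1844 i) (eT1847 i) (Nat.ble 1894400 i)
noncomputable def eT1849 (i : Nat) : Nat := Bool.rec (eT1842 i) (eT1848 i) (Nat.ble 1891328 i)
noncomputable def eT1850 (i : Nat) : Nat := Bool.rec (eT1836 i) (eT1849 i) (Nat.ble 1884160 i)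
noncomputable def eT1851 (i : Nat) : Nat := Bool.rec (eT1823 i) (eT1850 i) (Nat.ble 1869824 i)
noncomputable def eT1852 (i : Nat) : Nat := Bool.rec (eL1855 i) (eL1856 i) (Nat.ble 1900544 i)
noncomputable def eT1853 (i : Nat) : Nat := Bool.rec (eL1854 i) (eT1852 i) (Nat.ble 1899520 i)
noncomputable def eT1854 (i : Nat) : Nat := Bool.rec (eL1857 i) (eL1858 i) (Nat.ble 1902592 i)
noncomputable def eT1855 (i : Nat) : Nat := Bool.rec (eL1859 i) (eL1860 i) (Nat.ble 1904640 i)
noncomputable def eT1856 (i : Nat) : Nat := Bool.rec (eT1854 i) (eT1855 i) (Nat.ble 1903616 i)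
noncomputable def eT1857 (i : Nat) : Nat := Bool.rec (eT1853 i) (eT1856 i) (Nat.ble 1901568 i)
noncomputable def eT1858 (i : Nat) : Nat := Bool.rec (eL1862 i) (eL1863 i) (Nat.ble 1907712 i)
noncomputable def eT1859 (i : Nat) : Nat := Bool.rec (eL1861 i) (eT1858 i) (Nat.ble 1906688 i)
noncomputable def eT1860 (i : Nat) : Nat := Bool.rec (eL1864 i) (eL1865 i) (Nat.ble 1909760 i)
noncomputable def eT1861 (i : Nat) : Nat := Bool.rec (eL1866 i) (eL1867 i) (Nat.ble 1911808 i)
noncomputable def eT1862 (i : Nat) : Nat := Bool.rec (eT1860 i) (eT1861 i) (Nat.ble 1910784 i)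
noncomputable def eT1863 (i : Nat) : Nat := Bool.rec (eT1859 i) (eT1862 i) (Nat.ble 1908736 i)
noncomputable def eT1864 (i : Nat) : Nat := Bool.rec (eT1857 i) (eT1863 i) (Nat.ble 1905664 i)
noncomputable def eT1865 (i : Nat) : Nat := Bool.rec (eL1869 i) (eL1870 i) (Nat.ble 1914880 i)
noncomputable def eT1866 (i : Nat) : Nat := Bool.rec (eL1868 i) (eT1865 i) (Nat.ble 1913856 i)
noncomputable def eT1867 (i : Nat) : Nat := Bool.rec (eL1871 i) (eL1872 i) (Nat.ble 1916928 i)
noncomputable def eT1868 (i : Nat) : Nat := Bool.rec (eL1873 i) (eL1874 i) (Nat.ble 1918976 i)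
noncomputable def eT1869 (i : Nat) : Nat := Bool.rec (eT1867 i) (eT1868 i) (Nat.ble 1917952 i)
noncomputable def eT1870 (i : Nat) : Nat := Bool.rec (eT1866 i) (eT1869 i) (Nat.ble 1915904 i)
noncomputable def eT1871 (i : Nat) : Nat := Bool.rec (eL1876 i) (eL1877 i) (Nat.ble 1922048 i)
noncomputable def eT1872 (i : Nat) : Nat := Bool.rec (eL1875 i) (eT1871 i) (Nat.ble 1921024 i)
noncomputable def eT1873 (i : Nat) : Nat := Bool.rec (eL1878 i) (eL1879 i) (Nat.ble 1924096 i)
noncomputable def eT1874 (i : Nat) : Nat := Bool.rec (eL1880 i) (eL1881 i) (Nat.ble 1926144 i)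
noncomputable def eT1875 (i : Nat) : Nat := Bool.rec (eT1873 i) (eT1874 i) (Nat.ble 1925120 i)
noncomputable def eT1876 (i : Nat) : Nat := Bool.rec (eT1872 i) (eT1875 i) (Nat.ble 1923072 i)
noncomputable def eT1877 (i : Nat) : Nat := Bool.rec (eT1870 i) (eT1876 i) (Nat.ble 1920000 i)
noncomputable def eT1878 (i : Nat) : Nat := Bool.rec (eT1864 i) (eT1877 i) (Nat.ble 1912832 i)
noncomputable def eT1879 (i : Nat) : Nat := Bool.rec (eL1883 i) (eL1884 i) (Nat.ble 1929216 i)
noncomputable def eT1880 (i : Nat) : Nat := Bool.rec (eL1882 i) (eT1879 i) (Nat.ble 1928192 i)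
noncomputable def eT1881 (i : Nat) : Nat := Bool.rec (eL1885 i) (eL1886 i) (Nat.ble 1931264 i)
noncomputable def eT1882 (i : Nat) : Nat := Bool.rec (eL1887 i) (eL1888 i) (Nat.ble 1933312 i)
noncomputable def eT1883 (i : Nat) : Nat := Bool.rec (eT1881 i) (eT1882 i) (Nat.ble 1932288 i)
noncomputable def eT1884 (i : Nat) : Nat := Bool.rec (eT1880 i) (eT1883 i) (Nat.ble 1930240 i)
noncomputable def eT1885 (i : Nat) : Nat := Bool.rec (eL1890 i) (eL1891 i) (Nat.ble 1936384 i)
noncomputable def eT1886 (i : Nat) : Nat := Bool.rec (eL1889 i) (eT1885 i) (Nat.ble 1935360 i)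
noncomputable def eT1887 (i : Nat) : Nat := Bool.rec (eL1892 i) (eL1893 i) (Nat.ble 1938432 i)
noncomputable def eT1888 (i : Nat) : Nat := Bool.rec (eL1894 i) (eL1895 i) (Nat.ble 1940480 i)
noncomputable def eT1889 (i : Nat) : Nat := Bool.rec (eT1887 i) (eT1888 i) (Nat.ble 1939456 i)
noncomputable def eT1890 (i : Nat) : Nat := Bool.rec (eT1886 i) (eT1889 i) (Nat.ble 1937408 i)
noncomputable def eT1891 (i : Nat) : Nat := Bool.rec (eT1884 i) (eT1890 i) (Nat.ble 1934336 i)
noncomputable def eT1892 (i : Nat) : Nat := Bool.rec (eL1897 i) (eL1898 i) (Nat.ble 1943552 i)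
noncomputable def eT1893 (i : Nat) : Nat := Bool.rec (eL1896 i) (eT1892 i) (Nat.ble 1942528 i)
noncomputable def eT1894 (i : Nat) : Nat := Bool.rec (eL1899 i) (eL1900 i) (Nat.ble 1945600 i)
noncomputable def eT1895 (i : Nat) : Nat := Bool.rec (eL1901 i) (eL1902 i) (Nat.ble 1947648 i)
noncomputable def eT1896 (i : Nat) : Nat := Bool.rec (eT1894 i) (eT1895 i) (Nat.ble 1946624 i)
noncomputable def eT1897 (i : Nat) : Nat := Bool.rec (eT1893 i) (eT1896 i) (Nat.ble 1944576 i)
noncomputable def eT1898 (i : Nat) : Nat := Bool.rec (eL1904 i) (eL1905 i) (Nat.ble 1950720 i)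
noncomputable def eT1899 (i : Nat) : Nat := Bool.rec (eL1903 i) (eT1898 i) (Nat.ble 1949696 i)
noncomputable def eT1900 (i : Nat) : Nat := Bool.rec (eL1906 i) (eL1907 i) (Nat.ble 1952768 i)
noncomputable def eT1901 (i : Nat) : Nat := Bool.rec (eL1908 i) (eL1909 i) (Nat.ble 1954816 i)
noncomputable def eT1902 (i : Nat) : Nat := Bool.rec (eT1900 i) (eT1901 i) (Nat.ble 1953792 i)
noncomputable def eT1903 (i : Nat) : Nat := Bool.rec (eT1899 i) (eT1902 i) (Nat.ble 1951744 i)
noncomputable def eT1904 (i : Nat) : Nat := Bool.rec (eT1897 i) (eT1903 i) (Nat.ble 1948672 i)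
noncomputable def eT1905 (i : Nat) : Nat := Bool.rec (eT1891 i) (eT1904 i) (Nat.ble 1941504 i)
noncomputable def eT1906 (i : Nat) : Nat := Bool.rec (eT1878 i) (eT1905 i) (Nat.ble 1927168 i)
noncomputable def eT1907 (i : Nat) : Nat := Bool.rec (eT1851 i) (eT1906 i) (Nat.ble 1898496 i)
noncomputable def eT1908 (i : Nat) : Nat := Bool.rec (eL1911 i) (eL1912 i) (Nat.ble 1957888 i)
noncomputable def eT1909 (i : Nat) : Nat := Bool.rec (eL1910 i) (eT1908 i) (Nat.ble 1956864 i)
noncomputable def eT1910 (i : Nat) : Nat := Bool.rec (eL1913 i) (eL1914 i) (Nat.ble 1959936 i)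
noncomputable def eT1911 (i : Nat) : Nat := Bool.rec (eL1915 i) (eL1916 i) (Nat.ble 1961984 i)
noncomputable def eT1912 (i : Nat) : Nat := Bool.rec (eT1910 i) (eT1911 i) (Nat.ble 1960960 i)
noncomputable def eT1913 (i : Nat) : Nat := Bool.rec (eT1909 i) (eT1912 i) (Nat.ble 1958912 i)
noncomputable def eT1914 (i : Nat) : Nat := Bool.rec (eL1918 i) (eL1919 i) (Nat.ble 1965056 i)
noncomputable def eT1915 (i : Nat) : Nat := Bool.rec (eL1917 i) (eT1914 i) (Nat.ble 1964032 i)
noncomputable def eT1916 (i : Nat) : Nat := Bool.rec (eL1920 i) (eL1921 i) (Nat.ble 1967104 i)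
noncomputable def eT1917 (i : Nat) : Nat := Bool.rec (eL1922 i) (eL1923 i) (Nat.ble 1969152 i)
noncomputable def eT1918 (i : Nat) : Nat := Bool.rec (eT1916 i) (eT1917 i) (Nat.ble 1968128 i)
noncomputable def eT1919 (i : Nat) : Nat := Bool.rec (eT1915 i) (eT1918 i) (Nat.ble 1966080 i)
noncomputable def eT1920 (i : Nat) : Nat := Bool.rec (eT1913 i) (eT1919 i) (Nat.ble 1963008 i)
noncomputable def eT1921 (i : Nat) : Nat := Bool.rec (eL1925 i) (eL1926 i) (Nat.ble 1972224 i)
noncomputable def eT1922 (i : Nat) : Nat := Bool.rec (eL1924 i) (eT1921 i) (Nat.ble 1971200 i)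
noncomputable def eT1923 (i : Nat) : Nat := Bool.rec (eL1927 i) (eL1928 i) (Nat.ble 1974272 i)
noncomputable def eT1924 (i : Nat) : Nat := Bool.rec (eL1929 i) (eL1930 i) (Nat.ble 1976320 i)
noncomputable def eT1925 (i : Nat) : Nat := Bool.rec (eT1923 i) (eT1924 i) (Nat.ble 1975296 i)
noncomputable def eT1926 (i : Nat) : Nat := Bool.rec (eT1922 i) (eT1925 i) (Nat.ble 1973248 i)
noncomputable def eT1927 (i : Nat) : Nat := Bool.rec (eL1932 i) (eL1933 i) (Nat.ble 1979392 i)
noncomputable def eT1928 (i : Nat) : Nat := Bool.rec (eL1931 i) (eT1927 i) (Nat.ble 1978368 i)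
noncomputable def eT1929 (i : Nat) : Nat := Bool.rec (eL1934 i) (eL1935 i) (Nat.ble 1981440 i)
noncomputable def eT1930 (i : Nat) : Nat := Bool.rec (eL1936 i) (eL1937 i) (Nat.ble 1983488 i)
noncomputable def eT1931 (i : Nat) : Nat := Bool.rec (eT1929 i) (eT1930 i) (Nat.ble 1982464 i)
noncomputable def eT1932 (i : Nat) : Nat := Bool.rec (eT1928 i) (eT1931 i) (Nat.ble 1980416 i)
noncomputable def eT1933 (i : Nat) : Nat := Bool.rec (eT1926 i) (eT1932 i) (Nat.ble 1977344 i)
noncomputable def eT1934 (i : Nat) : Nat := Bool.rec (eT1920 i) (eT1933 i) (Nat.ble 1970176 i)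
noncomputable def eT1935 (i : Nat) : Nat := Bool.rec (eL1939 i) (eL1940 i) (Nat.ble 1986560 i)
noncomputable def eT1936 (i : Nat) : Nat := Bool.rec (eL1938 i) (eT1935 i) (Nat.ble 1985536 i)
noncomputable def eT1937 (i : Nat) : Nat := Bool.rec (eL1941 i) (eL1942 i) (Nat.ble 1988608 i)
noncomputable def eT1938 (i : Nat) : Nat := Bool.rec (eL1943 i) (eL1944 i) (Nat.ble 1990656 i)
noncomputable def eT1939 (i : Nat) : Nat := Bool.rec (eT1937 i) (eT1938 i) (Nat.ble 1989632 i)
noncomputable def eT1940 (i : Nat) : Nat := Bool.rec (eT1936 i) (eT1939 i) (Nat.ble 1987584 i)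
noncomputable def eT1941 (i : Nat) : Nat := Bool.rec (eL1946 i) (eL1947 i) (Nat.ble 1993728 i)
noncomputable def eT1942 (i : Nat) : Nat := Bool.rec (eL1945 i) (eT1941 i) (Nat.ble 1992704 i)
noncomputable def eT1943 (i : Nat) : Nat := Bool.rec (eL1948 i) (eL1949 i) (Nat.ble 1995776 i)
noncomputable def eT1944 (i : Nat) : Nat := Bool.rec (eL1950 i) (eL1951 i) (Nat.ble 1997824 i)
noncomputable def eT1945 (i : Nat) : Nat := Bool.rec (eT1943 i) (eT1944 i) (Nat.ble 1996800 i)
noncomputable def eT1946 (i : Nat) : Nat := Bool.rec (eT1942 i) (eT1945 i) (Nat.ble 1994752 i)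
noncomputable def eT1947 (i : Nat) : Nat := Bool.rec (eT1940 i) (eT1946 i) (Nat.ble 1991680 i)
noncomputable def eT1948 (i : Nat) : Nat := Bool.rec (eL1953 i) (eL1954 i) (Nat.ble 2000896 i)
noncomputable def eT1949 (i : Nat) : Nat := Bool.rec (eL1952 i) (eT1948 i) (Nat.ble 1999872 i)
noncomputable def eT1950 (i : Nat) : Nat := Bool.rec (eL1955 i) (eL1956 i) (Nat.ble 2002944 i)
noncomputable def eT1951 (i : Nat) : Nat := Bool.rec (eL1957 i) (eL1958 i) (Nat.ble 2004992 i)
noncomputable def eT1952 (i : Nat) : Nat := Bool.rec (eT1950 i) (eT1951 i) (Nat.ble 2003968 i)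
noncomputable def eT1953 (i : Nat) : Nat := Bool.rec (eT1949 i) (eT1952 i) (Nat.ble 2001920 i)
noncomputable def eT1954 (i : Nat) : Nat := Bool.rec (eL1960 i) (eL1961 i) (Nat.ble 2008064 i)
noncomputable def eT1955 (i : Nat) : Nat := Bool.rec (eL1959 i) (eT1954 i) (Nat.ble 2007040 i)
noncomputable def eT1956 (i : Nat) : Nat := Bool.rec (eL1962 i) (eL1963 i) (Nat.ble 2010112 i)
noncomputable def eT1957 (i : Nat) : Nat := Bool.rec (eL1964 i) (eL1965 i) (Nat.ble 2012160 i)
noncomputable def eT1958 (i : Nat) : Nat := Bool.rec (eT1956 i) (eT1957 i) (Nat.ble 2011136 i)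
noncomputable def eT1959 (i : Nat) : Nat := Bool.rec (eT1955 i) (eT1958 i) (Nat.ble 2009088 i)
noncomputable def eT1960 (i : Nat) : Nat := Bool.rec (eT1953 i) (eT1959 i) (Nat.ble 2006016 i)
noncomputable def eT1961 (i : Nat) : Nat := Bool.rec (eT1947 i) (eT1960 i) (Nat.ble 1998848 i)
noncomputable def eT1962 (i : Nat) : Nat := Bool.rec (eT1934 i) (eT1961 i) (Nat.ble 1984512 i)
noncomputable def eT1963 (i : Nat) : Nat := Bool.rec (eL1967 i) (eL1968 i) (Nat.ble 2015232 i)
noncomputable def eT1964 (i : Nat) : Nat := Bool.rec (eL1966 i) (eT1963 i) (Nat.ble 2014208 i)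
noncomputable def eT1965 (i : Nat) : Nat := Bool.rec (eL1969 i) (eL1970 i) (Nat.ble 2017280 i)
noncomputable def eT1966 (i : Nat) : Nat := Bool.rec (eL1971 i) (eL1972 i) (Nat.ble 2019328 i)
noncomputable def eT1967 (i : Nat) : Nat := Bool.rec (eT1965 i) (eT1966 i) (Nat.ble 2018304 i)
noncomputable def eT1968 (i : Nat) : Nat := Bool.rec (eT1964 i) (eT1967 i) (Nat.ble 2016256 i)
noncomputable def eT1969 (i : Nat) : Nat := Bool.rec (eL1974 i) (eL1975 i) (Nat.ble 2022400 i)
noncomputable def eT1970 (i : Nat) : Nat := Bool.rec (eL1973 i) (eT1969 i) (Nat.ble 2021376 i)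
noncomputable def eT1971 (i : Nat) : Nat := Bool.rec (eL1976 i) (eL1977 i) (Nat.ble 2024448 i)
noncomputable def eT1972 (i : Nat) : Nat := Bool.rec (eL1978 i) (eL1979 i) (Nat.ble 2026496 i)
noncomputable def eT1973 (i : Nat) : Nat := Bool.rec (eT1971 i) (eT1972 i) (Nat.ble 2025472 i)
noncomputable def eT1974 (i : Nat) : Nat := Bool.rec (eT1970 i) (eT1973 i) (Nat.ble 2023424 i)
noncomputable def eT1975 (i : Nat) : Nat := Bool.rec (eT1968 i) (eT1974 i) (Nat.ble 2020352 i)
noncomputable def eT1976 (i : Nat) : Nat := Bool.rec (eL1981 i) (eL1982 i) (Nat.ble 2029568 i)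
noncomputable def eT1977 (i : Nat) : Nat := Bool.rec (eL1980 i) (eT1976 i) (Nat.ble 2028544 i)
noncomputable def eT1978 (i : Nat) : Nat := Bool.rec (eL1983 i) (eL1984 i) (Nat.ble 2031616 i)
noncomputable def eT1979 (i : Nat) : Nat := Bool.rec (eL1985 i) (eL1986 i) (Nat.ble 2033664 i)
noncomputable def eT1980 (i : Nat) : Nat := Bool.rec (eT1978 i) (eT1979 i) (Nat.ble 2032640 i)
noncomputable def eT1981 (i : Nat) : Nat := Bool.rec (eT1977 i) (eT1980 i) (Nat.ble 2030592 i)
noncomputable def eT1982 (i : Nat) : Nat := Bool.rec (eL1988 i) (eL1989 i) (Nat.ble 2036736 i)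
noncomputable def eT1983 (i : Nat) : Nat := Bool.rec (eL1987 i) (eT1982 i) (Nat.ble 2035712 i)
noncomputable def eT1984 (i : Nat) : Nat := Bool.rec (eL1990 i) (eL1991 i) (Nat.ble 2038784 i)
noncomputable def eT1985 (i : Nat) : Nat := Bool.rec (eL1992 i) (eL1993 i) (Nat.ble 2040832 i)
noncomputable def eT1986 (i : Nat) : Nat := Bool.rec (eT1984 i) (eT1985 i) (Nat.ble 2039808 i)
noncomputable def eT1987 (i : Nat) : Nat := Bool.rec (eT1983 i) (eT1986 i) (Nat.ble 2037760 i)
noncomputable def eT1988 (i : Nat) : Nat := Bool.rec (eT1981 i) (eT1987 i) (Nat.ble 2034688 i)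
noncomputable def eT1989 (i : Nat) : Nat := Bool.rec (eT1975 i) (eT1988 i) (Nat.ble 2027520 i)
noncomputable def eT1990 (i : Nat) : Nat := Bool.rec (eL1995 i) (eL1996 i) (Nat.ble 2043904 i)
noncomputable def eT1991 (i : Nat) : Nat := Bool.rec (eL1994 i) (eT1990 i) (Nat.ble 2042880 i)
noncomputable def eT1992 (i : Nat) : Nat := Bool.rec (eL1997 i) (eL1998 i) (Nat.ble 2045952 i)
noncomputable def eT1993 (i : Nat) : Nat := Bool.rec (eL1999 i) (eL2000 i) (Nat.ble 2048000 i)
noncomputable def eT1994 (i : Nat) : Nat := Bool.rec (eT1992 i) (eT1993 i) (Nat.ble 2046976 i)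
noncomputable def eT1995 (i : Nat) : Nat := Bool.rec (eT1991 i) (eT1994 i) (Nat.ble 2044928 i)
noncomputable def eT1996 (i : Nat) : Nat := Bool.rec (eL2002 i) (eL2003 i) (Nat.ble 2051072 i)
noncomputable def eT1997 (i : Nat) : Nat := Bool.rec (eL2001 i) (eT1996 i) (Nat.ble 2050048 i)
noncomputable def eT1998 (i : Nat) : Nat := Bool.rec (eL2004 i) (eL2005 i) (Nat.ble 2053120 i)
noncomputable def eT1999 (i : Nat) : Nat := Bool.rec (eL2006 i) (eL2007 i) (Nat.ble 2055168 i)
noncomputable def eT2000 (i : Nat) : Nat := Bool.rec (eT1998 i) (eT1999 i) (Nat.ble 2054144 i)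
noncomputable def eT2001 (i : Nat) : Nat := Bool.rec (eT1997 i) (eT2000 i) (Nat.ble 2052096 i)
noncomputable def eT2002 (i : Nat) : Nat := Bool.rec (eT1995 i) (eT2001 i) (Nat.ble 2049024 i)
noncomputable def eT2003 (i : Nat) : Nat := Bool.rec (eL2009 i) (eL2010 i) (Nat.ble 2058240 i)
noncomputable def eT2004 (i : Nat) : Nat := Bool.rec (eL2008 i) (eT2003 i) (Nat.ble 2057216 i)
noncomputable def eT2005 (i : Nat) : Nat := Bool.rec (eL2011 i) (eL2012 i) (Nat.ble 2060288 i)
noncomputable def eT2006 (i : Nat) : Nat := Bool.rec (eL2013 i) (eL2014 i) (Nat.ble 2062336 i)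
noncomputable def eT2007 (i : Nat) : Nat := Bool.rec (eT2005 i) (eT2006 i) (Nat.ble 2061312 i)
noncomputable def eT2008 (i : Nat) : Nat := Bool.rec (eT2004 i) (eT2007 i) (Nat.ble 2059264 i)
noncomputable def eT2009 (i : Nat) : Nat := Bool.rec (eL2016 i) (eL2017 i) (Nat.ble 2065408 i)
noncomputable def eT2010 (i : Nat) : Nat := Bool.rec (eL2015 i) (eT2009 i) (Nat.ble 2064384 i)
noncomputable def eT2011 (i : Nat) : Nat := Bool.rec (eL2018 i) (eL2019 i) (Nat.ble 2067456 i)
noncomputable def eT2012 (i : Nat) : Nat := Bool.rec (eL2020 i) (eL2021 i) (Nat.ble 2069504 i)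
noncomputable def eT2013 (i : Nat) : Nat := Bool.rec (eT2011 i) (eT2012 i) (Nat.ble 2068480 i)
noncomputable def eT2014 (i : Nat) : Nat := Bool.rec (eT2010 i) (eT2013 i) (Nat.ble 2066432 i)
noncomputable def eT2015 (i : Nat) : Nat := Bool.rec (eT2008 i) (eT2014 i) (Nat.ble 2063360 i)
noncomputable def eT2016 (i : Nat) : Nat := Bool.rec (eT2002 i) (eT2015 i) (Nat.ble 2056192 i)
noncomputable def eT2017 (i : Nat) : Nat := Bool.rec (eT1989 i) (eT2016 i) (Nat.ble 2041856 i)
noncomputable def eT2018 (i : Nat) : Nat := Bool.rec (eT1962 i) (eT2017 i) (Nat.ble 2013184 i)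
noncomputable def eT2019 (i : Nat) : Nat := Bool.rec (eT1907 i) (eT2018 i) (Nat.ble 1955840 i)
noncomputable def eT2020 (i : Nat) : Nat := Bool.rec (eL2023 i) (eL2024 i) (Nat.ble 2072576 i)
noncomputable def eT2021 (i : Nat) : Nat := Bool.rec (eL2022 i) (eT2020 i) (Nat.ble 2071552 i)
noncomputable def eT2022 (i : Nat) : Nat := Bool.rec (eL2025 i) (eL2026 i) (Nat.ble 2074624 i)
noncomputable def eT2023 (i : Nat) : Nat := Bool.rec (eL2027 i) (eL2028 i) (Nat.ble 2076672 i)
noncomputable def eT2024 (i : Nat) : Nat := Bool.rec (eT2022 i) (eT2023 i) (Nat.ble 2075648 i)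
noncomputable def eT2025 (i : Nat) : Nat := Bool.rec (eT2021 i) (eT2024 i) (Nat.ble 2073600 i)
noncomputable def eT2026 (i : Nat) : Nat := Bool.rec (eL2030 i) (eL2031 i) (Nat.ble 2079744 i)
noncomputable def eT2027 (i : Nat) : Nat := Bool.rec (eL2029 i) (eT2026 i) (Nat.ble 2078720 i)
noncomputable def eT2028 (i : Nat) : Nat := Bool.rec (eL2032 i) (eL2033 i) (Nat.ble 2081792 i)
noncomputable def eT2029 (i : Nat) : Nat := Bool.rec (eL2034 i) (eL2035 i) (Nat.ble 2083840 i)
noncomputable def eT2030 (i : Nat) : Nat := Bool.rec (eT2028 i) (eT2029 i) (Nat.ble 2082816 i)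
noncomputable def eT2031 (i : Nat) : Nat := Bool.rec (eT2027 i) (eT2030 i) (Nat.ble 2080768 i)
noncomputable def eT2032 (i : Nat) : Nat := Bool.rec (eT2025 i) (eT2031 i) (Nat.ble 2077696 i)
noncomputable def eT2033 (i : Nat) : Nat := Bool.rec (eL2037 i) (eL2038 i) (Nat.ble 2086912 i)
noncomputable def eT2034 (i : Nat) : Nat := Bool.rec (eL2036 i) (eT2033 i) (Nat.ble 2085888 i)
noncomputable def eT2035 (i : Nat) : Nat := Bool.rec (eL2039 i) (eL2040 i) (Nat.ble 2088960 i)
noncomputable def eT2036 (i : Nat) : Nat := Bool.rec (eL2041 i) (eL2042 i) (Nat.ble 2091008 i)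
noncomputable def eT2037 (i : Nat) : Nat := Bool.rec (eT2035 i) (eT2036 i) (Nat.ble 2089984 i)
noncomputable def eT2038 (i : Nat) : Nat := Bool.rec (eT2034 i) (eT2037 i) (Nat.ble 2087936 i)
noncomputable def eT2039 (i : Nat) : Nat := Bool.rec (eL2044 i) (eL2045 i) (Nat.ble 2094080 i)
noncomputable def eT2040 (i : Nat) : Nat := Bool.rec (eL2043 i) (eT2039 i) (Nat.ble 2093056 i)
noncomputable def eT2041 (i : Nat) : Nat := Bool.rec (eL2046 i) (eL2047 i) (Nat.ble 2096128 i)
noncomputable def eT2042 (i : Nat) : Nat := Bool.rec (eL2048 i) (eL2049 i) (Nat.ble 2098176 i)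
noncomputable def eT2043 (i : Nat) : Nat := Bool.rec (eT2041 i) (eT2042 i) (Nat.ble 2097152 i)
noncomputable def eT2044 (i : Nat) : Nat := Bool.rec (eT2040 i) (eT2043 i) (Nat.ble 2095104 i)
noncomputable def eT2045 (i : Nat) : Nat := Bool.rec (eT2038 i) (eT2044 i) (Nat.ble 2092032 i)
noncomputable def eT2046 (i : Nat) : Nat := Bool.rec (eT2032 i) (eT2045 i) (Nat.ble 2084864 i)
noncomputable def eT2047 (i : Nat) : Nat := Bool.rec (eL2051 i) (eL2052 i) (Nat.ble 2101248 i)
noncomputable def eT2048 (i : Nat) : Nat := Bool.rec (eL2050 i) (eT2047 i) (Nat.ble 2100224 i)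
noncomputable def eT2049 (i : Nat) : Nat := Bool.rec (eL2053 i) (eL2054 i) (Nat.ble 2103296 i)
noncomputable def eT2050 (i : Nat) : Nat := Bool.rec (eL2055 i) (eL2056 i) (Nat.ble 2105344 i)
noncomputable def eT2051 (i : Nat) : Nat := Bool.rec (eT2049 i) (eT2050 i) (Nat.ble 2104320 i)
noncomputable def eT2052 (i : Nat) : Nat := Bool.rec (eT2048 i) (eT2051 i) (Nat.ble 2102272 i)
noncomputable def eT2053 (i : Nat) : Nat := Bool.rec (eL2058 i) (eL2059 i) (Nat.ble 2108416 i)
noncomputable def eT2054 (i : Nat) : Nat := Bool.rec (eL2057 i) (eT2053 i) (Nat.ble 2107392 i)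
noncomputable def eT2055 (i : Nat) : Nat := Bool.rec (eL2060 i) (eL2061 i) (Nat.ble 2110464 i)
noncomputable def eT2056 (i : Nat) : Nat := Bool.rec (eL2062 i) (eL2063 i) (Nat.ble 2112512 i)
noncomputable def eT2057 (i : Nat) : Nat := Bool.rec (eT2055 i) (eT2056 i) (Nat.ble 2111488 i)
noncomputable def eT2058 (i : Nat) : Nat := Bool.rec (eT2054 i) (eT2057 i) (Nat.ble 2109440 i)
noncomputable def eT2059 (i : Nat) : Nat := Bool.rec (eT2052 i) (eT2058 i) (Nat.ble 2106368 i)
noncomputable def eT2060 (i : Nat) : Nat := Bool.rec (eL2065 i) (eL2066 i) (Nat.ble 2115584 i)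
noncomputable def eT2061 (i : Nat) : Nat := Bool.rec (eL2064 i) (eT2060 i) (Nat.ble 2114560 i)
noncomputable def eT2062 (i : Nat) : Nat := Bool.rec (eL2067 i) (eL2068 i) (Nat.ble 2117632 i)
noncomputable def eT2063 (i : Nat) : Nat := Bool.rec (eL2069 i) (eL2070 i) (Nat.ble 2119680 i)
noncomputable def eT2064 (i : Nat) : Nat := Bool.rec (eT2062 i) (eT2063 i) (Nat.ble 2118656 i)
noncomputable def eT2065 (i : Nat) : Nat := Bool.rec (eT2061 i) (eT2064 i) (Nat.ble 2116608 i)
noncomputable def eT2066 (i : Nat) : Nat := Bool.rec (eL2072 i) (eL2073 i) (Nat.ble 2122752 i)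
noncomputable def eT2067 (i : Nat) : Nat := Bool.rec (eL2071 i) (eT2066 i) (Nat.ble 2121728 i)
noncomputable def eT2068 (i : Nat) : Nat := Bool.rec (eL2074 i) (eL2075 i) (Nat.ble 2124800 i)
noncomputable def eT2069 (i : Nat) : Nat := Bool.rec (eL2076 i) (eL2077 i) (Nat.ble 2126848 i)
noncomputable def eT2070 (i : Nat) : Nat := Bool.rec (eT2068 i) (eT2069 i) (Nat.ble 2125824 i)
noncomputable def eT2071 (i : Nat) : Nat := Bool.rec (eT2067 i) (eT2070 i) (Nat.ble 2123776 i)
noncomputable def eT2072 (i : Nat) : Nat := Bool.rec (eT2065 i) (eT2071 i) (Nat.ble 2120704 i)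
noncomputable def eT2073 (i : Nat) : Nat := Bool.rec (eT2059 i) (eT2072 i) (Nat.ble 2113536 i)
noncomputable def eT2074 (i : Nat) : Nat := Bool.rec (eT2046 i) (eT2073 i) (Nat.ble 2099200 i)
noncomputable def eT2075 (i : Nat) : Nat := Bool.rec (eL2079 i) (eL2080 i) (Nat.ble 2129920 i)
noncomputable def eT2076 (i : Nat) : Nat := Bool.rec (eL2078 i) (eT2075 i) (Nat.ble 2128896 i)
noncomputable def eT2077 (i : Nat) : Nat := Bool.rec (eL2081 i) (eL2082 i) (Nat.ble 2131968 i)
noncomputable def eT2078 (i : Nat) : Nat := Bool.rec (eL2083 i) (eL2084 i) (Nat.ble 2134016 i)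
noncomputable def eT2079 (i : Nat) : Nat := Bool.rec (eT2077 i) (eT2078 i) (Nat.ble 2132992 i)
noncomputable def eT2080 (i : Nat) : Nat := Bool.rec (eT2076 i) (eT2079 i) (Nat.ble 2130944 i)
noncomputable def eT2081 (i : Nat) : Nat := Bool.rec (eL2086 i) (eL2087 i) (Nat.ble 2137088 i)
noncomputable def eT2082 (i : Nat) : Nat := Bool.rec (eL2085 i) (eT2081 i) (Nat.ble 2136064 i)
noncomputable def eT2083 (i : Nat) : Nat := Bool.rec (eL2088 i) (eL2089 i) (Nat.ble 2139136 i)
noncomputable def eT2084 (i : Nat) : Nat := Bool.rec (eL2090 i) (eL2091 i) (Nat.ble 2141184 i)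
noncomputable def eT2085 (i : Nat) : Nat := Bool.rec (eT2083 i) (eT2084 i) (Nat.ble 2140160 i)
noncomputable def eT2086 (i : Nat) : Nat := Bool.rec (eT2082 i) (eT2085 i) (Nat.ble 2138112 i)
noncomputable def eT2087 (i : Nat) : Nat := Bool.rec (eT2080 i) (eT2086 i) (Nat.ble 2135040 i)
noncomputable def eT2088 (i : Nat) : Nat := Bool.rec (eL2093 i) (eL2094 i) (Nat.ble 2144256 i)
noncomputable def eT2089 (i : Nat) : Nat := Bool.rec (eL2092 i) (eT2088 i) (Nat.ble 2143232 i)
noncomputable def eT2090 (i : Nat) : Nat := Bool.rec (eL2095 i) (eL2096 i) (Nat.ble 2146304 i)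
noncomputable def eT2091 (i : Nat) : Nat := Bool.rec (eL2097 i) (eL2098 i) (Nat.ble 2148352 i)
noncomputable def eT2092 (i : Nat) : Nat := Bool.rec (eT2090 i) (eT2091 i) (Nat.ble 2147328 i)
noncomputable def eT2093 (i : Nat) : Nat := Bool.rec (eT2089 i) (eT2092 i) (Nat.ble 2145280 i)
noncomputable def eT2094 (i : Nat) : Nat := Bool.rec (eL2100 i) (eL2101 i) (Nat.ble 2151424 i)
noncomputable def eT2095 (i : Nat) : Nat := Bool.rec (eL2099 i) (eT2094 i) (Nat.ble 2150400 i)
noncomputable def eT2096 (i : Nat) : Nat := Bool.rec (eL2102 i) (eL2103 i) (Nat.ble 2153472 i)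
noncomputable def eT2097 (i : Nat) : Nat := Bool.rec (eL2104 i) (eL2105 i) (Nat.ble 2155520 i)
noncomputable def eT2098 (i : Nat) : Nat := Bool.rec (eT2096 i) (eT2097 i) (Nat.ble 2154496 i)
noncomputable def eT2099 (i : Nat) : Nat := Bool.rec (eT2095 i) (eT2098 i) (Nat.ble 2152448 i)
noncomputable def eT2100 (i : Nat) : Nat := Bool.rec (eT2093 i) (eT2099 i) (Nat.ble 2149376 i)
noncomputable def eT2101 (i : Nat) : Nat := Bool.rec (eT2087 i) (eT2100 i) (Nat.ble 2142208 i)
noncomputable def eT2102 (i : Nat) : Nat := Bool.rec (eL2107 i) (eL2108 i) (Nat.ble 2158592 i)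
noncomputable def eT2103 (i : Nat) : Nat := Bool.rec (eL2106 i) (eT2102 i) (Nat.ble 2157568 i)
noncomputable def eT2104 (i : Nat) : Nat := Bool.rec (eL2109 i) (eL2110 i) (Nat.ble 2160640 i)
noncomputable def eT2105 (i : Nat) : Nat := Bool.rec (eL2111 i) (eL2112 i) (Nat.ble 2162688 i)
noncomputable def eT2106 (i : Nat) : Nat := Bool.rec (eT2104 i) (eT2105 i) (Nat.ble 2161664 i)
noncomputable def eT2107 (i : Nat) : Nat := Bool.rec (eT2103 i) (eT2106 i) (Nat.ble 2159616 i)
noncomputable def eT2108 (i : Nat) : Nat := Bool.rec (eL2114 i) (eL2115 i) (Nat.ble 2165760 i)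
noncomputable def eT2109 (i : Nat) : Nat := Bool.rec (eL2113 i) (eT2108 i) (Nat.ble 2164736 i)
noncomputable def eT2110 (i : Nat) : Nat := Bool.rec (eL2116 i) (eL2117 i) (Nat.ble 2167808 i)
noncomputable def eT2111 (i : Nat) : Nat := Bool.rec (eL2118 i) (eL2119 i) (Nat.ble 2169856 i)
noncomputable def eT2112 (i : Nat) : Nat := Bool.rec (eT2110 i) (eT2111 i) (Nat.ble 2168832 i)
noncomputable def eT2113 (i : Nat) : Nat := Bool.rec (eT2109 i) (eT2112 i) (Nat.ble 2166784 i)
noncomputable def eT2114 (i : Nat) : Nat := Bool.rec (eT2107 i) (eT2113 i) (Nat.ble 2163712 i)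
noncomputable def eT2115 (i : Nat) : Nat := Bool.rec (eL2121 i) (eL2122 i) (Nat.ble 2172928 i)
noncomputable def eT2116 (i : Nat) : Nat := Bool.rec (eL2120 i) (eT2115 i) (Nat.ble 2171904 i)
noncomputable def eT2117 (i : Nat) : Nat := Bool.rec (eL2123 i) (eL2124 i) (Nat.ble 2174976 i)
noncomputable def eT2118 (i : Nat) : Nat := Bool.rec (eL2125 i) (eL2126 i) (Nat.ble 2177024 i)
noncomputable def eT2119 (i : Nat) : Nat := Bool.rec (eT2117 i) (eT2118 i) (Nat.ble 2176000 i)
noncomputable def eT2120 (i : Nat) : Nat := Bool.rec (eT2116 i) (eT2119 i) (Nat.ble 2173952 i)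
noncomputable def eT2121 (i : Nat) : Nat := Bool.rec (eL2128 i) (eL2129 i) (Nat.ble 2180096 i)
noncomputable def eT2122 (i : Nat) : Nat := Bool.rec (eL2127 i) (eT2121 i) (Nat.ble 2179072 i)
noncomputable def eT2123 (i : Nat) : Nat := Bool.rec (eL2130 i) (eL2131 i) (Nat.ble 2182144 i)
noncomputable def eT2124 (i : Nat) : Nat := Bool.rec (eL2132 i) (eL2133 i) (Nat.ble 2184192 i)
noncomputable def eT2125 (i : Nat) : Nat := Bool.rec (eT2123 i) (eT2124 i) (Nat.ble 2183168 i)
noncomputable def eT2126 (i : Nat) : Nat := Bool.rec (eT2122 i) (eT2125 i) (Nat.ble 2181120 i)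
noncomputable def eT2127 (i : Nat) : Nat := Bool.rec (eT2120 i) (eT2126 i) (Nat.ble 2178048 i)
noncomputable def eT2128 (i : Nat) : Nat := Bool.rec (eT2114 i) (eT2127 i) (Nat.ble 2170880 i)
noncomputable def eT2129 (i : Nat) : Nat := Bool.rec (eT2101 i) (eT2128 i) (Nat.ble 2156544 i)
noncomputable def eT2130 (i : Nat) : Nat := Bool.rec (eT2074 i) (eT2129 i) (Nat.ble 2127872 i)
noncomputable def eT2131 (i : Nat) : Nat := Bool.rec (eL2135 i) (eL2136 i) (Nat.ble 2187264 i)
noncomputable def eT2132 (i : Nat) : Nat := Bool.rec (eL2134 i) (eT2131 i) (Nat.ble 2186240 i)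
noncomputable def eT2133 (i : Nat) : Nat := Bool.rec (eL2137 i) (eL2138 i) (Nat.ble 2189312 i)
noncomputable def eT2134 (i : Nat) : Nat := Bool.rec (eL2139 i) (eL2140 i) (Nat.ble 2191360 i)
noncomputable def eT2135 (i : Nat) : Nat := Bool.rec (eT2133 i) (eT2134 i) (Nat.ble 2190336 i)
noncomputable def eT2136 (i : Nat) : Nat := Bool.rec (eT2132 i) (eT2135 i) (Nat.ble 2188288 i)
noncomputable def eT2137 (i : Nat) : Nat := Bool.rec (eL2142 i) (eL2143 i) (Nat.ble 2194432 i)
noncomputable def eT2138 (i : Nat) : Nat := Bool.rec (eL2141 i) (eT2137 i) (Nat.ble 2193408 i)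
noncomputable def eT2139 (i : Nat) : Nat := Bool.rec (eL2144 i) (eL2145 i) (Nat.ble 2196480 i)
noncomputable def eT2140 (i : Nat) : Nat := Bool.rec (eL2146 i) (eL2147 i) (Nat.ble 2198528 i)
noncomputable def eT2141 (i : Nat) : Nat := Bool.rec (eT2139 i) (eT2140 i) (Nat.ble 2197504 i)
noncomputable def eT2142 (i : Nat) : Nat := Bool.rec (eT2138 i) (eT2141 i) (Nat.ble 2195456 i)
noncomputable def eT2143 (i : Nat) : Nat := Bool.rec (eT2136 i) (eT2142 i) (Nat.ble 2192384 i)
noncomputable def eT2144 (i : Nat) : Nat := Bool.rec (eL2149 i) (eL2150 i) (Nat.ble 2201600 i)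
noncomputable def eT2145 (i : Nat) : Nat := Bool.rec (eL2148 i) (eT2144 i) (Nat.ble 2200576 i)
noncomputable def eT2146 (i : Nat) : Nat := Bool.rec (eL2151 i) (eL2152 i) (Nat.ble 2203648 i)
noncomputable def eT2147 (i : Nat) : Nat := Bool.rec (eL2153 i) (eL2154 i) (Nat.ble 2205696 i)
noncomputable def eT2148 (i : Nat) : Nat := Bool.rec (eT2146 i) (eT2147 i) (Nat.ble 2204672 i)
noncomputable def eT2149 (i : Nat) : Nat := Bool.rec (eT2145 i) (eT2148 i) (Nat.ble 2202624 i)
noncomputable def eT2150 (i : Nat) : Nat := Bool.rec (eL2156 i) (eL2157 i) (Nat.ble 2208768 i)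
noncomputable def eT2151 (i : Nat) : Nat := Bool.rec (eL2155 i) (eT2150 i) (Nat.ble 2207744 i)
noncomputable def eT2152 (i : Nat) : Nat := Bool.rec (eL2158 i) (eL2159 i) (Nat.ble 2210816 i)
noncomputable def eT2153 (i : Nat) : Nat := Bool.rec (eL2160 i) (eL2161 i) (Nat.ble 2212864 i)
noncomputable def eT2154 (i : Nat) : Nat := Bool.rec (eT2152 i) (eT2153 i) (Nat.ble 2211840 i)
noncomputable def eT2155 (i : Nat) : Nat := Bool.rec (eT2151 i) (eT2154 i) (Nat.ble 2209792 i)
noncomputable def eT2156 (i : Nat) : Nat := Bool.rec (eT2149 i) (eT2155 i) (Nat.ble 2206720 i)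
noncomputable def eT2157 (i : Nat) : Nat := Bool.rec (eT2143 i) (eT2156 i) (Nat.ble 2199552 i)
noncomputable def eT2158 (i : Nat) : Nat := Bool.rec (eL2163 i) (eL2164 i) (Nat.ble 2215936 i)
noncomputable def eT2159 (i : Nat) : Nat := Bool.rec (eL2162 i) (eT2158 i) (Nat.ble 2214912 i)
noncomputable def eT2160 (i : Nat) : Nat := Bool.rec (eL2165 i) (eL2166 i) (Nat.ble 2217984 i)
noncomputable def eT2161 (i : Nat) : Nat := Bool.rec (eL2167 i) (eL2168 i) (Nat.ble 2220032 i)
noncomputable def eT2162 (i : Nat) : Nat := Bool.rec (eT2160 i) (eT2161 i) (Nat.ble 2219008 i)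
noncomputable def eT2163 (i : Nat) : Nat := Bool.rec (eT2159 i) (eT2162 i) (Nat.ble 2216960 i)
noncomputable def eT2164 (i : Nat) : Nat := Bool.rec (eL2170 i) (eL2171 i) (Nat.ble 2223104 i)
noncomputable def eT2165 (i : Nat) : Nat := Bool.rec (eL2169 i) (eT2164 i) (Nat.ble 2222080 i)
noncomputable def eT2166 (i : Nat) : Nat := Bool.rec (eL2172 i) (eL2173 i) (Nat.ble 2225152 i)
noncomputable def eT2167 (i : Nat) : Nat := Bool.rec (eL2174 i) (eL2175 i) (Nat.ble 2227200 i)
noncomputable def eT2168 (i : Nat) : Nat := Bool.rec (eT2166 i) (eT2167 i) (Nat.ble 2226176 i)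
noncomputable def eT2169 (i : Nat) : Nat := Bool.rec (eT2165 i) (eT2168 i) (Nat.ble 2224128 i)
noncomputable def eT2170 (i : Nat) : Nat := Bool.rec (eT2163 i) (eT2169 i) (Nat.ble 2221056 i)
noncomputable def eT2171 (i : Nat) : Nat := Bool.rec (eL2177 i) (eL2178 i) (Nat.ble 2230272 i)
noncomputable def eT2172 (i : Nat) : Nat := Bool.rec (eL2176 i) (eT2171 i) (Nat.ble 2229248 i)
noncomputable def eT2173 (i : Nat) : Nat := Bool.rec (eL2179 i) (eL2180 i) (Nat.ble 2232320 i)
noncomputable def eT2174 (i : Nat) : Nat := Bool.rec (eL2181 i) (eL2182 i) (Nat.ble 2234368 i)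
noncomputable def eT2175 (i : Nat) : Nat := Bool.rec (eT2173 i) (eT2174 i) (Nat.ble 2233344 i)
noncomputable def eT2176 (i : Nat) : Nat := Bool.rec (eT2172 i) (eT2175 i) (Nat.ble 2231296 i)
noncomputable def eT2177 (i : Nat) : Nat := Bool.rec (eL2184 i) (eL2185 i) (Nat.ble 2237440 i)
noncomputable def eT2178 (i : Nat) : Nat := Bool.rec (eL2183 i) (eT2177 i) (Nat.ble 2236416 i)
noncomputable def eT2179 (i : Nat) : Nat := Bool.rec (eL2186 i) (eL2187 i) (Nat.ble 2239488 i)
noncomputable def eT2180 (i : Nat) : Nat := Bool.rec (eL2188 i) (eL2189 i) (Nat.ble 2241536 i)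
noncomputable def eT2181 (i : Nat) : Nat := Bool.rec (eT2179 i) (eT2180 i) (Nat.ble 2240512 i)
noncomputable def eT2182 (i : Nat) : Nat := Bool.rec (eT2178 i) (eT2181 i) (Nat.ble 2238464 i)
noncomputable def eT2183 (i : Nat) : Nat := Bool.rec (eT2176 i) (eT2182 i) (Nat.ble 2235392 i)
noncomputable def eT2184 (i : Nat) : Nat := Bool.rec (eT2170 i) (eT2183 i) (Nat.ble 2228224 i)
noncomputable def eT2185 (i : Nat) : Nat := Bool.rec (eT2157 i) (eT2184 i) (Nat.ble 2213888 i)
noncomputable def eT2186 (i : Nat) : Nat := Bool.rec (eL2191 i) (eL2192 i) (Nat.ble 2244608 i)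
noncomputable def eT2187 (i : Nat) : Nat := Bool.rec (eL2190 i) (eT2186 i) (Nat.ble 2243584 i)
noncomputable def eT2188 (i : Nat) : Nat := Bool.rec (eL2193 i) (eL2194 i) (Nat.ble 2246656 i)
noncomputable def eT2189 (i : Nat) : Nat := Bool.rec (eL2195 i) (eL2196 i) (Nat.ble 2248704 i)
noncomputable def eT2190 (i : Nat) : Nat := Bool.rec (eT2188 i) (eT2189 i) (Nat.ble 2247680 i)
noncomputable def eT2191 (i : Nat) : Nat := Bool.rec (eT2187 i) (eT2190 i) (Nat.ble 2245632 i)
noncomputable def eT2192 (i : Nat) : Nat := Bool.rec (eL2198 i) (eL2199 i) (Nat.ble 2251776 i)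
noncomputable def eT2193 (i : Nat) : Nat := Bool.rec (eL2197 i) (eT2192 i) (Nat.ble 2250752 i)
noncomputable def eT2194 (i : Nat) : Nat := Bool.rec (eL2200 i) (eL2201 i) (Nat.ble 2253824 i)
noncomputable def eT2195 (i : Nat) : Nat := Bool.rec (eL2202 i) (eL2203 i) (Nat.ble 2255872 i)
noncomputable def eT2196 (i : Nat) : Nat := Bool.rec (eT2194 i) (eT2195 i) (Nat.ble 2254848 i)
noncomputable def eT2197 (i : Nat) : Nat := Bool.rec (eT2193 i) (eT2196 i) (Nat.ble 2252800 i)
noncomputable def eT2198 (i : Nat) : Nat := Bool.rec (eT2191 i) (eT2197 i) (Nat.ble 2249728 i)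
noncomputable def eT2199 (i : Nat) : Nat := Bool.rec (eL2205 i) (eL2206 i) (Nat.ble 2258944 i)
noncomputable def eT2200 (i : Nat) : Nat := Bool.rec (eL2204 i) (eT2199 i) (Nat.ble 2257920 i)
noncomputable def eT2201 (i : Nat) : Nat := Bool.rec (eL2207 i) (eL2208 i) (Nat.ble 2260992 i)
noncomputable def eT2202 (i : Nat) : Nat := Bool.rec (eL2209 i) (eL2210 i) (Nat.ble 2263040 i)
noncomputable def eT2203 (i : Nat) : Nat := Bool.rec (eT2201 i) (eT2202 i) (Nat.ble 2262016 i)
noncomputable def eT2204 (i : Nat) : Nat := Bool.rec (eT2200 i) (eT2203 i) (Nat.ble 2259968 i)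
noncomputable def eT2205 (i : Nat) : Nat := Bool.rec (eL2212 i) (eL2213 i) (Nat.ble 2266112 i)
noncomputable def eT2206 (i : Nat) : Nat := Bool.rec (eL2211 i) (eT2205 i) (Nat.ble 2265088 i)
noncomputable def eT2207 (i : Nat) : Nat := Bool.rec (eL2214 i) (eL2215 i) (Nat.ble 2268160 i)
noncomputable def eT2208 (i : Nat) : Nat := Bool.rec (eL2216 i) (eL2217 i) (Nat.ble 2270208 i)
noncomputable def eT2209 (i : Nat) : Nat := Bool.rec (eT2207 i) (eT2208 i) (Nat.ble 2269184 i)
noncomputable def eT2210 (i : Nat) : Nat := Bool.rec (eT2206 i) (eT2209 i) (Nat.ble 2267136 i)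
noncomputable def eT2211 (i : Nat) : Nat := Bool.rec (eT2204 i) (eT2210 i) (Nat.ble 2264064 i)
noncomputable def eT2212 (i : Nat) : Nat := Bool.rec (eT2198 i) (eT2211 i) (Nat.ble 2256896 i)
noncomputable def eT2213 (i : Nat) : Nat := Bool.rec (eL2219 i) (eL2220 i) (Nat.ble 2273280 i)
noncomputable def eT2214 (i : Nat) : Nat := Bool.rec (eL2218 i) (eT2213 i) (Nat.ble 2272256 i)
noncomputable def eT2215 (i : Nat) : Nat := Bool.rec (eL2221 i) (eL2222 i) (Nat.ble 2275328 i)
noncomputable def eT2216 (i : Nat) : Nat := Bool.rec (eL2223 i) (eL2224 i) (Nat.ble 2277376 i)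
noncomputable def eT2217 (i : Nat) : Nat := Bool.rec (eT2215 i) (eT2216 i) (Nat.ble 2276352 i)
noncomputable def eT2218 (i : Nat) : Nat := Bool.rec (eT2214 i) (eT2217 i) (Nat.ble 2274304 i)
noncomputable def eT2219 (i : Nat) : Nat := Bool.rec (eL2226 i) (eL2227 i) (Nat.ble 2280448 i)
noncomputable def eT2220 (i : Nat) : Nat := Bool.rec (eL2225 i) (eT2219 i) (Nat.ble 2279424 i)
noncomputable def eT2221 (i : Nat) : Nat := Bool.rec (eL2228 i) (eL2229 i) (Nat.ble 2282496 i)
noncomputable def eT2222 (i : Nat) : Nat := Bool.rec (eL2230 i) (eL2231 i) (Nat.ble 2284544 i)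
noncomputable def eT2223 (i : Nat) : Nat := Bool.rec (eT2221 i) (eT2222 i) (Nat.ble 2283520 i)
noncomputable def eT2224 (i : Nat) : Nat := Bool.rec (eT2220 i) (eT2223 i) (Nat.ble 2281472 i)
noncomputable def eT2225 (i : Nat) : Nat := Bool.rec (eT2218 i) (eT2224 i) (Nat.ble 2278400 i)
noncomputable def eT2226 (i : Nat) : Nat := Bool.rec (eL2233 i) (eL2234 i) (Nat.ble 2287616 i)
noncomputable def eT2227 (i : Nat) : Nat := Bool.rec (eL2232 i) (eT2226 i) (Nat.ble 2286592 i)
noncomputable def eT2228 (i : Nat) : Nat := Bool.rec (eL2235 i) (eL2236 i) (Nat.ble 2289664 i)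
noncomputable def eT2229 (i : Nat) : Nat := Bool.rec (eL2237 i) (eL2238 i) (Nat.ble 2291712 i)
noncomputable def eT2230 (i : Nat) : Nat := Bool.rec (eT2228 i) (eT2229 i) (Nat.ble 2290688 i)
noncomputable def eT2231 (i : Nat) : Nat := Bool.rec (eT2227 i) (eT2230 i) (Nat.ble 2288640 i)
noncomputable def eT2232 (i : Nat) : Nat := Bool.rec (eL2239 i) (eL2240 i) (Nat.ble 2293760 i)
noncomputable def eT2233 (i : Nat) : Nat := Bool.rec (eL2241 i) (eL2242 i) (Nat.ble 2295808 i)
noncomputable def eT2234 (i : Nat) : Nat := Bool.rec (eT2232 i) (eT2233 i) (Nat.ble 2294784 i)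
noncomputable def eT2235 (i : Nat) : Nat := Bool.rec (eL2243 i) (eL2244 i) (Nat.ble 2297856 i)
noncomputable def eT2236 (i : Nat) : Nat := Bool.rec (eL2245 i) (eL2246 i) (Nat.ble 2299904 i)
noncomputable def eT2237 (i : Nat) : Nat := Bool.rec (eT2235 i) (eT2236 i) (Nat.ble 2298880 i)
noncomputable def eT2238 (i : Nat) : Nat := Bool.rec (eT2234 i) (eT2237 i) (Nat.ble 2296832 i)
noncomputable def eT2239 (i : Nat) : Nat := Bool.rec (eT2231 i) (eT2238 i) (Nat.ble 2292736 i)
noncomputable def eT2240 (i : Nat) : Nat := Bool.rec (eT2225 i) (eT2239 i) (Nat.ble 2285568 i)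
noncomputable def eT2241 (i : Nat) : Nat := Bool.rec (eT2212 i) (eT2240 i) (Nat.ble 2271232 i)
noncomputable def eT2242 (i : Nat) : Nat := Bool.rec (eT2185 i) (eT2241 i) (Nat.ble 2242560 i)
noncomputable def eT2243 (i : Nat) : Nat := Bool.rec (eT2130 i) (eT2242 i) (Nat.ble 2185216 i)
noncomputable def eT2244 (i : Nat) : Nat := Bool.rec (eT2019 i) (eT2243 i) (Nat.ble 2070528 i)
noncomputable def eT2245 (i : Nat) : Nat := Bool.rec (eL2248 i) (eL2249 i) (Nat.ble 2302976 i)
noncomputable def eT2246 (i : Nat) : Nat := Bool.rec (eL2247 i) (eT2245 i) (Nat.ble 2301952 i)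
noncomputable def eT2247 (i : Nat) : Nat := Bool.rec (eL2250 i) (eL2251 i) (Nat.ble 2305024 i)
noncomputable def eT2248 (i : Nat) : Nat := Bool.rec (eL2252 i) (eL2253 i) (Nat.ble 2307072 i)
noncomputable def eT2249 (i : Nat) : Nat := Bool.rec (eT2247 i) (eT2248 i) (Nat.ble 2306048 i)
noncomputable def eT2250 (i : Nat) : Nat := Bool.rec (eT2246 i) (eT2249 i) (Nat.ble 2304000 i)
noncomputable def eT2251 (i : Nat) : Nat := Bool.rec (eL2255 i) (eL2256 i) (Nat.ble 2310144 i)
noncomputable def eT2252 (i : Nat) : Nat := Bool.rec (eL2254 i) (eT2251 i) (Nat.ble 2309120 i)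
noncomputable def eT2253 (i : Nat) : Nat := Bool.rec (eL2257 i) (eL2258 i) (Nat.ble 2312192 i)
noncomputable def eT2254 (i : Nat) : Nat := Bool.rec (eL2259 i) (eL2260 i) (Nat.ble 2314240 i)
noncomputable def eT2255 (i : Nat) : Nat := Bool.rec (eT2253 i) (eT2254 i) (Nat.ble 2313216 i)
noncomputable def eT2256 (i : Nat) : Nat := Bool.rec (eT2252 i) (eT2255 i) (Nat.ble 2311168 i)
noncomputable def eT2257 (i : Nat) : Nat := Bool.rec (eT2250 i) (eT2256 i) (Nat.ble 2308096 i)
noncomputable def eT2258 (i : Nat) : Nat := Bool.rec (eL2262 i) (eL2263 i) (Nat.ble 2317312 i)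
noncomputable def eT2259 (i : Nat) : Nat := Bool.rec (eL2261 i) (eT2258 i) (Nat.ble 2316288 i)
noncomputable def eT2260 (i : Nat) : Nat := Bool.rec (eL2264 i) (eL2265 i) (Nat.ble 2319360 i)
noncomputable def eT2261 (i : Nat) : Nat := Bool.rec (eL2266 i) (eL2267 i) (Nat.ble 2321408 i)
noncomputable def eT2262 (i : Nat) : Nat := Bool.rec (eT2260 i) (eT2261 i) (Nat.ble 2320384 i)
noncomputable def eT2263 (i : Nat) : Nat := Bool.rec (eT2259 i) (eT2262 i) (Nat.ble 2318336 i)
noncomputable def eT2264 (i : Nat) : Nat := Bool.rec (eL2269 i) (eL2270 i) (Nat.ble 2324480 i)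
noncomputable def eT2265 (i : Nat) : Nat := Bool.rec (eL2268 i) (eT2264 i) (Nat.ble 2323456 i)
noncomputable def eT2266 (i : Nat) : Nat := Bool.rec (eL2271 i) (eL2272 i) (Nat.ble 2326528 i)
noncomputable def eT2267 (i : Nat) : Nat := Bool.rec (eL2273 i) (eL2274 i) (Nat.ble 2328576 i)
noncomputable def eT2268 (i : Nat) : Nat := Bool.rec (eT2266 i) (eT2267 i) (Nat.ble 2327552 i)
noncomputable def eT2269 (i : Nat) : Nat := Bool.rec (eT2265 i) (eT2268 i) (Nat.ble 2325504 i)
noncomputable def eT2270 (i : Nat) : Nat := Bool.rec (eT2263 i) (eT2269 i) (Nat.ble 2322432 i)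
noncomputable def eT2271 (i : Nat) : Nat := Bool.rec (eT2257 i) (eT2270 i) (Nat.ble 2315264 i)
noncomputable def eT2272 (i : Nat) : Nat := Bool.rec (eL2276 i) (eL2277 i) (Nat.ble 2331648 i)
noncomputable def eT2273 (i : Nat) : Nat := Bool.rec (eL2275 i) (eT2272 i) (Nat.ble 2330624 i)
noncomputable def eT2274 (i : Nat) : Nat := Bool.rec (eL2278 i) (eL2279 i) (Nat.ble 2333696 i)
noncomputable def eT2275 (i : Nat) : Nat := Bool.rec (eL2280 i) (eL2281 i) (Nat.ble 2335744 i)
noncomputable def eT2276 (i : Nat) : Nat := Bool.rec (eT2274 i) (eT2275 i) (Nat.ble 2334720 i)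
noncomputable def eT2277 (i : Nat) : Nat := Bool.rec (eT2273 i) (eT2276 i) (Nat.ble 2332672 i)
noncomputable def eT2278 (i : Nat) : Nat := Bool.rec (eL2283 i) (eL2284 i) (Nat.ble 2338816 i)
noncomputable def eT2279 (i : Nat) : Nat := Bool.rec (eL2282 i) (eT2278 i) (Nat.ble 2337792 i)
noncomputable def eT2280 (i : Nat) : Nat := Bool.rec (eL2285 i) (eL2286 i) (Nat.ble 2340864 i)
noncomputable def eT2281 (i : Nat) : Nat := Bool.rec (eL2287 i) (eL2288 i) (Nat.ble 2342912 i)
noncomputable def eT2282 (i : Nat) : Nat := Bool.rec (eT2280 i) (eT2281 i) (Nat.ble 2341888 i)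
noncomputable def eT2283 (i : Nat) : Nat := Bool.rec (eT2279 i) (eT2282 i) (Nat.ble 2339840 i)
noncomputable def eT2284 (i : Nat) : Nat := Bool.rec (eT2277 i) (eT2283 i) (Nat.ble 2336768 i)
noncomputable def eT2285 (i : Nat) : Nat := Bool.rec (eL2290 i) (eL2291 i) (Nat.ble 2345984 i)
noncomputable def eT2286 (i : Nat) : Nat := Bool.rec (eL2289 i) (eT2285 i) (Nat.ble 2344960 i)
noncomputable def eT2287 (i : Nat) : Nat := Bool.rec (eL2292 i) (eL2293 i) (Nat.ble 2348032 i)
noncomputable def eT2288 (i : Nat) : Nat := Bool.rec (eL2294 i) (eL2295 i) (Nat.ble 2350080 i)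
noncomputable def eT2289 (i : Nat) : Nat := Bool.rec (eT2287 i) (eT2288 i) (Nat.ble 2349056 i)
noncomputable def eT2290 (i : Nat) : Nat := Bool.rec (eT2286 i) (eT2289 i) (Nat.ble 2347008 i)
noncomputable def eT2291 (i : Nat) : Nat := Bool.rec (eL2297 i) (eL2298 i) (Nat.ble 2353152 i)
noncomputable def eT2292 (i : Nat) : Nat := Bool.rec (eL2296 i) (eT2291 i) (Nat.ble 2352128 i)
noncomputable def eT2293 (i : Nat) : Nat := Bool.rec (eL2299 i) (eL2300 i) (Nat.ble 2355200 i)
noncomputable def eT2294 (i : Nat) : Nat := Bool.rec (eL2301 i) (eL2302 i) (Nat.ble 2357248 i)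
noncomputable def eT2295 (i : Nat) : Nat := Bool.rec (eT2293 i) (eT2294 i) (Nat.ble 2356224 i)
noncomputable def eT2296 (i : Nat) : Nat := Bool.rec (eT2292 i) (eT2295 i) (Nat.ble 2354176 i)
noncomputable def eT2297 (i : Nat) : Nat := Bool.rec (eT2290 i) (eT2296 i) (Nat.ble 2351104 i)
noncomputable def eT2298 (i : Nat) : Nat := Bool.rec (eT2284 i) (eT2297 i) (Nat.ble 2343936 i)
noncomputable def eT2299 (i : Nat) : Nat := Bool.rec (eT2271 i) (eT2298 i) (Nat.ble 2329600 i)
noncomputable def eT2300 (i : Nat) : Nat := Bool.rec (eL2304 i) (eL2305 i) (Nat.ble 2360320 i)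
noncomputable def eT2301 (i : Nat) : Nat := Bool.rec (eL2303 i) (eT2300 i) (Nat.ble 2359296 i)
noncomputable def eT2302 (i : Nat) : Nat := Bool.rec (eL2306 i) (eL2307 i) (Nat.ble 2362368 i)
noncomputable def eT2303 (i : Nat) : Nat := Bool.rec (eL2308 i) (eL2309 i) (Nat.ble 2364416 i)
noncomputable def eT2304 (i : Nat) : Nat := Bool.rec (eT2302 i) (eT2303 i) (Nat.ble 2363392 i)
noncomputable def eT2305 (i : Nat) : Nat := Bool.rec (eT2301 i) (eT2304 i) (Nat.ble 2361344 i)
noncomputable def eT2306 (i : Nat) : Nat := Bool.rec (eL2311 i) (eL2312 i) (Nat.ble 2367488 i)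
noncomputable def eT2307 (i : Nat) : Nat := Bool.rec (eL2310 i) (eT2306 i) (Nat.ble 2366464 i)
noncomputable def eT2308 (i : Nat) : Nat := Bool.rec (eL2313 i) (eL2314 i) (Nat.ble 2369536 i)
noncomputable def eT2309 (i : Nat) : Nat := Bool.rec (eL2315 i) (eL2316 i) (Nat.ble 2371584 i)
noncomputable def eT2310 (i : Nat) : Nat := Bool.rec (eT2308 i) (eT2309 i) (Nat.ble 2370560 i)
noncomputable def eT2311 (i : Nat) : Nat := Bool.rec (eT2307 i) (eT2310 i) (Nat.ble 2368512 i)
noncomputable def eT2312 (i : Nat) : Nat := Bool.rec (eT2305 i) (eT2311 i) (Nat.ble 2365440 i)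
noncomputable def eT2313 (i : Nat) : Nat := Bool.rec (eL2318 i) (eL2319 i) (Nat.ble 2374656 i)
noncomputable def eT2314 (i : Nat) : Nat := Bool.rec (eL2317 i) (eT2313 i) (Nat.ble 2373632 i)
noncomputable def eT2315 (i : Nat) : Nat := Bool.rec (eL2320 i) (eL2321 i) (Nat.ble 2376704 i)
noncomputable def eT2316 (i : Nat) : Nat := Bool.rec (eL2322 i) (eL2323 i) (Nat.ble 2378752 i)
noncomputable def eT2317 (i : Nat) : Nat := Bool.rec (eT2315 i) (eT2316 i) (Nat.ble 2377728 i)
noncomputable def eT2318 (i : Nat) : Nat := Bool.rec (eT2314 i) (eT2317 i) (Nat.ble 2375680 i)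
noncomputable def eT2319 (i : Nat) : Nat := Bool.rec (eL2325 i) (eL2326 i) (Nat.ble 2381824 i)
noncomputable def eT2320 (i : Nat) : Nat := Bool.rec (eL2324 i) (eT2319 i) (Nat.ble 2380800 i)
noncomputable def eT2321 (i : Nat) : Nat := Bool.rec (eL2327 i) (eL2328 i) (Nat.ble 2383872 i)
noncomputable def eT2322 (i : Nat) : Nat := Bool.rec (eL2329 i) (eL2330 i) (Nat.ble 2385920 i)
noncomputable def eT2323 (i : Nat) : Nat := Bool.rec (eT2321 i) (eT2322 i) (Nat.ble 2384896 i)
noncomputable def eT2324 (i : Nat) : Nat := Bool.rec (eT2320 i) (eT2323 i) (Nat.ble 2382848 i)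
noncomputable def eT2325 (i : Nat) : Nat := Bool.rec (eT2318 i) (eT2324 i) (Nat.ble 2379776 i)
noncomputable def eT2326 (i : Nat) : Nat := Bool.rec (eT2312 i) (eT2325 i) (Nat.ble 2372608 i)
noncomputable def eT2327 (i : Nat) : Nat := Bool.rec (eL2332 i) (eL2333 i) (Nat.ble 2388992 i)
noncomputable def eT2328 (i : Nat) : Nat := Bool.rec (eL2331 i) (eT2327 i) (Nat.ble 2387968 i)
noncomputable def eT2329 (i : Nat) : Nat := Bool.rec (eL2334 i) (eL2335 i) (Nat.ble 2391040 i)
noncomputable def eT2330 (i : Nat) : Nat := Bool.rec (eL2336 i) (eL2337 i) (Nat.ble 2393088 i)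
noncomputable def eT2331 (i : Nat) : Nat := Bool.rec (eT2329 i) (eT2330 i) (Nat.ble 2392064 i)
noncomputable def eT2332 (i : Nat) : Nat := Bool.rec (eT2328 i) (eT2331 i) (Nat.ble 2390016 i)
noncomputable def eT2333 (i : Nat) : Nat := Bool.rec (eL2339 i) (eL2340 i) (Nat.ble 2396160 i)
noncomputable def eT2334 (i : Nat) : Nat := Bool.rec (eL2338 i) (eT2333 i) (Nat.ble 2395136 i)
noncomputable def eT2335 (i : Nat) : Nat := Bool.rec (eL2341 i) (eL2342 i) (Nat.ble 2398208 i)
noncomputable def eT2336 (i : Nat) : Nat := Bool.rec (eL2343 i) (eL2344 i) (Nat.ble 2400256 i)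
noncomputable def eT2337 (i : Nat) : Nat := Bool.rec (eT2335 i) (eT2336 i) (Nat.ble 2399232 i)
noncomputable def eT2338 (i : Nat) : Nat := Bool.rec (eT2334 i) (eT2337 i) (Nat.ble 2397184 i)
noncomputable def eT2339 (i : Nat) : Nat := Bool.rec (eT2332 i) (eT2338 i) (Nat.ble 2394112 i)
noncomputable def eT2340 (i : Nat) : Nat := Bool.rec (eL2346 i) (eL2347 i) (Nat.ble 2403328 i)
noncomputable def eT2341 (i : Nat) : Nat := Bool.rec (eL2345 i) (eT2340 i) (Nat.ble 2402304 i)
noncomputable def eT2342 (i : Nat) : Nat := Bool.rec (eL2348 i) (eL2349 i) (Nat.ble 2405376 i)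
noncomputable def eT2343 (i : Nat) : Nat := Bool.rec (eL2350 i) (eL2351 i) (Nat.ble 2407424 i)
noncomputable def eT2344 (i : Nat) : Nat := Bool.rec (eT2342 i) (eT2343 i) (Nat.ble 2406400 i)
noncomputable def eT2345 (i : Nat) : Nat := Bool.rec (eT2341 i) (eT2344 i) (Nat.ble 2404352 i)
noncomputable def eT2346 (i : Nat) : Nat := Bool.rec (eL2353 i) (eL2354 i) (Nat.ble 2410496 i)
noncomputable def eT2347 (i : Nat) : Nat := Bool.rec (eL2352 i) (eT2346 i) (Nat.ble 2409472 i)
noncomputable def eT2348 (i : Nat) : Nat := Bool.rec (eL2355 i) (eL2356 i) (Nat.ble 2412544 i)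
noncomputable def eT2349 (i : Nat) : Nat := Bool.rec (eL2357 i) (eL2358 i) (Nat.ble 2414592 i)
noncomputable def eT2350 (i : Nat) : Nat := Bool.rec (eT2348 i) (eT2349 i) (Nat.ble 2413568 i)
noncomputable def eT2351 (i : Nat) : Nat := Bool.rec (eT2347 i) (eT2350 i) (Nat.ble 2411520 i)
noncomputable def eT2352 (i : Nat) : Nat := Bool.rec (eT2345 i) (eT2351 i) (Nat.ble 2408448 i)
noncomputable def eT2353 (i : Nat) : Nat := Bool.rec (eT2339 i) (eT2352 i) (Nat.ble 2401280 i)
noncomputable def eT2354 (i : Nat) : Nat := Bool.rec (eT2326 i) (eT2353 i) (Nat.ble 2386944 i)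
noncomputable def eT2355 (i : Nat) : Nat := Bool.rec (eT2299 i) (eT2354 i) (Nat.ble 2358272 i)
noncomputable def eT2356 (i : Nat) : Nat := Bool.rec (eL2360 i) (eL2361 i) (Nat.ble 2417664 i)
noncomputable def eT2357 (i : Nat) : Nat := Bool.rec (eL2359 i) (eT2356 i) (Nat.ble 2416640 i)
noncomputable def eT2358 (i : Nat) : Nat := Bool.rec (eL2362 i) (eL2363 i) (Nat.ble 2419712 i)
noncomputable def eT2359 (i : Nat) : Nat := Bool.rec (eL2364 i) (eL2365 i) (Nat.ble 2421760 i)
noncomputable def eT2360 (i : Nat) : Nat := Bool.rec (eT2358 i) (eT2359 i) (Nat.ble 2420736 i)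
noncomputable def eT2361 (i : Nat) : Nat := Bool.rec (eT2357 i) (eT2360 i) (Nat.ble 2418688 i)
noncomputable def eT2362 (i : Nat) : Nat := Bool.rec (eL2367 i) (eL2368 i) (Nat.ble 2424832 i)
noncomputable def eT2363 (i : Nat) : Nat := Bool.rec (eL2366 i) (eT2362 i) (Nat.ble 2423808 i)
noncomputable def eT2364 (i : Nat) : Nat := Bool.rec (eL2369 i) (eL2370 i) (Nat.ble 2426880 i)
noncomputable def eT2365 (i : Nat) : Nat := Bool.rec (eL2371 i) (eL2372 i) (Nat.ble 2428928 i)
noncomputable def eT2366 (i : Nat) : Nat := Bool.rec (eT2364 i) (eT2365 i) (Nat.ble 2427904 i)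
noncomputable def eT2367 (i : Nat) : Nat := Bool.rec (eT2363 i) (eT2366 i) (Nat.ble 2425856 i)
noncomputable def eT2368 (i : Nat) : Nat := Bool.rec (eT2361 i) (eT2367 i) (Nat.ble 2422784 i)
noncomputable def eT2369 (i : Nat) : Nat := Bool.rec (eL2374 i) (eL2375 i) (Nat.ble 2432000 i)
noncomputable def eT2370 (i : Nat) : Nat := Bool.rec (eL2373 i) (eT2369 i) (Nat.ble 2430976 i)
noncomputable def eT2371 (i : Nat) : Nat := Bool.rec (eL2376 i) (eL2377 i) (Nat.ble 2434048 i)
noncomputable def eT2372 (i : Nat) : Nat := Bool.rec (eL2378 i) (eL2379 i) (Nat.ble 2436096 i)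
noncomputable def eT2373 (i : Nat) : Nat := Bool.rec (eT2371 i) (eT2372 i) (Nat.ble 2435072 i)
noncomputable def eT2374 (i : Nat) : Nat := Bool.rec (eT2370 i) (eT2373 i) (Nat.ble 2433024 i)
noncomputable def eT2375 (i : Nat) : Nat := Bool.rec (eL2381 i) (eL2382 i) (Nat.ble 2439168 i)
noncomputable def eT2376 (i : Nat) : Nat := Bool.rec (eL2380 i) (eT2375 i) (Nat.ble 2438144 i)
noncomputable def eT2377 (i : Nat) : Nat := Bool.rec (eL2383 i) (eL2384 i) (Nat.ble 2441216 i)
noncomputable def eT2378 (i : Nat) : Nat := Bool.rec (eL2385 i) (eL2386 i) (Nat.ble 2443264 i)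
noncomputable def eT2379 (i : Nat) : Nat := Bool.rec (eT2377 i) (eT2378 i) (Nat.ble 2442240 i)
noncomputable def eT2380 (i : Nat) : Nat := Bool.rec (eT2376 i) (eT2379 i) (Nat.ble 2440192 i)
noncomputable def eT2381 (i : Nat) : Nat := Bool.rec (eT2374 i) (eT2380 i) (Nat.ble 2437120 i)
noncomputable def eT2382 (i : Nat) : Nat := Bool.rec (eT2368 i) (eT2381 i) (Nat.ble 2429952 i)
noncomputable def eT2383 (i : Nat) : Nat := Bool.rec (eL2388 i) (eL2389 i) (Nat.ble 2446336 i)
noncomputable def eT2384 (i : Nat) : Nat := Bool.rec (eL2387 i) (eT2383 i) (Nat.ble 2445312 i)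
noncomputable def eT2385 (i : Nat) : Nat := Bool.rec (eL2390 i) (eL2391 i) (Nat.ble 2448384 i)
noncomputable def eT2386 (i : Nat) : Nat := Bool.rec (eL2392 i) (eL2393 i) (Nat.ble 2450432 i)
noncomputable def eT2387 (i : Nat) : Nat := Bool.rec (eT2385 i) (eT2386 i) (Nat.ble 2449408 i)
noncomputable def eT2388 (i : Nat) : Nat := Bool.rec (eT2384 i) (eT2387 i) (Nat.ble 2447360 i)
noncomputable def eT2389 (i : Nat) : Nat := Bool.rec (eL2395 i) (eL2396 i) (Nat.ble 2453504 i)
noncomputable def eT2390 (i : Nat) : Nat := Bool.rec (eL2394 i) (eT2389 i) (Nat.ble 2452480 i)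
noncomputable def eT2391 (i : Nat) : Nat := Bool.rec (eL2397 i) (eL2398 i) (Nat.ble 2455552 i)
noncomputable def eT2392 (i : Nat) : Nat := Bool.rec (eL2399 i) (eL2400 i) (Nat.ble 2457600 i)
noncomputable def eT2393 (i : Nat) : Nat := Bool.rec (eT2391 i) (eT2392 i) (Nat.ble 2456576 i)
noncomputable def eT2394 (i : Nat) : Nat := Bool.rec (eT2390 i) (eT2393 i) (Nat.ble 2454528 i)
noncomputable def eT2395 (i : Nat) : Nat := Bool.rec (eT2388 i) (eT2394 i) (Nat.ble 2451456 i)
noncomputable def eT2396 (i : Nat) : Nat := Bool.rec (eL2402 i) (eL2403 i) (Nat.ble 2460672 i)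
noncomputable def eT2397 (i : Nat) : Nat := Bool.rec (eL2401 i) (eT2396 i) (Nat.ble 2459648 i)
noncomputable def eT2398 (i : Nat) : Nat := Bool.rec (eL2404 i) (eL2405 i) (Nat.ble 2462720 i)
noncomputable def eT2399 (i : Nat) : Nat := Bool.rec (eL2406 i) (eL2407 i) (Nat.ble 2464768 i)
noncomputable def eT2400 (i : Nat) : Nat := Bool.rec (eT2398 i) (eT2399 i) (Nat.ble 2463744 i)
noncomputable def eT2401 (i : Nat) : Nat := Bool.rec (eT2397 i) (eT2400 i) (Nat.ble 2461696 i)
noncomputable def eT2402 (i : Nat) : Nat := Bool.rec (eL2409 i) (eL2410 i) (Nat.ble 2467840 i)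
noncomputable def eT2403 (i : Nat) : Nat := Bool.rec (eL2408 i) (eT2402 i) (Nat.ble 2466816 i)
noncomputable def eT2404 (i : Nat) : Nat := Bool.rec (eL2411 i) (eL2412 i) (Nat.ble 2469888 i)
noncomputable def eT2405 (i : Nat) : Nat := Bool.rec (eL2413 i) (eL2414 i) (Nat.ble 2471936 i)
noncomputable def eT2406 (i : Nat) : Nat := Bool.rec (eT2404 i) (eT2405 i) (Nat.ble 2470912 i)
noncomputable def eT2407 (i : Nat) : Nat := Bool.rec (eT2403 i) (eT2406 i) (Nat.ble 2468864 i)
noncomputable def eT2408 (i : Nat) : Nat := Bool.rec (eT2401 i) (eT2407 i) (Nat.ble 2465792 i)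
noncomputable def eT2409 (i : Nat) : Nat := Bool.rec (eT2395 i) (eT2408 i) (Nat.ble 2458624 i)
noncomputable def eT2410 (i : Nat) : Nat := Bool.rec (eT2382 i) (eT2409 i) (Nat.ble 2444288 i)
noncomputable def eT2411 (i : Nat) : Nat := Bool.rec (eL2416 i) (eL2417 i) (Nat.ble 2475008 i)
noncomputable def eT2412 (i : Nat) : Nat := Bool.rec (eL2415 i) (eT2411 i) (Nat.ble 2473984 i)
noncomputable def eT2413 (i : Nat) : Nat := Bool.rec (eL2418 i) (eL2419 i) (Nat.ble 2477056 i)
noncomputable def eT2414 (i : Nat) : Nat := Bool.rec (eL2420 i) (eL2421 i) (Nat.ble 2479104 i)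
noncomputable def eT2415 (i : Nat) : Nat := Bool.rec (eT2413 i) (eT2414 i) (Nat.ble 2478080 i)
noncomputable def eT2416 (i : Nat) : Nat := Bool.rec (eT2412 i) (eT2415 i) (Nat.ble 2476032 i)
noncomputable def eT2417 (i : Nat) : Nat := Bool.rec (eL2423 i) (eL2424 i) (Nat.ble 2482176 i)
noncomputable def eT2418 (i : Nat) : Nat := Bool.rec (eL2422 i) (eT2417 i) (Nat.ble 2481152 i)
noncomputable def eT2419 (i : Nat) : Nat := Bool.rec (eL2425 i) (eL2426 i) (Nat.ble 2484224 i)
noncomputable def eT2420 (i : Nat) : Nat := Bool.rec (eL2427 i) (eL2428 i) (Nat.ble 2486272 i)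
noncomputable def eT2421 (i : Nat) : Nat := Bool.rec (eT2419 i) (eT2420 i) (Nat.ble 2485248 i)
noncomputable def eT2422 (i : Nat) : Nat := Bool.rec (eT2418 i) (eT2421 i) (Nat.ble 2483200 i)
noncomputable def eT2423 (i : Nat) : Nat := Bool.rec (eT2416 i) (eT2422 i) (Nat.ble 2480128 i)
noncomputable def eT2424 (i : Nat) : Nat := Bool.rec (eL2430 i) (eL2431 i) (Nat.ble 2489344 i)
noncomputable def eT2425 (i : Nat) : Nat := Bool.rec (eL2429 i) (eT2424 i) (Nat.ble 2488320 i)
noncomputable def eT2426 (i : Nat) : Nat := Bool.rec (eL2432 i) (eL2433 i) (Nat.ble 2491392 i)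
noncomputable def eT2427 (i : Nat) : Nat := Bool.rec (eL2434 i) (eL2435 i) (Nat.ble 2493440 i)
noncomputable def eT2428 (i : Nat) : Nat := Bool.rec (eT2426 i) (eT2427 i) (Nat.ble 2492416 i)
noncomputable def eT2429 (i : Nat) : Nat := Bool.rec (eT2425 i) (eT2428 i) (Nat.ble 2490368 i)
noncomputable def eT2430 (i : Nat) : Nat := Bool.rec (eL2437 i) (eL2438 i) (Nat.ble 2496512 i)
noncomputable def eT2431 (i : Nat) : Nat := Bool.rec (eL2436 i) (eT2430 i) (Nat.ble 2495488 i)
noncomputable def eT2432 (i : Nat) : Nat := Bool.rec (eL2439 i) (eL2440 i) (Nat.ble 2498560 i)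
noncomputable def eT2433 (i : Nat) : Nat := Bool.rec (eL2441 i) (eL2442 i) (Nat.ble 2500608 i)
noncomputable def eT2434 (i : Nat) : Nat := Bool.rec (eT2432 i) (eT2433 i) (Nat.ble 2499584 i)
noncomputable def eT2435 (i : Nat) : Nat := Bool.rec (eT2431 i) (eT2434 i) (Nat.ble 2497536 i)
noncomputable def eT2436 (i : Nat) : Nat := Bool.rec (eT2429 i) (eT2435 i) (Nat.ble 2494464 i)
noncomputable def eT2437 (i : Nat) : Nat := Bool.rec (eT2423 i) (eT2436 i) (Nat.ble 2487296 i)
noncomputable def eT2438 (i : Nat) : Nat := Bool.rec (eL2444 i) (eL2445 i) (Nat.ble 2503680 i)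
noncomputable def eT2439 (i : Nat) : Nat := Bool.rec (eL2443 i) (eT2438 i) (Nat.ble 2502656 i)
noncomputable def eT2440 (i : Nat) : Nat := Bool.rec (eL2446 i) (eL2447 i) (Nat.ble 2505728 i)
noncomputable def eT2441 (i : Nat) : Nat := Bool.rec (eL2448 i) (eL2449 i) (Nat.ble 2507776 i)
noncomputable def eT2442 (i : Nat) : Nat := Bool.rec (eT2440 i) (eT2441 i) (Nat.ble 2506752 i)
noncomputable def eT2443 (i : Nat) : Nat := Bool.rec (eT2439 i) (eT2442 i) (Nat.ble 2504704 i)
noncomputable def eT2444 (i : Nat) : Nat := Bool.rec (eL2451 i) (eL2452 i) (Nat.ble 2510848 i)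
noncomputable def eT2445 (i : Nat) : Nat := Bool.rec (eL2450 i) (eT2444 i) (Nat.ble 2509824 i)
noncomputable def eT2446 (i : Nat) : Nat := Bool.rec (eL2453 i) (eL2454 i) (Nat.ble 2512896 i)
noncomputable def eT2447 (i : Nat) : Nat := Bool.rec (eL2455 i) (eL2456 i) (Nat.ble 2514944 i)
noncomputable def eT2448 (i : Nat) : Nat := Bool.rec (eT2446 i) (eT2447 i) (Nat.ble 2513920 i)
noncomputable def eT2449 (i : Nat) : Nat := Bool.rec (eT2445 i) (eT2448 i) (Nat.ble 2511872 i)
noncomputable def eT2450 (i : Nat) : Nat := Bool.rec (eT2443 i) (eT2449 i) (Nat.ble 2508800 i)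
noncomputable def eT2451 (i : Nat) : Nat := Bool.rec (eL2458 i) (eL2459 i) (Nat.ble 2518016 i)
noncomputable def eT2452 (i : Nat) : Nat := Bool.rec (eL2457 i) (eT2451 i) (Nat.ble 2516992 i)
noncomputable def eT2453 (i : Nat) : Nat := Bool.rec (eL2460 i) (eL2461 i) (Nat.ble 2520064 i)
noncomputable def eT2454 (i : Nat) : Nat := Bool.rec (eL2462 i) (eL2463 i) (Nat.ble 2522112 i)
noncomputable def eT2455 (i : Nat) : Nat := Bool.rec (eT2453 i) (eT2454 i) (Nat.ble 2521088 i)
noncomputable def eT2456 (i : Nat) : Nat := Bool.rec (eT2452 i) (eT2455 i) (Nat.ble 2519040 i)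
noncomputable def eT2457 (i : Nat) : Nat := Bool.rec (eL2464 i) (eL2465 i) (Nat.ble 2524160 i)
noncomputable def eT2458 (i : Nat) : Nat := Bool.rec (eL2466 i) (eL2467 i) (Nat.ble 2526208 i)
noncomputable def eT2459 (i : Nat) : Nat := Bool.rec (eT2457 i) (eT2458 i) (Nat.ble 2525184 i)
noncomputable def eT2460 (i : Nat) : Nat := Bool.rec (eL2468 i) (eL2469 i) (Nat.ble 2528256 i)
noncomputable def eT2461 (i : Nat) : Nat := Bool.rec (eL2470 i) (eL2471 i) (Nat.ble 2530304 i)
noncomputable def eT2462 (i : Nat) : Nat := Bool.rec (eT2460 i) (eT2461 i) (Nat.ble 2529280 i)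
noncomputable def eT2463 (i : Nat) : Nat := Bool.rec (eT2459 i) (eT2462 i) (Nat.ble 2527232 i)
noncomputable def eT2464 (i : Nat) : Nat := Bool.rec (eT2456 i) (eT2463 i) (Nat.ble 2523136 i)
noncomputable def eT2465 (i : Nat) : Nat := Bool.rec (eT2450 i) (eT2464 i) (Nat.ble 2515968 i)
noncomputable def eT2466 (i : Nat) : Nat := Bool.rec (eT2437 i) (eT2465 i) (Nat.ble 2501632 i)
noncomputable def eT2467 (i : Nat) : Nat := Bool.rec (eT2410 i) (eT2466 i) (Nat.ble 2472960 i)
noncomputable def eT2468 (i : Nat) : Nat := Bool.rec (eT2355 i) (eT2467 i) (Nat.ble 2415616 i)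
noncomputable def eT2469 (i : Nat) : Nat := Bool.rec (eL2473 i) (eL2474 i) (Nat.ble 2533376 i)
noncomputable def eT2470 (i : Nat) : Nat := Bool.rec (eL2472 i) (eT2469 i) (Nat.ble 2532352 i)
noncomputable def eT2471 (i : Nat) : Nat := Bool.rec (eL2475 i) (eL2476 i) (Nat.ble 2535424 i)
noncomputable def eT2472 (i : Nat) : Nat := Bool.rec (eL2477 i) (eL2478 i) (Nat.ble 2537472 i)
noncomputable def eT2473 (i : Nat) : Nat := Bool.rec (eT2471 i) (eT2472 i) (Nat.ble 2536448 i)
noncomputable def eT2474 (i : Nat) : Nat := Bool.rec (eT2470 i) (eT2473 i) (Nat.ble 2534400 i)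
noncomputable def eT2475 (i : Nat) : Nat := Bool.rec (eL2480 i) (eL2481 i) (Nat.ble 2540544 i)
noncomputable def eT2476 (i : Nat) : Nat := Bool.rec (eL2479 i) (eT2475 i) (Nat.ble 2539520 i)
noncomputable def eT2477 (i : Nat) : Nat := Bool.rec (eL2482 i) (eL2483 i) (Nat.ble 2542592 i)
noncomputable def eT2478 (i : Nat) : Nat := Bool.rec (eL2484 i) (eL2485 i) (Nat.ble 2544640 i)
noncomputable def eT2479 (i : Nat) : Nat := Bool.rec (eT2477 i) (eT2478 i) (Nat.ble 2543616 i)
noncomputable def eT2480 (i : Nat) : Nat := Bool.rec (eT2476 i) (eT2479 i) (Nat.ble 2541568 i)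
noncomputable def eT2481 (i : Nat) : Nat := Bool.rec (eT2474 i) (eT2480 i) (Nat.ble 2538496 i)
noncomputable def eT2482 (i : Nat) : Nat := Bool.rec (eL2487 i) (eL2488 i) (Nat.ble 2547712 i)
noncomputable def eT2483 (i : Nat) : Nat := Bool.rec (eL2486 i) (eT2482 i) (Nat.ble 2546688 i)
noncomputable def eT2484 (i : Nat) : Nat := Bool.rec (eL2489 i) (eL2490 i) (Nat.ble 2549760 i)
noncomputable def eT2485 (i : Nat) : Nat := Bool.rec (eL2491 i) (eL2492 i) (Nat.ble 2551808 i)
noncomputable def eT2486 (i : Nat) : Nat := Bool.rec (eT2484 i) (eT2485 i) (Nat.ble 2550784 i)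
noncomputable def eT2487 (i : Nat) : Nat := Bool.rec (eT2483 i) (eT2486 i) (Nat.ble 2548736 i)
noncomputable def eT2488 (i : Nat) : Nat := Bool.rec (eL2494 i) (eL2495 i) (Nat.ble 2554880 i)
noncomputable def eT2489 (i : Nat) : Nat := Bool.rec (eL2493 i) (eT2488 i) (Nat.ble 2553856 i)
noncomputable def eT2490 (i : Nat) : Nat := Bool.rec (eL2496 i) (eL2497 i) (Nat.ble 2556928 i)
noncomputable def eT2491 (i : Nat) : Nat := Bool.rec (eL2498 i) (eL2499 i) (Nat.ble 2558976 i)
noncomputable def eT2492 (i : Nat) : Nat := Bool.rec (eT2490 i) (eT2491 i) (Nat.ble 2557952 i)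
noncomputable def eT2493 (i : Nat) : Nat := Bool.rec (eT2489 i) (eT2492 i) (Nat.ble 2555904 i)
noncomputable def eT2494 (i : Nat) : Nat := Bool.rec (eT2487 i) (eT2493 i) (Nat.ble 2552832 i)
noncomputable def eT2495 (i : Nat) : Nat := Bool.rec (eT2481 i) (eT2494 i) (Nat.ble 2545664 i)
noncomputable def eT2496 (i : Nat) : Nat := Bool.rec (eL2501 i) (eL2502 i) (Nat.ble 2562048 i)
noncomputable def eT2497 (i : Nat) : Nat := Bool.rec (eL2500 i) (eT2496 i) (Nat.ble 2561024 i)
noncomputable def eT2498 (i : Nat) : Nat := Bool.rec (eL2503 i) (eL2504 i) (Nat.ble 2564096 i)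
noncomputable def eT2499 (i : Nat) : Nat := Bool.rec (eL2505 i) (eL2506 i) (Nat.ble 2566144 i)
noncomputable def eT2500 (i : Nat) : Nat := Bool.rec (eT2498 i) (eT2499 i) (Nat.ble 2565120 i)
noncomputable def eT2501 (i : Nat) : Nat := Bool.rec (eT2497 i) (eT2500 i) (Nat.ble 2563072 i)
noncomputable def eT2502 (i : Nat) : Nat := Bool.rec (eL2508 i) (eL2509 i) (Nat.ble 2569216 i)
noncomputable def eT2503 (i : Nat) : Nat := Bool.rec (eL2507 i) (eT2502 i) (Nat.ble 2568192 i)
noncomputable def eT2504 (i : Nat) : Nat := Bool.rec (eL2510 i) (eL2511 i) (Nat.ble 2571264 i)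
noncomputable def eT2505 (i : Nat) : Nat := Bool.rec (eL2512 i) (eL2513 i) (Nat.ble 2573312 i)
noncomputable def eT2506 (i : Nat) : Nat := Bool.rec (eT2504 i) (eT2505 i) (Nat.ble 2572288 i)
noncomputable def eT2507 (i : Nat) : Nat := Bool.rec (eT2503 i) (eT2506 i) (Nat.ble 2570240 i)
noncomputable def eT2508 (i : Nat) : Nat := Bool.rec (eT2501 i) (eT2507 i) (Nat.ble 2567168 i)
noncomputable def eT2509 (i : Nat) : Nat := Bool.rec (eL2515 i) (eL2516 i) (Nat.ble 2576384 i)
noncomputable def eT2510 (i : Nat) : Nat := Bool.rec (eL2514 i) (eT2509 i) (Nat.ble 2575360 i)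
noncomputable def eT2511 (i : Nat) : Nat := Bool.rec (eL2517 i) (eL2518 i) (Nat.ble 2578432 i)
noncomputable def eT2512 (i : Nat) : Nat := Bool.rec (eL2519 i) (eL2520 i) (Nat.ble 2580480 i)
noncomputable def eT2513 (i : Nat) : Nat := Bool.rec (eT2511 i) (eT2512 i) (Nat.ble 2579456 i)
noncomputable def eT2514 (i : Nat) : Nat := Bool.rec (eT2510 i) (eT2513 i) (Nat.ble 2577408 i)
noncomputable def eT2515 (i : Nat) : Nat := Bool.rec (eL2522 i) (eL2523 i) (Nat.ble 2583552 i)
noncomputable def eT2516 (i : Nat) : Nat := Bool.rec (eL2521 i) (eT2515 i) (Nat.ble 2582528 i)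
noncomputable def eT2517 (i : Nat) : Nat := Bool.rec (eL2524 i) (eL2525 i) (Nat.ble 2585600 i)
noncomputable def eT2518 (i : Nat) : Nat := Bool.rec (eL2526 i) (eL2527 i) (Nat.ble 2587648 i)
noncomputable def eT2519 (i : Nat) : Nat := Bool.rec (eT2517 i) (eT2518 i) (Nat.ble 2586624 i)
noncomputable def eT2520 (i : Nat) : Nat := Bool.rec (eT2516 i) (eT2519 i) (Nat.ble 2584576 i)
noncomputable def eT2521 (i : Nat) : Nat := Bool.rec (eT2514 i) (eT2520 i) (Nat.ble 2581504 i)
noncomputable def eT2522 (i : Nat) : Nat := Bool.rec (eT2508 i) (eT2521 i) (Nat.ble 2574336 i)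
noncomputable def eT2523 (i : Nat) : Nat := Bool.rec (eT2495 i) (eT2522 i) (Nat.ble 2560000 i)
noncomputable def eT2524 (i : Nat) : Nat := Bool.rec (eL2529 i) (eL2530 i) (Nat.ble 2590720 i)
noncomputable def eT2525 (i : Nat) : Nat := Bool.rec (eL2528 i) (eT2524 i) (Nat.ble 2589696 i)
noncomputable def eT2526 (i : Nat) : Nat := Bool.rec (eL2531 i) (eL2532 i) (Nat.ble 2592768 i)
noncomputable def eT2527 (i : Nat) : Nat := Bool.rec (eL2533 i) (eL2534 i) (Nat.ble 2594816 i)
noncomputable def eT2528 (i : Nat) : Nat := Bool.rec (eT2526 i) (eT2527 i) (Nat.ble 2593792 i)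
noncomputable def eT2529 (i : Nat) : Nat := Bool.rec (eT2525 i) (eT2528 i) (Nat.ble 2591744 i)
noncomputable def eT2530 (i : Nat) : Nat := Bool.rec (eL2536 i) (eL2537 i) (Nat.ble 2597888 i)
noncomputable def eT2531 (i : Nat) : Nat := Bool.rec (eL2535 i) (eT2530 i) (Nat.ble 2596864 i)
noncomputable def eT2532 (i : Nat) : Nat := Bool.rec (eL2538 i) (eL2539 i) (Nat.ble 2599936 i)
noncomputable def eT2533 (i : Nat) : Nat := Bool.rec (eL2540 i) (eL2541 i) (Nat.ble 2601984 i)
noncomputable def eT2534 (i : Nat) : Nat := Bool.rec (eT2532 i) (eT2533 i) (Nat.ble 2600960 i)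
noncomputable def eT2535 (i : Nat) : Nat := Bool.rec (eT2531 i) (eT2534 i) (Nat.ble 2598912 i)
noncomputable def eT2536 (i : Nat) : Nat := Bool.rec (eT2529 i) (eT2535 i) (Nat.ble 2595840 i)
noncomputable def eT2537 (i : Nat) : Nat := Bool.rec (eL2543 i) (eL2544 i) (Nat.ble 2605056 i)
noncomputable def eT2538 (i : Nat) : Nat := Bool.rec (eL2542 i) (eT2537 i) (Nat.ble 2604032 i)
noncomputable def eT2539 (i : Nat) : Nat := Bool.rec (eL2545 i) (eL2546 i) (Nat.ble 2607104 i)
noncomputable def eT2540 (i : Nat) : Nat := Bool.rec (eL2547 i) (eL2548 i) (Nat.ble 2609152 i)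
noncomputable def eT2541 (i : Nat) : Nat := Bool.rec (eT2539 i) (eT2540 i) (Nat.ble 2608128 i)
noncomputable def eT2542 (i : Nat) : Nat := Bool.rec (eT2538 i) (eT2541 i) (Nat.ble 2606080 i)
noncomputable def eT2543 (i : Nat) : Nat := Bool.rec (eL2550 i) (eL2551 i) (Nat.ble 2612224 i)
noncomputable def eT2544 (i : Nat) : Nat := Bool.rec (eL2549 i) (eT2543 i) (Nat.ble 2611200 i)
noncomputable def eT2545 (i : Nat) : Nat := Bool.rec (eL2552 i) (eL2553 i) (Nat.ble 2614272 i)
noncomputable def eT2546 (i : Nat) : Nat := Bool.rec (eL2554 i) (eL2555 i) (Nat.ble 2616320 i)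
noncomputable def eT2547 (i : Nat) : Nat := Bool.rec (eT2545 i) (eT2546 i) (Nat.ble 2615296 i)
noncomputable def eT2548 (i : Nat) : Nat := Bool.rec (eT2544 i) (eT2547 i) (Nat.ble 2613248 i)
noncomputable def eT2549 (i : Nat) : Nat := Bool.rec (eT2542 i) (eT2548 i) (Nat.ble 2610176 i)
noncomputable def eT2550 (i : Nat) : Nat := Bool.rec (eT2536 i) (eT2549 i) (Nat.ble 2603008 i)
noncomputable def eT2551 (i : Nat) : Nat := Bool.rec (eL2557 i) (eL2558 i) (Nat.ble 2619392 i)
noncomputable def eT2552 (i : Nat) : Nat := Bool.rec (eL2556 i) (eT2551 i) (Nat.ble 2618368 i)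
noncomputable def eT2553 (i : Nat) : Nat := Bool.rec (eL2559 i) (eL2560 i) (Nat.ble 2621440 i)
noncomputable def eT2554 (i : Nat) : Nat := Bool.rec (eL2561 i) (eL2562 i) (Nat.ble 2623488 i)
noncomputable def eT2555 (i : Nat) : Nat := Bool.rec (eT2553 i) (eT2554 i) (Nat.ble 2622464 i)
noncomputable def eT2556 (i : Nat) : Nat := Bool.rec (eT2552 i) (eT2555 i) (Nat.ble 2620416 i)
noncomputable def eT2557 (i : Nat) : Nat := Bool.rec (eL2564 i) (eL2565 i) (Nat.ble 2626560 i)
noncomputable def eT2558 (i : Nat) : Nat := Bool.rec (eL2563 i) (eT2557 i) (Nat.ble 2625536 i)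
noncomputable def eT2559 (i : Nat) : Nat := Bool.rec (eL2566 i) (eL2567 i) (Nat.ble 2628608 i)
noncomputable def eT2560 (i : Nat) : Nat := Bool.rec (eL2568 i) (eL2569 i) (Nat.ble 2630656 i)
noncomputable def eT2561 (i : Nat) : Nat := Bool.rec (eT2559 i) (eT2560 i) (Nat.ble 2629632 i)
noncomputable def eT2562 (i : Nat) : Nat := Bool.rec (eT2558 i) (eT2561 i) (Nat.ble 2627584 i)
noncomputable def eT2563 (i : Nat) : Nat := Bool.rec (eT2556 i) (eT2562 i) (Nat.ble 2624512 i)
noncomputable def eT2564 (i : Nat) : Nat := Bool.rec (eL2571 i) (eL2572 i) (Nat.ble 2633728 i)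
noncomputable def eT2565 (i : Nat) : Nat := Bool.rec (eL2570 i) (eT2564 i) (Nat.ble 2632704 i)
noncomputable def eT2566 (i : Nat) : Nat := Bool.rec (eL2573 i) (eL2574 i) (Nat.ble 2635776 i)
noncomputable def eT2567 (i : Nat) : Nat := Bool.rec (eL2575 i) (eL2576 i) (Nat.ble 2637824 i)
noncomputable def eT2568 (i : Nat) : Nat := Bool.rec (eT2566 i) (eT2567 i) (Nat.ble 2636800 i)
noncomputable def eT2569 (i : Nat) : Nat := Bool.rec (eT2565 i) (eT2568 i) (Nat.ble 2634752 i)
noncomputable def eT2570 (i : Nat) : Nat := Bool.rec (eL2578 i) (eL2579 i) (Nat.ble 2640896 i)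
noncomputable def eT2571 (i : Nat) : Nat := Bool.rec (eL2577 i) (eT2570 i) (Nat.ble 2639872 i)
noncomputable def eT2572 (i : Nat) : Nat := Bool.rec (eL2580 i) (eL2581 i) (Nat.ble 2642944 i)
noncomputable def eT2573 (i : Nat) : Nat := Bool.rec (eL2582 i) (eL2583 i) (Nat.ble 2644992 i)
noncomputable def eT2574 (i : Nat) : Nat := Bool.rec (eT2572 i) (eT2573 i) (Nat.ble 2643968 i)
noncomputable def eT2575 (i : Nat) : Nat := Bool.rec (eT2571 i) (eT2574 i) (Nat.ble 2641920 i)
noncomputable def eT2576 (i : Nat) : Nat := Bool.rec (eT2569 i) (eT2575 i) (Nat.ble 2638848 i)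
noncomputable def eT2577 (i : Nat) : Nat := Bool.rec (eT2563 i) (eT2576 i) (Nat.ble 2631680 i)
noncomputable def eT2578 (i : Nat) : Nat := Bool.rec (eT2550 i) (eT2577 i) (Nat.ble 2617344 i)
noncomputable def eT2579 (i : Nat) : Nat := Bool.rec (eT2523 i) (eT2578 i) (Nat.ble 2588672 i)
noncomputable def eT2580 (i : Nat) : Nat := Bool.rec (eL2585 i) (eL2586 i) (Nat.ble 2648064 i)
noncomputable def eT2581 (i : Nat) : Nat := Bool.rec (eL2584 i) (eT2580 i) (Nat.ble 2647040 i)
noncomputable def eT2582 (i : Nat) : Nat := Bool.rec (eL2587 i) (eL2588 i) (Nat.ble 2650112 i)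
noncomputable def eT2583 (i : Nat) : Nat := Bool.rec (eL2589 i) (eL2590 i) (Nat.ble 2652160 i)
noncomputable def eT2584 (i : Nat) : Nat := Bool.rec (eT2582 i) (eT2583 i) (Nat.ble 2651136 i)
noncomputable def eT2585 (i : Nat) : Nat := Bool.rec (eT2581 i) (eT2584 i) (Nat.ble 2649088 i)
noncomputable def eT2586 (i : Nat) : Nat := Bool.rec (eL2592 i) (eL2593 i) (Nat.ble 2655232 i)
noncomputable def eT2587 (i : Nat) : Nat := Bool.rec (eL2591 i) (eT2586 i) (Nat.ble 2654208 i)
noncomputable def eT2588 (i : Nat) : Nat := Bool.rec (eL2594 i) (eL2595 i) (Nat.ble 2657280 i)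
noncomputable def eT2589 (i : Nat) : Nat := Bool.rec (eL2596 i) (eL2597 i) (Nat.ble 2659328 i)
noncomputable def eT2590 (i : Nat) : Nat := Bool.rec (eT2588 i) (eT2589 i) (Nat.ble 2658304 i)
noncomputable def eT2591 (i : Nat) : Nat := Bool.rec (eT2587 i) (eT2590 i) (Nat.ble 2656256 i)
noncomputable def eT2592 (i : Nat) : Nat := Bool.rec (eT2585 i) (eT2591 i) (Nat.ble 2653184 i)
noncomputable def eT2593 (i : Nat) : Nat := Bool.rec (eL2599 i) (eL2600 i) (Nat.ble 2662400 i)
noncomputable def eT2594 (i : Nat) : Nat := Bool.rec (eL2598 i) (eT2593 i) (Nat.ble 2661376 i)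
noncomputable def eT2595 (i : Nat) : Nat := Bool.rec (eL2601 i) (eL2602 i) (Nat.ble 2664448 i)
noncomputable def eT2596 (i : Nat) : Nat := Bool.rec (eL2603 i) (eL2604 i) (Nat.ble 2666496 i)
noncomputable def eT2597 (i : Nat) : Nat := Bool.rec (eT2595 i) (eT2596 i) (Nat.ble 2665472 i)
noncomputable def eT2598 (i : Nat) : Nat := Bool.rec (eT2594 i) (eT2597 i) (Nat.ble 2663424 i)
noncomputable def eT2599 (i : Nat) : Nat := Bool.rec (eL2606 i) (eL2607 i) (Nat.ble 2669568 i)
noncomputable def eT2600 (i : Nat) : Nat := Bool.rec (eL2605 i) (eT2599 i) (Nat.ble 2668544 i)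
noncomputable def eT2601 (i : Nat) : Nat := Bool.rec (eL2608 i) (eL2609 i) (Nat.ble 2671616 i)
noncomputable def eT2602 (i : Nat) : Nat := Bool.rec (eL2610 i) (eL2611 i) (Nat.ble 2673664 i)
noncomputable def eT2603 (i : Nat) : Nat := Bool.rec (eT2601 i) (eT2602 i) (Nat.ble 2672640 i)
noncomputable def eT2604 (i : Nat) : Nat := Bool.rec (eT2600 i) (eT2603 i) (Nat.ble 2670592 i)
noncomputable def eT2605 (i : Nat) : Nat := Bool.rec (eT2598 i) (eT2604 i) (Nat.ble 2667520 i)
noncomputable def eT2606 (i : Nat) : Nat := Bool.rec (eT2592 i) (eT2605 i) (Nat.ble 2660352 i)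
noncomputable def eT2607 (i : Nat) : Nat := Bool.rec (eL2613 i) (eL2614 i) (Nat.ble 2676736 i)
noncomputable def eT2608 (i : Nat) : Nat := Bool.rec (eL2612 i) (eT2607 i) (Nat.ble 2675712 i)
noncomputable def eT2609 (i : Nat) : Nat := Bool.rec (eL2615 i) (eL2616 i) (Nat.ble 2678784 i)
noncomputable def eT2610 (i : Nat) : Nat := Bool.rec (eL2617 i) (eL2618 i) (Nat.ble 2680832 i)
noncomputable def eT2611 (i : Nat) : Nat := Bool.rec (eT2609 i) (eT2610 i) (Nat.ble 2679808 i)
noncomputable def eT2612 (i : Nat) : Nat := Bool.rec (eT2608 i) (eT2611 i) (Nat.ble 2677760 i)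
noncomputable def eT2613 (i : Nat) : Nat := Bool.rec (eL2620 i) (eL2621 i) (Nat.ble 2683904 i)
noncomputable def eT2614 (i : Nat) : Nat := Bool.rec (eL2619 i) (eT2613 i) (Nat.ble 2682880 i)
noncomputable def eT2615 (i : Nat) : Nat := Bool.rec (eL2622 i) (eL2623 i) (Nat.ble 2685952 i)
noncomputable def eT2616 (i : Nat) : Nat := Bool.rec (eL2624 i) (eL2625 i) (Nat.ble 2688000 i)
noncomputable def eT2617 (i : Nat) : Nat := Bool.rec (eT2615 i) (eT2616 i) (Nat.ble 2686976 i)
noncomputable def eT2618 (i : Nat) : Nat := Bool.rec (eT2614 i) (eT2617 i) (Nat.ble 2684928 i)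
noncomputable def eT2619 (i : Nat) : Nat := Bool.rec (eT2612 i) (eT2618 i) (Nat.ble 2681856 i)
noncomputable def eT2620 (i : Nat) : Nat := Bool.rec (eL2627 i) (eL2628 i) (Nat.ble 2691072 i)
noncomputable def eT2621 (i : Nat) : Nat := Bool.rec (eL2626 i) (eT2620 i) (Nat.ble 2690048 i)
noncomputable def eT2622 (i : Nat) : Nat := Bool.rec (eL2629 i) (eL2630 i) (Nat.ble 2693120 i)
noncomputable def eT2623 (i : Nat) : Nat := Bool.rec (eL2631 i) (eL2632 i) (Nat.ble 2695168 i)
noncomputable def eT2624 (i : Nat) : Nat := Bool.rec (eT2622 i) (eT2623 i) (Nat.ble 2694144 i)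
noncomputable def eT2625 (i : Nat) : Nat := Bool.rec (eT2621 i) (eT2624 i) (Nat.ble 2692096 i)
noncomputable def eT2626 (i : Nat) : Nat := Bool.rec (eL2634 i) (eL2635 i) (Nat.ble 2698240 i)
noncomputable def eT2627 (i : Nat) : Nat := Bool.rec (eL2633 i) (eT2626 i) (Nat.ble 2697216 i)
noncomputable def eT2628 (i : Nat) : Nat := Bool.rec (eL2636 i) (eL2637 i) (Nat.ble 2700288 i)
noncomputable def eT2629 (i : Nat) : Nat := Bool.rec (eL2638 i) (eL2639 i) (Nat.ble 2702336 i)
noncomputable def eT2630 (i : Nat) : Nat := Bool.rec (eT2628 i) (eT2629 i) (Nat.ble 2701312 i)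
noncomputable def eT2631 (i : Nat) : Nat := Bool.rec (eT2627 i) (eT2630 i) (Nat.ble 2699264 i)
noncomputable def eT2632 (i : Nat) : Nat := Bool.rec (eT2625 i) (eT2631 i) (Nat.ble 2696192 i)
noncomputable def eT2633 (i : Nat) : Nat := Bool.rec (eT2619 i) (eT2632 i) (Nat.ble 2689024 i)
noncomputable def eT2634 (i : Nat) : Nat := Bool.rec (eT2606 i) (eT2633 i) (Nat.ble 2674688 i)
noncomputable def eT2635 (i : Nat) : Nat := Bool.rec (eL2641 i) (eL2642 i) (Nat.ble 2705408 i)
noncomputable def eT2636 (i : Nat) : Nat := Bool.rec (eL2640 i) (eT2635 i) (Nat.ble 2704384 i)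
noncomputable def eT2637 (i : Nat) : Nat := Bool.rec (eL2643 i) (eL2644 i) (Nat.ble 2707456 i)
noncomputable def eT2638 (i : Nat) : Nat := Bool.rec (eL2645 i) (eL2646 i) (Nat.ble 2709504 i)
noncomputable def eT2639 (i : Nat) : Nat := Bool.rec (eT2637 i) (eT2638 i) (Nat.ble 2708480 i)
noncomputable def eT2640 (i : Nat) : Nat := Bool.rec (eT2636 i) (eT2639 i) (Nat.ble 2706432 i)
noncomputable def eT2641 (i : Nat) : Nat := Bool.rec (eL2648 i) (eL2649 i) (Nat.ble 2712576 i)
noncomputable def eT2642 (i : Nat) : Nat := Bool.rec (eL2647 i) (eT2641 i) (Nat.ble 2711552 i)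
noncomputable def eT2643 (i : Nat) : Nat := Bool.rec (eL2650 i) (eL2651 i) (Nat.ble 2714624 i)
noncomputable def eT2644 (i : Nat) : Nat := Bool.rec (eL2652 i) (eL2653 i) (Nat.ble 2716672 i)
noncomputable def eT2645 (i : Nat) : Nat := Bool.rec (eT2643 i) (eT2644 i) (Nat.ble 2715648 i)
noncomputable def eT2646 (i : Nat) : Nat := Bool.rec (eT2642 i) (eT2645 i) (Nat.ble 2713600 i)
noncomputable def eT2647 (i : Nat) : Nat := Bool.rec (eT2640 i) (eT2646 i) (Nat.ble 2710528 i)
noncomputable def eT2648 (i : Nat) : Nat := Bool.rec (eL2655 i) (eL2656 i) (Nat.ble 2719744 i)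
noncomputable def eT2649 (i : Nat) : Nat := Bool.rec (eL2654 i) (eT2648 i) (Nat.ble 2718720 i)
noncomputable def eT2650 (i : Nat) : Nat := Bool.rec (eL2657 i) (eL2658 i) (Nat.ble 2721792 i)
noncomputable def eT2651 (i : Nat) : Nat := Bool.rec (eL2659 i) (eL2660 i) (Nat.ble 2723840 i)
noncomputable def eT2652 (i : Nat) : Nat := Bool.rec (eT2650 i) (eT2651 i) (Nat.ble 2722816 i)
noncomputable def eT2653 (i : Nat) : Nat := Bool.rec (eT2649 i) (eT2652 i) (Nat.ble 2720768 i)
noncomputable def eT2654 (i : Nat) : Nat := Bool.rec (eL2662 i) (eL2663 i) (Nat.ble 2726912 i)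
noncomputable def eT2655 (i : Nat) : Nat := Bool.rec (eL2661 i) (eT2654 i) (Nat.ble 2725888 i)
noncomputable def eT2656 (i : Nat) : Nat := Bool.rec (eL2664 i) (eL2665 i) (Nat.ble 2728960 i)
noncomputable def eT2657 (i : Nat) : Nat := Bool.rec (eL2666 i) (eL2667 i) (Nat.ble 2731008 i)
noncomputable def eT2658 (i : Nat) : Nat := Bool.rec (eT2656 i) (eT2657 i) (Nat.ble 2729984 i)
noncomputable def eT2659 (i : Nat) : Nat := Bool.rec (eT2655 i) (eT2658 i) (Nat.ble 2727936 i)
noncomputable def eT2660 (i : Nat) : Nat := Bool.rec (eT2653 i) (eT2659 i) (Nat.ble 2724864 i)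
noncomputable def eT2661 (i : Nat) : Nat := Bool.rec (eT2647 i) (eT2660 i) (Nat.ble 2717696 i)
noncomputable def eT2662 (i : Nat) : Nat := Bool.rec (eL2669 i) (eL2670 i) (Nat.ble 2734080 i)
noncomputable def eT2663 (i : Nat) : Nat := Bool.rec (eL2668 i) (eT2662 i) (Nat.ble 2733056 i)
noncomputable def eT2664 (i : Nat) : Nat := Bool.rec (eL2671 i) (eL2672 i) (Nat.ble 2736128 i)
noncomputable def eT2665 (i : Nat) : Nat := Bool.rec (eL2673 i) (eL2674 i) (Nat.ble 2738176 i)
noncomputable def eT2666 (i : Nat) : Nat := Bool.rec (eT2664 i) (eT2665 i) (Nat.ble 2737152 i)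
noncomputable def eT2667 (i : Nat) : Nat := Bool.rec (eT2663 i) (eT2666 i) (Nat.ble 2735104 i)
noncomputable def eT2668 (i : Nat) : Nat := Bool.rec (eL2676 i) (eL2677 i) (Nat.ble 2741248 i)
noncomputable def eT2669 (i : Nat) : Nat := Bool.rec (eL2675 i) (eT2668 i) (Nat.ble 2740224 i)
noncomputable def eT2670 (i : Nat) : Nat := Bool.rec (eL2678 i) (eL2679 i) (Nat.ble 2743296 i)
noncomputable def eT2671 (i : Nat) : Nat := Bool.rec (eL2680 i) (eL2681 i) (Nat.ble 2745344 i)
noncomputable def eT2672 (i : Nat) : Nat := Bool.rec (eT2670 i) (eT2671 i) (Nat.ble 2744320 i)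
noncomputable def eT2673 (i : Nat) : Nat := Bool.rec (eT2669 i) (eT2672 i) (Nat.ble 2742272 i)
noncomputable def eT2674 (i : Nat) : Nat := Bool.rec (eT2667 i) (eT2673 i) (Nat.ble 2739200 i)
noncomputable def eT2675 (i : Nat) : Nat := Bool.rec (eL2683 i) (eL2684 i) (Nat.ble 2748416 i)
noncomputable def eT2676 (i : Nat) : Nat := Bool.rec (eL2682 i) (eT2675 i) (Nat.ble 2747392 i)
noncomputable def eT2677 (i : Nat) : Nat := Bool.rec (eL2685 i) (eL2686 i) (Nat.ble 2750464 i)
noncomputable def eT2678 (i : Nat) : Nat := Bool.rec (eL2687 i) (eL2688 i) (Nat.ble 2752512 i)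
noncomputable def eT2679 (i : Nat) : Nat := Bool.rec (eT2677 i) (eT2678 i) (Nat.ble 2751488 i)
noncomputable def eT2680 (i : Nat) : Nat := Bool.rec (eT2676 i) (eT2679 i) (Nat.ble 2749440 i)
noncomputable def eT2681 (i : Nat) : Nat := Bool.rec (eL2689 i) (eL2690 i) (Nat.ble 2754560 i)
noncomputable def eT2682 (i : Nat) : Nat := Bool.rec (eL2691 i) (eL2692 i) (Nat.ble 2756608 i)
noncomputable def eT2683 (i : Nat) : Nat := Bool.rec (eT2681 i) (eT2682 i) (Nat.ble 2755584 i)
noncomputable def eT2684 (i : Nat) : Nat := Bool.rec (eL2693 i) (eL2694 i) (Nat.ble 2758656 i)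
noncomputable def eT2685 (i : Nat) : Nat := Bool.rec (eL2695 i) (eL2696 i) (Nat.ble 2760704 i)
noncomputable def eT2686 (i : Nat) : Nat := Bool.rec (eT2684 i) (eT2685 i) (Nat.ble 2759680 i)
noncomputable def eT2687 (i : Nat) : Nat := Bool.rec (eT2683 i) (eT2686 i) (Nat.ble 2757632 i)
noncomputable def eT2688 (i : Nat) : Nat := Bool.rec (eT2680 i) (eT2687 i) (Nat.ble 2753536 i)
noncomputable def eT2689 (i : Nat) : Nat := Bool.rec (eT2674 i) (eT2688 i) (Nat.ble 2746368 i)
noncomputable def eT2690 (i : Nat) : Nat := Bool.rec (eT2661 i) (eT2689 i) (Nat.ble 2732032 i)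
noncomputable def eT2691 (i : Nat) : Nat := Bool.rec (eT2634 i) (eT2690 i) (Nat.ble 2703360 i)
noncomputable def eT2692 (i : Nat) : Nat := Bool.rec (eT2579 i) (eT2691 i) (Nat.ble 2646016 i)
noncomputable def eT2693 (i : Nat) : Nat := Bool.rec (eT2468 i) (eT2692 i) (Nat.ble 2531328 i)
noncomputable def eT2694 (i : Nat) : Nat := Bool.rec (eT2244 i) (eT2693 i) (Nat.ble 2300928 i)
noncomputable def eT2695 (i : Nat) : Nat := Bool.rec (eL2698 i) (eL2699 i) (Nat.ble 2763776 i)
noncomputable def eT2696 (i : Nat) : Nat := Bool.rec (eL2697 i) (eT2695 i) (Nat.ble 2762752 i)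
noncomputable def eT2697 (i : Nat) : Nat := Bool.rec (eL2700 i) (eL2701 i) (Nat.ble 2765824 i)
noncomputable def eT2698 (i : Nat) : Nat := Bool.rec (eL2702 i) (eL2703 i) (Nat.ble 2767872 i)
noncomputable def eT2699 (i : Nat) : Nat := Bool.rec (eT2697 i) (eT2698 i) (Nat.ble 2766848 i)
noncomputable def eT2700 (i : Nat) : Nat := Bool.rec (eT2696 i) (eT2699 i) (Nat.ble 2764800 i)
noncomputable def eT2701 (i : Nat) : Nat := Bool.rec (eL2705 i) (eL2706 i) (Nat.ble 2770944 i)
noncomputable def eT2702 (i : Nat) : Nat := Bool.rec (eL2704 i) (eT2701 i) (Nat.ble 2769920 i)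
noncomputable def eT2703 (i : Nat) : Nat := Bool.rec (eL2707 i) (eL2708 i) (Nat.ble 2772992 i)
noncomputable def eT2704 (i : Nat) : Nat := Bool.rec (eL2709 i) (eL2710 i) (Nat.ble 2775040 i)
noncomputable def eT2705 (i : Nat) : Nat := Bool.rec (eT2703 i) (eT2704 i) (Nat.ble 2774016 i)
noncomputable def eT2706 (i : Nat) : Nat := Bool.rec (eT2702 i) (eT2705 i) (Nat.ble 2771968 i)
noncomputable def eT2707 (i : Nat) : Nat := Bool.rec (eT2700 i) (eT2706 i) (Nat.ble 2768896 i)
noncomputable def eT2708 (i : Nat) : Nat := Bool.rec (eL2712 i) (eL2713 i) (Nat.ble 2778112 i)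
noncomputable def eT2709 (i : Nat) : Nat := Bool.rec (eL2711 i) (eT2708 i) (Nat.ble 2777088 i)
noncomputable def eT2710 (i : Nat) : Nat := Bool.rec (eL2714 i) (eL2715 i) (Nat.ble 2780160 i)
noncomputable def eT2711 (i : Nat) : Nat := Bool.rec (eL2716 i) (eL2717 i) (Nat.ble 2782208 i)
noncomputable def eT2712 (i : Nat) : Nat := Bool.rec (eT2710 i) (eT2711 i) (Nat.ble 2781184 i)
noncomputable def eT2713 (i : Nat) : Nat := Bool.rec (eT2709 i) (eT2712 i) (Nat.ble 2779136 i)
noncomputable def eT2714 (i : Nat) : Nat := Bool.rec (eL2719 i) (eL2720 i) (Nat.ble 2785280 i)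
noncomputable def eT2715 (i : Nat) : Nat := Bool.rec (eL2718 i) (eT2714 i) (Nat.ble 2784256 i)
noncomputable def eT2716 (i : Nat) : Nat := Bool.rec (eL2721 i) (eL2722 i) (Nat.ble 2787328 i)
noncomputable def eT2717 (i : Nat) : Nat := Bool.rec (eL2723 i) (eL2724 i) (Nat.ble 2789376 i)
noncomputable def eT2718 (i : Nat) : Nat := Bool.rec (eT2716 i) (eT2717 i) (Nat.ble 2788352 i)
noncomputable def eT2719 (i : Nat) : Nat := Bool.rec (eT2715 i) (eT2718 i) (Nat.ble 2786304 i)
noncomputable def eT2720 (i : Nat) : Nat := Bool.rec (eT2713 i) (eT2719 i) (Nat.ble 2783232 i)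
noncomputable def eT2721 (i : Nat) : Nat := Bool.rec (eT2707 i) (eT2720 i) (Nat.ble 2776064 i)
noncomputable def eT2722 (i : Nat) : Nat := Bool.rec (eL2726 i) (eL2727 i) (Nat.ble 2792448 i)
noncomputable def eT2723 (i : Nat) : Nat := Bool.rec (eL2725 i) (eT2722 i) (Nat.ble 2791424 i)
noncomputable def eT2724 (i : Nat) : Nat := Bool.rec (eL2728 i) (eL2729 i) (Nat.ble 2794496 i)
noncomputable def eT2725 (i : Nat) : Nat := Bool.rec (eL2730 i) (eL2731 i) (Nat.ble 2796544 i)
noncomputable def eT2726 (i : Nat) : Nat := Bool.rec (eT2724 i) (eT2725 i) (Nat.ble 2795520 i)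
noncomputable def eT2727 (i : Nat) : Nat := Bool.rec (eT2723 i) (eT2726 i) (Nat.ble 2793472 i)
noncomputable def eT2728 (i : Nat) : Nat := Bool.rec (eL2733 i) (eL2734 i) (Nat.ble 2799616 i)
noncomputable def eT2729 (i : Nat) : Nat := Bool.rec (eL2732 i) (eT2728 i) (Nat.ble 2798592 i)
noncomputable def eT2730 (i : Nat) : Nat := Bool.rec (eL2735 i) (eL2736 i) (Nat.ble 2801664 i)
noncomputable def eT2731 (i : Nat) : Nat := Bool.rec (eL2737 i) (eL2738 i) (Nat.ble 2803712 i)
noncomputable def eT2732 (i : Nat) : Nat := Bool.rec (eT2730 i) (eT2731 i) (Nat.ble 2802688 i)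
noncomputable def eT2733 (i : Nat) : Nat := Bool.rec (eT2729 i) (eT2732 i) (Nat.ble 2800640 i)
noncomputable def eT2734 (i : Nat) : Nat := Bool.rec (eT2727 i) (eT2733 i) (Nat.ble 2797568 i)
noncomputable def eT2735 (i : Nat) : Nat := Bool.rec (eL2740 i) (eL2741 i) (Nat.ble 2806784 i)
noncomputable def eT2736 (i : Nat) : Nat := Bool.rec (eL2739 i) (eT2735 i) (Nat.ble 2805760 i)
noncomputable def eT2737 (i : Nat) : Nat := Bool.rec (eL2742 i) (eL2743 i) (Nat.ble 2808832 i)
noncomputable def eT2738 (i : Nat) : Nat := Bool.rec (eL2744 i) (eL2745 i) (Nat.ble 2810880 i)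
noncomputable def eT2739 (i : Nat) : Nat := Bool.rec (eT2737 i) (eT2738 i) (Nat.ble 2809856 i)
noncomputable def eT2740 (i : Nat) : Nat := Bool.rec (eT2736 i) (eT2739 i) (Nat.ble 2807808 i)
noncomputable def eT2741 (i : Nat) : Nat := Bool.rec (eL2747 i) (eL2748 i) (Nat.ble 2813952 i)
noncomputable def eT2742 (i : Nat) : Nat := Bool.rec (eL2746 i) (eT2741 i) (Nat.ble 2812928 i)
noncomputable def eT2743 (i : Nat) : Nat := Bool.rec (eL2749 i) (eL2750 i) (Nat.ble 2816000 i)
noncomputable def eT2744 (i : Nat) : Nat := Bool.rec (eL2751 i) (eL2752 i) (Nat.ble 2818048 i)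
noncomputable def eT2745 (i : Nat) : Nat := Bool.rec (eT2743 i) (eT2744 i) (Nat.ble 2817024 i)
noncomputable def eT2746 (i : Nat) : Nat := Bool.rec (eT2742 i) (eT2745 i) (Nat.ble 2814976 i)
noncomputable def eT2747 (i : Nat) : Nat := Bool.rec (eT2740 i) (eT2746 i) (Nat.ble 2811904 i)
noncomputable def eT2748 (i : Nat) : Nat := Bool.rec (eT2734 i) (eT2747 i) (Nat.ble 2804736 i)
noncomputable def eT2749 (i : Nat) : Nat := Bool.rec (eT2721 i) (eT2748 i) (Nat.ble 2790400 i)
noncomputable def eT2750 (i : Nat) : Nat := Bool.rec (eL2754 i) (eL2755 i) (Nat.ble 2821120 i)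
noncomputable def eT2751 (i : Nat) : Nat := Bool.rec (eL2753 i) (eT2750 i) (Nat.ble 2820096 i)
noncomputable def eT2752 (i : Nat) : Nat := Bool.rec (eL2756 i) (eL2757 i) (Nat.ble 2823168 i)
noncomputable def eT2753 (i : Nat) : Nat := Bool.rec (eL2758 i) (eL2759 i) (Nat.ble 2825216 i)
noncomputable def eT2754 (i : Nat) : Nat := Bool.rec (eT2752 i) (eT2753 i) (Nat.ble 2824192 i)
noncomputable def eT2755 (i : Nat) : Nat := Bool.rec (eT2751 i) (eT2754 i) (Nat.ble 2822144 i)
noncomputable def eT2756 (i : Nat) : Nat := Bool.rec (eL2761 i) (eL2762 i) (Nat.ble 2828288 i)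
noncomputable def eT2757 (i : Nat) : Nat := Bool.rec (eL2760 i) (eT2756 i) (Nat.ble 2827264 i)
noncomputable def eT2758 (i : Nat) : Nat := Bool.rec (eL2763 i) (eL2764 i) (Nat.ble 2830336 i)
noncomputable def eT2759 (i : Nat) : Nat := Bool.rec (eL2765 i) (eL2766 i) (Nat.ble 2832384 i)
noncomputable def eT2760 (i : Nat) : Nat := Bool.rec (eT2758 i) (eT2759 i) (Nat.ble 2831360 i)
noncomputable def eT2761 (i : Nat) : Nat := Bool.rec (eT2757 i) (eT2760 i) (Nat.ble 2829312 i)
noncomputable def eT2762 (i : Nat) : Nat := Bool.rec (eT2755 i) (eT2761 i) (Nat.ble 2826240 i)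
noncomputable def eT2763 (i : Nat) : Nat := Bool.rec (eL2768 i) (eL2769 i) (Nat.ble 2835456 i)
noncomputable def eT2764 (i : Nat) : Nat := Bool.rec (eL2767 i) (eT2763 i) (Nat.ble 2834432 i)
noncomputable def eT2765 (i : Nat) : Nat := Bool.rec (eL2770 i) (eL2771 i) (Nat.ble 2837504 i)
noncomputable def eT2766 (i : Nat) : Nat := Bool.rec (eL2772 i) (eL2773 i) (Nat.ble 2839552 i)
noncomputable def eT2767 (i : Nat) : Nat := Bool.rec (eT2765 i) (eT2766 i) (Nat.ble 2838528 i)
noncomputable def eT2768 (i : Nat) : Nat := Bool.rec (eT2764 i) (eT2767 i) (Nat.ble 2836480 i)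
noncomputable def eT2769 (i : Nat) : Nat := Bool.rec (eL2775 i) (eL2776 i) (Nat.ble 2842624 i)
noncomputable def eT2770 (i : Nat) : Nat := Bool.rec (eL2774 i) (eT2769 i) (Nat.ble 2841600 i)
noncomputable def eT2771 (i : Nat) : Nat := Bool.rec (eL2777 i) (eL2778 i) (Nat.ble 2844672 i)
noncomputable def eT2772 (i : Nat) : Nat := Bool.rec (eL2779 i) (eL2780 i) (Nat.ble 2846720 i)
noncomputable def eT2773 (i : Nat) : Nat := Bool.rec (eT2771 i) (eT2772 i) (Nat.ble 2845696 i)
noncomputable def eT2774 (i : Nat) : Nat := Bool.rec (eT2770 i) (eT2773 i) (Nat.ble 2843648 i)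
noncomputable def eT2775 (i : Nat) : Nat := Bool.rec (eT2768 i) (eT2774 i) (Nat.ble 2840576 i)
noncomputable def eT2776 (i : Nat) : Nat := Bool.rec (eT2762 i) (eT2775 i) (Nat.ble 2833408 i)
noncomputable def eT2777 (i : Nat) : Nat := Bool.rec (eL2782 i) (eL2783 i) (Nat.ble 2849792 i)
noncomputable def eT2778 (i : Nat) : Nat := Bool.rec (eL2781 i) (eT2777 i) (Nat.ble 2848768 i)
noncomputable def eT2779 (i : Nat) : Nat := Bool.rec (eL2784 i) (eL2785 i) (Nat.ble 2851840 i)
noncomputable def eT2780 (i : Nat) : Nat := Bool.rec (eL2786 i) (eL2787 i) (Nat.ble 2853888 i)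
noncomputable def eT2781 (i : Nat) : Nat := Bool.rec (eT2779 i) (eT2780 i) (Nat.ble 2852864 i)
noncomputable def eT2782 (i : Nat) : Nat := Bool.rec (eT2778 i) (eT2781 i) (Nat.ble 2850816 i)
noncomputable def eT2783 (i : Nat) : Nat := Bool.rec (eL2789 i) (eL2790 i) (Nat.ble 2856960 i)
noncomputable def eT2784 (i : Nat) : Nat := Bool.rec (eL2788 i) (eT2783 i) (Nat.ble 2855936 i)
noncomputable def eT2785 (i : Nat) : Nat := Bool.rec (eL2791 i) (eL2792 i) (Nat.ble 2859008 i)
noncomputable def eT2786 (i : Nat) : Nat := Bool.rec (eL2793 i) (eL2794 i) (Nat.ble 2861056 i)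
noncomputable def eT2787 (i : Nat) : Nat := Bool.rec (eT2785 i) (eT2786 i) (Nat.ble 2860032 i)
noncomputable def eT2788 (i : Nat) : Nat := Bool.rec (eT2784 i) (eT2787 i) (Nat.ble 2857984 i)
noncomputable def eT2789 (i : Nat) : Nat := Bool.rec (eT2782 i) (eT2788 i) (Nat.ble 2854912 i)
noncomputable def eT2790 (i : Nat) : Nat := Bool.rec (eL2796 i) (eL2797 i) (Nat.ble 2864128 i)
noncomputable def eT2791 (i : Nat) : Nat := Bool.rec (eL2795 i) (eT2790 i) (Nat.ble 2863104 i)
noncomputable def eT2792 (i : Nat) : Nat := Bool.rec (eL2798 i) (eL2799 i) (Nat.ble 2866176 i)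
noncomputable def eT2793 (i : Nat) : Nat := Bool.rec (eL2800 i) (eL2801 i) (Nat.ble 2868224 i)
noncomputable def eT2794 (i : Nat) : Nat := Bool.rec (eT2792 i) (eT2793 i) (Nat.ble 2867200 i)
noncomputable def eT2795 (i : Nat) : Nat := Bool.rec (eT2791 i) (eT2794 i) (Nat.ble 2865152 i)
noncomputable def eT2796 (i : Nat) : Nat := Bool.rec (eL2803 i) (eL2804 i) (Nat.ble 2871296 i)
noncomputable def eT2797 (i : Nat) : Nat := Bool.rec (eL2802 i) (eT2796 i) (Nat.ble 2870272 i)
noncomputable def eT2798 (i : Nat) : Nat := Bool.rec (eL2805 i) (eL2806 i) (Nat.ble 2873344 i)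
noncomputable def eT2799 (i : Nat) : Nat := Bool.rec (eL2807 i) (eL2808 i) (Nat.ble 2875392 i)
noncomputable def eT2800 (i : Nat) : Nat := Bool.rec (eT2798 i) (eT2799 i) (Nat.ble 2874368 i)
noncomputable def eT2801 (i : Nat) : Nat := Bool.rec (eT2797 i) (eT2800 i) (Nat.ble 2872320 i)
noncomputable def eT2802 (i : Nat) : Nat := Bool.rec (eT2795 i) (eT2801 i) (Nat.ble 2869248 i)
noncomputable def eT2803 (i : Nat) : Nat := Bool.rec (eT2789 i) (eT2802 i) (Nat.ble 2862080 i)
noncomputable def eT2804 (i : Nat) : Nat := Bool.rec (eT2776 i) (eT2803 i) (Nat.ble 2847744 i)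
noncomputable def eT2805 (i : Nat) : Nat := Bool.rec (eT2749 i) (eT2804 i) (Nat.ble 2819072 i)
noncomputable def eT2806 (i : Nat) : Nat := Bool.rec (eL2810 i) (eL2811 i) (Nat.ble 2878464 i)
noncomputable def eT2807 (i : Nat) : Nat := Bool.rec (eL2809 i) (eT2806 i) (Nat.ble 2877440 i)
noncomputable def eT2808 (i : Nat) : Nat := Bool.rec (eL2812 i) (eL2813 i) (Nat.ble 2880512 i)
noncomputable def eT2809 (i : Nat) : Nat := Bool.rec (eL2814 i) (eL2815 i) (Nat.ble 2882560 i)
noncomputable def eT2810 (i : Nat) : Nat := Bool.rec (eT2808 i) (eT2809 i) (Nat.ble 2881536 i)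
noncomputable def eT2811 (i : Nat) : Nat := Bool.rec (eT2807 i) (eT2810 i) (Nat.ble 2879488 i)
noncomputable def eT2812 (i : Nat) : Nat := Bool.rec (eL2817 i) (eL2818 i) (Nat.ble 2885632 i)
noncomputable def eT2813 (i : Nat) : Nat := Bool.rec (eL2816 i) (eT2812 i) (Nat.ble 2884608 i)
noncomputable def eT2814 (i : Nat) : Nat := Bool.rec (eL2819 i) (eL2820 i) (Nat.ble 2887680 i)
noncomputable def eT2815 (i : Nat) : Nat := Bool.rec (eL2821 i) (eL2822 i) (Nat.ble 2889728 i)
noncomputable def eT2816 (i : Nat) : Nat := Bool.rec (eT2814 i) (eT2815 i) (Nat.ble 2888704 i)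
noncomputable def eT2817 (i : Nat) : Nat := Bool.rec (eT2813 i) (eT2816 i) (Nat.ble 2886656 i)
noncomputable def eT2818 (i : Nat) : Nat := Bool.rec (eT2811 i) (eT2817 i) (Nat.ble 2883584 i)
noncomputable def eT2819 (i : Nat) : Nat := Bool.rec (eL2824 i) (eL2825 i) (Nat.ble 2892800 i)
noncomputable def eT2820 (i : Nat) : Nat := Bool.rec (eL2823 i) (eT2819 i) (Nat.ble 2891776 i)
noncomputable def eT2821 (i : Nat) : Nat := Bool.rec (eL2826 i) (eL2827 i) (Nat.ble 2894848 i)
noncomputable def eT2822 (i : Nat) : Nat := Bool.rec (eL2828 i) (eL2829 i) (Nat.ble 2896896 i)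
noncomputable def eT2823 (i : Nat) : Nat := Bool.rec (eT2821 i) (eT2822 i) (Nat.ble 2895872 i)
noncomputable def eT2824 (i : Nat) : Nat := Bool.rec (eT2820 i) (eT2823 i) (Nat.ble 2893824 i)
noncomputable def eT2825 (i : Nat) : Nat := Bool.rec (eL2831 i) (eL2832 i) (Nat.ble 2899968 i)
noncomputable def eT2826 (i : Nat) : Nat := Bool.rec (eL2830 i) (eT2825 i) (Nat.ble 2898944 i)
noncomputable def eT2827 (i : Nat) : Nat := Bool.rec (eL2833 i) (eL2834 i) (Nat.ble 2902016 i)
noncomputable def eT2828 (i : Nat) : Nat := Bool.rec (eL2835 i) (eL2836 i) (Nat.ble 2904064 i)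
noncomputable def eT2829 (i : Nat) : Nat := Bool.rec (eT2827 i) (eT2828 i) (Nat.ble 2903040 i)
noncomputable def eT2830 (i : Nat) : Nat := Bool.rec (eT2826 i) (eT2829 i) (Nat.ble 2900992 i)
noncomputable def eT2831 (i : Nat) : Nat := Bool.rec (eT2824 i) (eT2830 i) (Nat.ble 2897920 i)
noncomputable def eT2832 (i : Nat) : Nat := Bool.rec (eT2818 i) (eT2831 i) (Nat.ble 2890752 i)
noncomputable def eT2833 (i : Nat) : Nat := Bool.rec (eL2838 i) (eL2839 i) (Nat.ble 2907136 i)
noncomputable def eT2834 (i : Nat) : Nat := Bool.rec (eL2837 i) (eT2833 i) (Nat.ble 2906112 i)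
noncomputable def eT2835 (i : Nat) : Nat := Bool.rec (eL2840 i) (eL2841 i) (Nat.ble 2909184 i)
noncomputable def eT2836 (i : Nat) : Nat := Bool.rec (eL2842 i) (eL2843 i) (Nat.ble 2911232 i)
noncomputable def eT2837 (i : Nat) : Nat := Bool.rec (eT2835 i) (eT2836 i) (Nat.ble 2910208 i)
noncomputable def eT2838 (i : Nat) : Nat := Bool.rec (eT2834 i) (eT2837 i) (Nat.ble 2908160 i)
noncomputable def eT2839 (i : Nat) : Nat := Bool.rec (eL2845 i) (eL2846 i) (Nat.ble 2914304 i)
noncomputable def eT2840 (i : Nat) : Nat := Bool.rec (eL2844 i) (eT2839 i) (Nat.ble 2913280 i)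
noncomputable def eT2841 (i : Nat) : Nat := Bool.rec (eL2847 i) (eL2848 i) (Nat.ble 2916352 i)
noncomputable def eT2842 (i : Nat) : Nat := Bool.rec (eL2849 i) (eL2850 i) (Nat.ble 2918400 i)
noncomputable def eT2843 (i : Nat) : Nat := Bool.rec (eT2841 i) (eT2842 i) (Nat.ble 2917376 i)
noncomputable def eT2844 (i : Nat) : Nat := Bool.rec (eT2840 i) (eT2843 i) (Nat.ble 2915328 i)
noncomputable def eT2845 (i : Nat) : Nat := Bool.rec (eT2838 i) (eT2844 i) (Nat.ble 2912256 i)
noncomputable def eT2846 (i : Nat) : Nat := Bool.rec (eL2852 i) (eL2853 i) (Nat.ble 2921472 i)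
noncomputable def eT2847 (i : Nat) : Nat := Bool.rec (eL2851 i) (eT2846 i) (Nat.ble 2920448 i)
noncomputable def eT2848 (i : Nat) : Nat := Bool.rec (eL2854 i) (eL2855 i) (Nat.ble 2923520 i)
noncomputable def eT2849 (i : Nat) : Nat := Bool.rec (eL2856 i) (eL2857 i) (Nat.ble 2925568 i)
noncomputable def eT2850 (i : Nat) : Nat := Bool.rec (eT2848 i) (eT2849 i) (Nat.ble 2924544 i)
noncomputable def eT2851 (i : Nat) : Nat := Bool.rec (eT2847 i) (eT2850 i) (Nat.ble 2922496 i)
noncomputable def eT2852 (i : Nat) : Nat := Bool.rec (eL2859 i) (eL2860 i) (Nat.ble 2928640 i)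
noncomputable def eT2853 (i : Nat) : Nat := Bool.rec (eL2858 i) (eT2852 i) (Nat.ble 2927616 i)
noncomputable def eT2854 (i : Nat) : Nat := Bool.rec (eL2861 i) (eL2862 i) (Nat.ble 2930688 i)
noncomputable def eT2855 (i : Nat) : Nat := Bool.rec (eL2863 i) (eL2864 i) (Nat.ble 2932736 i)
noncomputable def eT2856 (i : Nat) : Nat := Bool.rec (eT2854 i) (eT2855 i) (Nat.ble 2931712 i)
noncomputable def eT2857 (i : Nat) : Nat := Bool.rec (eT2853 i) (eT2856 i) (Nat.ble 2929664 i)
noncomputable def eT2858 (i : Nat) : Nat := Bool.rec (eT2851 i) (eT2857 i) (Nat.ble 2926592 i)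
noncomputable def eT2859 (i : Nat) : Nat := Bool.rec (eT2845 i) (eT2858 i) (Nat.ble 2919424 i)
noncomputable def eT2860 (i : Nat) : Nat := Bool.rec (eT2832 i) (eT2859 i) (Nat.ble 2905088 i)
noncomputable def eT2861 (i : Nat) : Nat := Bool.rec (eL2866 i) (eL2867 i) (Nat.ble 2935808 i)
noncomputable def eT2862 (i : Nat) : Nat := Bool.rec (eL2865 i) (eT2861 i) (Nat.ble 2934784 i)
noncomputable def eT2863 (i : Nat) : Nat := Bool.rec (eL2868 i) (eL2869 i) (Nat.ble 2937856 i)
noncomputable def eT2864 (i : Nat) : Nat := Bool.rec (eL2870 i) (eL2871 i) (Nat.ble 2939904 i)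
noncomputable def eT2865 (i : Nat) : Nat := Bool.rec (eT2863 i) (eT2864 i) (Nat.ble 2938880 i)
noncomputable def eT2866 (i : Nat) : Nat := Bool.rec (eT2862 i) (eT2865 i) (Nat.ble 2936832 i)
noncomputable def eT2867 (i : Nat) : Nat := Bool.rec (eL2873 i) (eL2874 i) (Nat.ble 2942976 i)
noncomputable def eT2868 (i : Nat) : Nat := Bool.rec (eL2872 i) (eT2867 i) (Nat.ble 2941952 i)
noncomputable def eT2869 (i : Nat) : Nat := Bool.rec (eL2875 i) (eL2876 i) (Nat.ble 2945024 i)
noncomputable def eT2870 (i : Nat) : Nat := Bool.rec (eL2877 i) (eL2878 i) (Nat.ble 2947072 i)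
noncomputable def eT2871 (i : Nat) : Nat := Bool.rec (eT2869 i) (eT2870 i) (Nat.ble 2946048 i)
noncomputable def eT2872 (i : Nat) : Nat := Bool.rec (eT2868 i) (eT2871 i) (Nat.ble 2944000 i)
noncomputable def eT2873 (i : Nat) : Nat := Bool.rec (eT2866 i) (eT2872 i) (Nat.ble 2940928 i)
noncomputable def eT2874 (i : Nat) : Nat := Bool.rec (eL2880 i) (eL2881 i) (Nat.ble 2950144 i)
noncomputable def eT2875 (i : Nat) : Nat := Bool.rec (eL2879 i) (eT2874 i) (Nat.ble 2949120 i)
noncomputable def eT2876 (i : Nat) : Nat := Bool.rec (eL2882 i) (eL2883 i) (Nat.ble 2952192 i)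
noncomputable def eT2877 (i : Nat) : Nat := Bool.rec (eL2884 i) (eL2885 i) (Nat.ble 2954240 i)
noncomputable def eT2878 (i : Nat) : Nat := Bool.rec (eT2876 i) (eT2877 i) (Nat.ble 2953216 i)
noncomputable def eT2879 (i : Nat) : Nat := Bool.rec (eT2875 i) (eT2878 i) (Nat.ble 2951168 i)
noncomputable def eT2880 (i : Nat) : Nat := Bool.rec (eL2887 i) (eL2888 i) (Nat.ble 2957312 i)
noncomputable def eT2881 (i : Nat) : Nat := Bool.rec (eL2886 i) (eT2880 i) (Nat.ble 2956288 i)
noncomputable def eT2882 (i : Nat) : Nat := Bool.rec (eL2889 i) (eL2890 i) (Nat.ble 2959360 i)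
noncomputable def eT2883 (i : Nat) : Nat := Bool.rec (eL2891 i) (eL2892 i) (Nat.ble 2961408 i)
noncomputable def eT2884 (i : Nat) : Nat := Bool.rec (eT2882 i) (eT2883 i) (Nat.ble 2960384 i)
noncomputable def eT2885 (i : Nat) : Nat := Bool.rec (eT2881 i) (eT2884 i) (Nat.ble 2958336 i)
noncomputable def eT2886 (i : Nat) : Nat := Bool.rec (eT2879 i) (eT2885 i) (Nat.ble 2955264 i)
noncomputable def eT2887 (i : Nat) : Nat := Bool.rec (eT2873 i) (eT2886 i) (Nat.ble 2948096 i)
noncomputable def eT2888 (i : Nat) : Nat := Bool.rec (eL2894 i) (eL2895 i) (Nat.ble 2964480 i)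
noncomputable def eT2889 (i : Nat) : Nat := Bool.rec (eL2893 i) (eT2888 i) (Nat.ble 2963456 i)
noncomputable def eT2890 (i : Nat) : Nat := Bool.rec (eL2896 i) (eL2897 i) (Nat.ble 2966528 i)
noncomputable def eT2891 (i : Nat) : Nat := Bool.rec (eL2898 i) (eL2899 i) (Nat.ble 2968576 i)
noncomputable def eT2892 (i : Nat) : Nat := Bool.rec (eT2890 i) (eT2891 i) (Nat.ble 2967552 i)
noncomputable def eT2893 (i : Nat) : Nat := Bool.rec (eT2889 i) (eT2892 i) (Nat.ble 2965504 i)
noncomputable def eT2894 (i : Nat) : Nat := Bool.rec (eL2901 i) (eL2902 i) (Nat.ble 2971648 i)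
noncomputable def eT2895 (i : Nat) : Nat := Bool.rec (eL2900 i) (eT2894 i) (Nat.ble 2970624 i)
noncomputable def eT2896 (i : Nat) : Nat := Bool.rec (eL2903 i) (eL2904 i) (Nat.ble 2973696 i)
noncomputable def eT2897 (i : Nat) : Nat := Bool.rec (eL2905 i) (eL2906 i) (Nat.ble 2975744 i)
noncomputable def eT2898 (i : Nat) : Nat := Bool.rec (eT2896 i) (eT2897 i) (Nat.ble 2974720 i)
noncomputable def eT2899 (i : Nat) : Nat := Bool.rec (eT2895 i) (eT2898 i) (Nat.ble 2972672 i)
noncomputable def eT2900 (i : Nat) : Nat := Bool.rec (eT2893 i) (eT2899 i) (Nat.ble 2969600 i)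
noncomputable def eT2901 (i : Nat) : Nat := Bool.rec (eL2908 i) (eL2909 i) (Nat.ble 2978816 i)
noncomputable def eT2902 (i : Nat) : Nat := Bool.rec (eL2907 i) (eT2901 i) (Nat.ble 2977792 i)
noncomputable def eT2903 (i : Nat) : Nat := Bool.rec (eL2910 i) (eL2911 i) (Nat.ble 2980864 i)
noncomputable def eT2904 (i : Nat) : Nat := Bool.rec (eL2912 i) (eL2913 i) (Nat.ble 2982912 i)
noncomputable def eT2905 (i : Nat) : Nat := Bool.rec (eT2903 i) (eT2904 i) (Nat.ble 2981888 i)
noncomputable def eT2906 (i : Nat) : Nat := Bool.rec (eT2902 i) (eT2905 i) (Nat.ble 2979840 i)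
noncomputable def eT2907 (i : Nat) : Nat := Bool.rec (eL2914 i) (eL2915 i) (Nat.ble 2984960 i)
noncomputable def eT2908 (i : Nat) : Nat := Bool.rec (eL2916 i) (eL2917 i) (Nat.ble 2987008 i)
noncomputable def eT2909 (i : Nat) : Nat := Bool.rec (eT2907 i) (eT2908 i) (Nat.ble 2985984 i)
noncomputable def eT2910 (i : Nat) : Nat := Bool.rec (eL2918 i) (eL2919 i) (Nat.ble 2989056 i)
noncomputable def eT2911 (i : Nat) : Nat := Bool.rec (eL2920 i) (eL2921 i) (Nat.ble 2991104 i)
noncomputable def eT2912 (i : Nat) : Nat := Bool.rec (eT2910 i) (eT2911 i) (Nat.ble 2990080 i)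
noncomputable def eT2913 (i : Nat) : Nat := Bool.rec (eT2909 i) (eT2912 i) (Nat.ble 2988032 i)
noncomputable def eT2914 (i : Nat) : Nat := Bool.rec (eT2906 i) (eT2913 i) (Nat.ble 2983936 i)
noncomputable def eT2915 (i : Nat) : Nat := Bool.rec (eT2900 i) (eT2914 i) (Nat.ble 2976768 i)
noncomputable def eT2916 (i : Nat) : Nat := Bool.rec (eT2887 i) (eT2915 i) (Nat.ble 2962432 i)
noncomputable def eT2917 (i : Nat) : Nat := Bool.rec (eT2860 i) (eT2916 i) (Nat.ble 2933760 i)
noncomputable def eT2918 (i : Nat) : Nat := Bool.rec (eT2805 i) (eT2917 i) (Nat.ble 2876416 i)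
noncomputable def eT2919 (i : Nat) : Nat := Bool.rec (eL2923 i) (eL2924 i) (Nat.ble 2994176 i)
noncomputable def eT2920 (i : Nat) : Nat := Bool.rec (eL2922 i) (eT2919 i) (Nat.ble 2993152 i)
noncomputable def eT2921 (i : Nat) : Nat := Bool.rec (eL2925 i) (eL2926 i) (Nat.ble 2996224 i)
noncomputable def eT2922 (i : Nat) : Nat := Bool.rec (eL2927 i) (eL2928 i) (Nat.ble 2998272 i)
noncomputable def eT2923 (i : Nat) : Nat := Bool.rec (eT2921 i) (eT2922 i) (Nat.ble 2997248 i)
noncomputable def eT2924 (i : Nat) : Nat := Bool.rec (eT2920 i) (eT2923 i) (Nat.ble 2995200 i)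
noncomputable def eT2925 (i : Nat) : Nat := Bool.rec (eL2930 i) (eL2931 i) (Nat.ble 3001344 i)
noncomputable def eT2926 (i : Nat) : Nat := Bool.rec (eL2929 i) (eT2925 i) (Nat.ble 3000320 i)
noncomputable def eT2927 (i : Nat) : Nat := Bool.rec (eL2932 i) (eL2933 i) (Nat.ble 3003392 i)
noncomputable def eT2928 (i : Nat) : Nat := Bool.rec (eL2934 i) (eL2935 i) (Nat.ble 3005440 i)
noncomputable def eT2929 (i : Nat) : Nat := Bool.rec (eT2927 i) (eT2928 i) (Nat.ble 3004416 i)
noncomputable def eT2930 (i : Nat) : Nat := Bool.rec (eT2926 i) (eT2929 i) (Nat.ble 3002368 i)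
noncomputable def eT2931 (i : Nat) : Nat := Bool.rec (eT2924 i) (eT2930 i) (Nat.ble 2999296 i)
noncomputable def eT2932 (i : Nat) : Nat := Bool.rec (eL2937 i) (eL2938 i) (Nat.ble 3008512 i)
noncomputable def eT2933 (i : Nat) : Nat := Bool.rec (eL2936 i) (eT2932 i) (Nat.ble 3007488 i)
noncomputable def eT2934 (i : Nat) : Nat := Bool.rec (eL2939 i) (eL2940 i) (Nat.ble 3010560 i)
noncomputable def eT2935 (i : Nat) : Nat := Bool.rec (eL2941 i) (eL2942 i) (Nat.ble 3012608 i)
noncomputable def eT2936 (i : Nat) : Nat := Bool.rec (eT2934 i) (eT2935 i) (Nat.ble 3011584 i)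
noncomputable def eT2937 (i : Nat) : Nat := Bool.rec (eT2933 i) (eT2936 i) (Nat.ble 3009536 i)
noncomputable def eT2938 (i : Nat) : Nat := Bool.rec (eL2944 i) (eL2945 i) (Nat.ble 3015680 i)
noncomputable def eT2939 (i : Nat) : Nat := Bool.rec (eL2943 i) (eT2938 i) (Nat.ble 3014656 i)
noncomputable def eT2940 (i : Nat) : Nat := Bool.rec (eL2946 i) (eL2947 i) (Nat.ble 3017728 i)
noncomputable def eT2941 (i : Nat) : Nat := Bool.rec (eL2948 i) (eL2949 i) (Nat.ble 3019776 i)
noncomputable def eT2942 (i : Nat) : Nat := Bool.rec (eT2940 i) (eT2941 i) (Nat.ble 3018752 i)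
noncomputable def eT2943 (i : Nat) : Nat := Bool.rec (eT2939 i) (eT2942 i) (Nat.ble 3016704 i)
noncomputable def eT2944 (i : Nat) : Nat := Bool.rec (eT2937 i) (eT2943 i) (Nat.ble 3013632 i)
noncomputable def eT2945 (i : Nat) : Nat := Bool.rec (eT2931 i) (eT2944 i) (Nat.ble 3006464 i)
noncomputable def eT2946 (i : Nat) : Nat := Bool.rec (eL2951 i) (eL2952 i) (Nat.ble 3022848 i)
noncomputable def eT2947 (i : Nat) : Nat := Bool.rec (eL2950 i) (eT2946 i) (Nat.ble 3021824 i)
noncomputable def eT2948 (i : Nat) : Nat := Bool.rec (eL2953 i) (eL2954 i) (Nat.ble 3024896 i)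
noncomputable def eT2949 (i : Nat) : Nat := Bool.rec (eL2955 i) (eL2956 i) (Nat.ble 3026944 i)
noncomputable def eT2950 (i : Nat) : Nat := Bool.rec (eT2948 i) (eT2949 i) (Nat.ble 3025920 i)
noncomputable def eT2951 (i : Nat) : Nat := Bool.rec (eT2947 i) (eT2950 i) (Nat.ble 3023872 i)
noncomputable def eT2952 (i : Nat) : Nat := Bool.rec (eL2958 i) (eL2959 i) (Nat.ble 3030016 i)
noncomputable def eT2953 (i : Nat) : Nat := Bool.rec (eL2957 i) (eT2952 i) (Nat.ble 3028992 i)
noncomputable def eT2954 (i : Nat) : Nat := Bool.rec (eL2960 i) (eL2961 i) (Nat.ble 3032064 i)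
noncomputable def eT2955 (i : Nat) : Nat := Bool.rec (eL2962 i) (eL2963 i) (Nat.ble 3034112 i)
noncomputable def eT2956 (i : Nat) : Nat := Bool.rec (eT2954 i) (eT2955 i) (Nat.ble 3033088 i)
noncomputable def eT2957 (i : Nat) : Nat := Bool.rec (eT2953 i) (eT2956 i) (Nat.ble 3031040 i)
noncomputable def eT2958 (i : Nat) : Nat := Bool.rec (eT2951 i) (eT2957 i) (Nat.ble 3027968 i)
noncomputable def eT2959 (i : Nat) : Nat := Bool.rec (eL2965 i) (eL2966 i) (Nat.ble 3037184 i)
noncomputable def eT2960 (i : Nat) : Nat := Bool.rec (eL2964 i) (eT2959 i) (Nat.ble 3036160 i)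
noncomputable def eT2961 (i : Nat) : Nat := Bool.rec (eL2967 i) (eL2968 i) (Nat.ble 3039232 i)
noncomputable def eT2962 (i : Nat) : Nat := Bool.rec (eL2969 i) (eL2970 i) (Nat.ble 3041280 i)
noncomputable def eT2963 (i : Nat) : Nat := Bool.rec (eT2961 i) (eT2962 i) (Nat.ble 3040256 i)
noncomputable def eT2964 (i : Nat) : Nat := Bool.rec (eT2960 i) (eT2963 i) (Nat.ble 3038208 i)
noncomputable def eT2965 (i : Nat) : Nat := Bool.rec (eL2972 i) (eL2973 i) (Nat.ble 3044352 i)
noncomputable def eT2966 (i : Nat) : Nat := Bool.rec (eL2971 i) (eT2965 i) (Nat.ble 3043328 i)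
noncomputable def eT2967 (i : Nat) : Nat := Bool.rec (eL2974 i) (eL2975 i) (Nat.ble 3046400 i)
noncomputable def eT2968 (i : Nat) : Nat := Bool.rec (eL2976 i) (eL2977 i) (Nat.ble 3048448 i)
noncomputable def eT2969 (i : Nat) : Nat := Bool.rec (eT2967 i) (eT2968 i) (Nat.ble 3047424 i)
noncomputable def eT2970 (i : Nat) : Nat := Bool.rec (eT2966 i) (eT2969 i) (Nat.ble 3045376 i)
noncomputable def eT2971 (i : Nat) : Nat := Bool.rec (eT2964 i) (eT2970 i) (Nat.ble 3042304 i)
noncomputable def eT2972 (i : Nat) : Nat := Bool.rec (eT2958 i) (eT2971 i) (Nat.ble 3035136 i)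
noncomputable def eT2973 (i : Nat) : Nat := Bool.rec (eT2945 i) (eT2972 i) (Nat.ble 3020800 i)
noncomputable def eT2974 (i : Nat) : Nat := Bool.rec (eL2979 i) (eL2980 i) (Nat.ble 3051520 i)
noncomputable def eT2975 (i : Nat) : Nat := Bool.rec (eL2978 i) (eT2974 i) (Nat.ble 3050496 i)
noncomputable def eT2976 (i : Nat) : Nat := Bool.rec (eL2981 i) (eL2982 i) (Nat.ble 3053568 i)
noncomputable def eT2977 (i : Nat) : Nat := Bool.rec (eL2983 i) (eL2984 i) (Nat.ble 3055616 i)
noncomputable def eT2978 (i : Nat) : Nat := Bool.rec (eT2976 i) (eT2977 i) (Nat.ble 3054592 i)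
noncomputable def eT2979 (i : Nat) : Nat := Bool.rec (eT2975 i) (eT2978 i) (Nat.ble 3052544 i)
noncomputable def eT2980 (i : Nat) : Nat := Bool.rec (eL2986 i) (eL2987 i) (Nat.ble 3058688 i)
noncomputable def eT2981 (i : Nat) : Nat := Bool.rec (eL2985 i) (eT2980 i) (Nat.ble 3057664 i)
noncomputable def eT2982 (i : Nat) : Nat := Bool.rec (eL2988 i) (eL2989 i) (Nat.ble 3060736 i)
noncomputable def eT2983 (i : Nat) : Nat := Bool.rec (eL2990 i) (eL2991 i) (Nat.ble 3062784 i)
noncomputable def eT2984 (i : Nat) : Nat := Bool.rec (eT2982 i) (eT2983 i) (Nat.ble 3061760 i)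
noncomputable def eT2985 (i : Nat) : Nat := Bool.rec (eT2981 i) (eT2984 i) (Nat.ble 3059712 i)
noncomputable def eT2986 (i : Nat) : Nat := Bool.rec (eT2979 i) (eT2985 i) (Nat.ble 3056640 i)
noncomputable def eT2987 (i : Nat) : Nat := Bool.rec (eL2993 i) (eL2994 i) (Nat.ble 3065856 i)
noncomputable def eT2988 (i : Nat) : Nat := Bool.rec (eL2992 i) (eT2987 i) (Nat.ble 3064832 i)
noncomputable def eT2989 (i : Nat) : Nat := Bool.rec (eL2995 i) (eL2996 i) (Nat.ble 3067904 i)
noncomputable def eT2990 (i : Nat) : Nat := Bool.rec (eL2997 i) (eL2998 i) (Nat.ble 3069952 i)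
noncomputable def eT2991 (i : Nat) : Nat := Bool.rec (eT2989 i) (eT2990 i) (Nat.ble 3068928 i)
noncomputable def eT2992 (i : Nat) : Nat := Bool.rec (eT2988 i) (eT2991 i) (Nat.ble 3066880 i)
noncomputable def eT2993 (i : Nat) : Nat := Bool.rec (eL3000 i) (eL3001 i) (Nat.ble 3073024 i)
noncomputable def eT2994 (i : Nat) : Nat := Bool.rec (eL2999 i) (eT2993 i) (Nat.ble 3072000 i)
noncomputable def eT2995 (i : Nat) : Nat := Bool.rec (eL3002 i) (eL3003 i) (Nat.ble 3075072 i)
noncomputable def eT2996 (i : Nat) : Nat := Bool.rec (eL3004 i) (eL3005 i) (Nat.ble 3077120 i)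
noncomputable def eT2997 (i : Nat) : Nat := Bool.rec (eT2995 i) (eT2996 i) (Nat.ble 3076096 i)
noncomputable def eT2998 (i : Nat) : Nat := Bool.rec (eT2994 i) (eT2997 i) (Nat.ble 3074048 i)
noncomputable def eT2999 (i : Nat) : Nat := Bool.rec (eT2992 i) (eT2998 i) (Nat.ble 3070976 i)
noncomputable def eT3000 (i : Nat) : Nat := Bool.rec (eT2986 i) (eT2999 i) (Nat.ble 3063808 i)
noncomputable def eT3001 (i : Nat) : Nat := Bool.rec (eL3007 i) (eL3008 i) (Nat.ble 3080192 i)
noncomputable def eT3002 (i : Nat) : Nat := Bool.rec (eL3006 i) (eT3001 i) (Nat.ble 3079168 i)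
noncomputable def eT3003 (i : Nat) : Nat := Bool.rec (eL3009 i) (eL3010 i) (Nat.ble 3082240 i)
noncomputable def eT3004 (i : Nat) : Nat := Bool.rec (eL3011 i) (eL3012 i) (Nat.ble 3084288 i)
noncomputable def eT3005 (i : Nat) : Nat := Bool.rec (eT3003 i) (eT3004 i) (Nat.ble 3083264 i)
noncomputable def eT3006 (i : Nat) : Nat := Bool.rec (eT3002 i) (eT3005 i) (Nat.ble 3081216 i)
noncomputable def eT3007 (i : Nat) : Nat := Bool.rec (eL3014 i) (eL3015 i) (Nat.ble 3087360 i)
noncomputable def eT3008 (i : Nat) : Nat := Bool.rec (eL3013 i) (eT3007 i) (Nat.ble 3086336 i)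
noncomputable def eT3009 (i : Nat) : Nat := Bool.rec (eL3016 i) (eL3017 i) (Nat.ble 3089408 i)
noncomputable def eT3010 (i : Nat) : Nat := Bool.rec (eL3018 i) (eL3019 i) (Nat.ble 3091456 i)
noncomputable def eT3011 (i : Nat) : Nat := Bool.rec (eT3009 i) (eT3010 i) (Nat.ble 3090432 i)
noncomputable def eT3012 (i : Nat) : Nat := Bool.rec (eT3008 i) (eT3011 i) (Nat.ble 3088384 i)
noncomputable def eT3013 (i : Nat) : Nat := Bool.rec (eT3006 i) (eT3012 i) (Nat.ble 3085312 i)
noncomputable def eT3014 (i : Nat) : Nat := Bool.rec (eL3021 i) (eL3022 i) (Nat.ble 3094528 i)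
noncomputable def eT3015 (i : Nat) : Nat := Bool.rec (eL3020 i) (eT3014 i) (Nat.ble 3093504 i)
noncomputable def eT3016 (i : Nat) : Nat := Bool.rec (eL3023 i) (eL3024 i) (Nat.ble 3096576 i)
noncomputable def eT3017 (i : Nat) : Nat := Bool.rec (eL3025 i) (eL3026 i) (Nat.ble 3098624 i)
noncomputable def eT3018 (i : Nat) : Nat := Bool.rec (eT3016 i) (eT3017 i) (Nat.ble 3097600 i)
noncomputable def eT3019 (i : Nat) : Nat := Bool.rec (eT3015 i) (eT3018 i) (Nat.ble 3095552 i)
noncomputable def eT3020 (i : Nat) : Nat := Bool.rec (eL3028 i) (eL3029 i) (Nat.ble 3101696 i)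
noncomputable def eT3021 (i : Nat) : Nat := Bool.rec (eL3027 i) (eT3020 i) (Nat.ble 3100672 i)
noncomputable def eT3022 (i : Nat) : Nat := Bool.rec (eL3030 i) (eL3031 i) (Nat.ble 3103744 i)
noncomputable def eT3023 (i : Nat) : Nat := Bool.rec (eL3032 i) (eL3033 i) (Nat.ble 3105792 i)
noncomputable def eT3024 (i : Nat) : Nat := Bool.rec (eT3022 i) (eT3023 i) (Nat.ble 3104768 i)
noncomputable def eT3025 (i : Nat) : Nat := Bool.rec (eT3021 i) (eT3024 i) (Nat.ble 3102720 i)
noncomputable def eT3026 (i : Nat) : Nat := Bool.rec (eT3019 i) (eT3025 i) (Nat.ble 3099648 i)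
noncomputable def eT3027 (i : Nat) : Nat := Bool.rec (eT3013 i) (eT3026 i) (Nat.ble 3092480 i)
noncomputable def eT3028 (i : Nat) : Nat := Bool.rec (eT3000 i) (eT3027 i) (Nat.ble 3078144 i)
noncomputable def eT3029 (i : Nat) : Nat := Bool.rec (eT2973 i) (eT3028 i) (Nat.ble 3049472 i)
noncomputable def eT3030 (i : Nat) : Nat := Bool.rec (eL3035 i) (eL3036 i) (Nat.ble 3108864 i)
noncomputable def eT3031 (i : Nat) : Nat := Bool.rec (eL3034 i) (eT3030 i) (Nat.ble 3107840 i)
noncomputable def eT3032 (i : Nat) : Nat := Bool.rec (eL3037 i) (eL3038 i) (Nat.ble 3110912 i)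
noncomputable def eT3033 (i : Nat) : Nat := Bool.rec (eL3039 i) (eL3040 i) (Nat.ble 3112960 i)
noncomputable def eT3034 (i : Nat) : Nat := Bool.rec (eT3032 i) (eT3033 i) (Nat.ble 3111936 i)
noncomputable def eT3035 (i : Nat) : Nat := Bool.rec (eT3031 i) (eT3034 i) (Nat.ble 3109888 i)
noncomputable def eT3036 (i : Nat) : Nat := Bool.rec (eL3042 i) (eL3043 i) (Nat.ble 3116032 i)
noncomputable def eT3037 (i : Nat) : Nat := Bool.rec (eL3041 i) (eT3036 i) (Nat.ble 3115008 i)
noncomputable def eT3038 (i : Nat) : Nat := Bool.rec (eL3044 i) (eL3045 i) (Nat.ble 3118080 i)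
noncomputable def eT3039 (i : Nat) : Nat := Bool.rec (eL3046 i) (eL3047 i) (Nat.ble 3120128 i)
noncomputable def eT3040 (i : Nat) : Nat := Bool.rec (eT3038 i) (eT3039 i) (Nat.ble 3119104 i)
noncomputable def eT3041 (i : Nat) : Nat := Bool.rec (eT3037 i) (eT3040 i) (Nat.ble 3117056 i)
noncomputable def eT3042 (i : Nat) : Nat := Bool.rec (eT3035 i) (eT3041 i) (Nat.ble 3113984 i)
noncomputable def eT3043 (i : Nat) : Nat := Bool.rec (eL3049 i) (eL3050 i) (Nat.ble 3123200 i)
noncomputable def eT3044 (i : Nat) : Nat := Bool.rec (eL3048 i) (eT3043 i) (Nat.ble 3122176 i)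
noncomputable def eT3045 (i : Nat) : Nat := Bool.rec (eL3051 i) (eL3052 i) (Nat.ble 3125248 i)
noncomputable def eT3046 (i : Nat) : Nat := Bool.rec (eL3053 i) (eL3054 i) (Nat.ble 3127296 i)
noncomputable def eT3047 (i : Nat) : Nat := Bool.rec (eT3045 i) (eT3046 i) (Nat.ble 3126272 i)
noncomputable def eT3048 (i : Nat) : Nat := Bool.rec (eT3044 i) (eT3047 i) (Nat.ble 3124224 i)
noncomputable def eT3049 (i : Nat) : Nat := Bool.rec (eL3056 i) (eL3057 i) (Nat.ble 3130368 i)
noncomputable def eT3050 (i : Nat) : Nat := Bool.rec (eL3055 i) (eT3049 i) (Nat.ble 3129344 i)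
noncomputable def eT3051 (i : Nat) : Nat := Bool.rec (eL3058 i) (eL3059 i) (Nat.ble 3132416 i)
noncomputable def eT3052 (i : Nat) : Nat := Bool.rec (eL3060 i) (eL3061 i) (Nat.ble 3134464 i)
noncomputable def eT3053 (i : Nat) : Nat := Bool.rec (eT3051 i) (eT3052 i) (Nat.ble 3133440 i)
noncomputable def eT3054 (i : Nat) : Nat := Bool.rec (eT3050 i) (eT3053 i) (Nat.ble 3131392 i)
noncomputable def eT3055 (i : Nat) : Nat := Bool.rec (eT3048 i) (eT3054 i) (Nat.ble 3128320 i)
noncomputable def eT3056 (i : Nat) : Nat := Bool.rec (eT3042 i) (eT3055 i) (Nat.ble 3121152 i)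
noncomputable def eT3057 (i : Nat) : Nat := Bool.rec (eL3063 i) (eL3064 i) (Nat.ble 3137536 i)
noncomputable def eT3058 (i : Nat) : Nat := Bool.rec (eL3062 i) (eT3057 i) (Nat.ble 3136512 i)
noncomputable def eT3059 (i : Nat) : Nat := Bool.rec (eL3065 i) (eL3066 i) (Nat.ble 3139584 i)
noncomputable def eT3060 (i : Nat) : Nat := Bool.rec (eL3067 i) (eL3068 i) (Nat.ble 3141632 i)
noncomputable def eT3061 (i : Nat) : Nat := Bool.rec (eT3059 i) (eT3060 i) (Nat.ble 3140608 i)
noncomputable def eT3062 (i : Nat) : Nat := Bool.rec (eT3058 i) (eT3061 i) (Nat.ble 3138560 i)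
noncomputable def eT3063 (i : Nat) : Nat := Bool.rec (eL3070 i) (eL3071 i) (Nat.ble 3144704 i)
noncomputable def eT3064 (i : Nat) : Nat := Bool.rec (eL3069 i) (eT3063 i) (Nat.ble 3143680 i)
noncomputable def eT3065 (i : Nat) : Nat := Bool.rec (eL3072 i) (eL3073 i) (Nat.ble 3146752 i)
noncomputable def eT3066 (i : Nat) : Nat := Bool.rec (eL3074 i) (eL3075 i) (Nat.ble 3148800 i)
noncomputable def eT3067 (i : Nat) : Nat := Bool.rec (eT3065 i) (eT3066 i) (Nat.ble 3147776 i)
noncomputable def eT3068 (i : Nat) : Nat := Bool.rec (eT3064 i) (eT3067 i) (Nat.ble 3145728 i)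
noncomputable def eT3069 (i : Nat) : Nat := Bool.rec (eT3062 i) (eT3068 i) (Nat.ble 3142656 i)
noncomputable def eT3070 (i : Nat) : Nat := Bool.rec (eL3077 i) (eL3078 i) (Nat.ble 3151872 i)
noncomputable def eT3071 (i : Nat) : Nat := Bool.rec (eL3076 i) (eT3070 i) (Nat.ble 3150848 i)
noncomputable def eT3072 (i : Nat) : Nat := Bool.rec (eL3079 i) (eL3080 i) (Nat.ble 3153920 i)
noncomputable def eT3073 (i : Nat) : Nat := Bool.rec (eL3081 i) (eL3082 i) (Nat.ble 3155968 i)
noncomputable def eT3074 (i : Nat) : Nat := Bool.rec (eT3072 i) (eT3073 i) (Nat.ble 3154944 i)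
noncomputable def eT3075 (i : Nat) : Nat := Bool.rec (eT3071 i) (eT3074 i) (Nat.ble 3152896 i)
noncomputable def eT3076 (i : Nat) : Nat := Bool.rec (eL3084 i) (eL3085 i) (Nat.ble 3159040 i)
noncomputable def eT3077 (i : Nat) : Nat := Bool.rec (eL3083 i) (eT3076 i) (Nat.ble 3158016 i)
noncomputable def eT3078 (i : Nat) : Nat := Bool.rec (eL3086 i) (eL3087 i) (Nat.ble 3161088 i)
noncomputable def eT3079 (i : Nat) : Nat := Bool.rec (eL3088 i) (eL3089 i) (Nat.ble 3163136 i)
noncomputable def eT3080 (i : Nat) : Nat := Bool.rec (eT3078 i) (eT3079 i) (Nat.ble 3162112 i)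
noncomputable def eT3081 (i : Nat) : Nat := Bool.rec (eT3077 i) (eT3080 i) (Nat.ble 3160064 i)
noncomputable def eT3082 (i : Nat) : Nat := Bool.rec (eT3075 i) (eT3081 i) (Nat.ble 3156992 i)
noncomputable def eT3083 (i : Nat) : Nat := Bool.rec (eT3069 i) (eT3082 i) (Nat.ble 3149824 i)
noncomputable def eT3084 (i : Nat) : Nat := Bool.rec (eT3056 i) (eT3083 i) (Nat.ble 3135488 i)
noncomputable def eT3085 (i : Nat) : Nat := Bool.rec (eL3091 i) (eL3092 i) (Nat.ble 3166208 i)
noncomputable def eT3086 (i : Nat) : Nat := Bool.rec (eL3090 i) (eT3085 i) (Nat.ble 3165184 i)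
noncomputable def eT3087 (i : Nat) : Nat := Bool.rec (eL3093 i) (eL3094 i) (Nat.ble 3168256 i)
noncomputable def eT3088 (i : Nat) : Nat := Bool.rec (eL3095 i) (eL3096 i) (Nat.ble 3170304 i)
noncomputable def eT3089 (i : Nat) : Nat := Bool.rec (eT3087 i) (eT3088 i) (Nat.ble 3169280 i)
noncomputable def eT3090 (i : Nat) : Nat := Bool.rec (eT3086 i) (eT3089 i) (Nat.ble 3167232 i)
noncomputable def eT3091 (i : Nat) : Nat := Bool.rec (eL3098 i) (eL3099 i) (Nat.ble 3173376 i)
noncomputable def eT3092 (i : Nat) : Nat := Bool.rec (eL3097 i) (eT3091 i) (Nat.ble 3172352 i)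
noncomputable def eT3093 (i : Nat) : Nat := Bool.rec (eL3100 i) (eL3101 i) (Nat.ble 3175424 i)
noncomputable def eT3094 (i : Nat) : Nat := Bool.rec (eL3102 i) (eL3103 i) (Nat.ble 3177472 i)
noncomputable def eT3095 (i : Nat) : Nat := Bool.rec (eT3093 i) (eT3094 i) (Nat.ble 3176448 i)
noncomputable def eT3096 (i : Nat) : Nat := Bool.rec (eT3092 i) (eT3095 i) (Nat.ble 3174400 i)
noncomputable def eT3097 (i : Nat) : Nat := Bool.rec (eT3090 i) (eT3096 i) (Nat.ble 3171328 i)
noncomputable def eT3098 (i : Nat) : Nat := Bool.rec (eL3105 i) (eL3106 i) (Nat.ble 3180544 i)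
noncomputable def eT3099 (i : Nat) : Nat := Bool.rec (eL3104 i) (eT3098 i) (Nat.ble 3179520 i)
noncomputable def eT3100 (i : Nat) : Nat := Bool.rec (eL3107 i) (eL3108 i) (Nat.ble 3182592 i)
noncomputable def eT3101 (i : Nat) : Nat := Bool.rec (eL3109 i) (eL3110 i) (Nat.ble 3184640 i)
noncomputable def eT3102 (i : Nat) : Nat := Bool.rec (eT3100 i) (eT3101 i) (Nat.ble 3183616 i)
noncomputable def eT3103 (i : Nat) : Nat := Bool.rec (eT3099 i) (eT3102 i) (Nat.ble 3181568 i)
noncomputable def eT3104 (i : Nat) : Nat := Bool.rec (eL3112 i) (eL3113 i) (Nat.ble 3187712 i)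
noncomputable def eT3105 (i : Nat) : Nat := Bool.rec (eL3111 i) (eT3104 i) (Nat.ble 3186688 i)
noncomputable def eT3106 (i : Nat) : Nat := Bool.rec (eL3114 i) (eL3115 i) (Nat.ble 3189760 i)
noncomputable def eT3107 (i : Nat) : Nat := Bool.rec (eL3116 i) (eL3117 i) (Nat.ble 3191808 i)
noncomputable def eT3108 (i : Nat) : Nat := Bool.rec (eT3106 i) (eT3107 i) (Nat.ble 3190784 i)
noncomputable def eT3109 (i : Nat) : Nat := Bool.rec (eT3105 i) (eT3108 i) (Nat.ble 3188736 i)
noncomputable def eT3110 (i : Nat) : Nat := Bool.rec (eT3103 i) (eT3109 i) (Nat.ble 3185664 i)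
noncomputable def eT3111 (i : Nat) : Nat := Bool.rec (eT3097 i) (eT3110 i) (Nat.ble 3178496 i)
noncomputable def eT3112 (i : Nat) : Nat := Bool.rec (eL3119 i) (eL3120 i) (Nat.ble 3194880 i)
noncomputable def eT3113 (i : Nat) : Nat := Bool.rec (eL3118 i) (eT3112 i) (Nat.ble 3193856 i)
noncomputable def eT3114 (i : Nat) : Nat := Bool.rec (eL3121 i) (eL3122 i) (Nat.ble 3196928 i)
noncomputable def eT3115 (i : Nat) : Nat := Bool.rec (eL3123 i) (eL3124 i) (Nat.ble 3198976 i)
noncomputable def eT3116 (i : Nat) : Nat := Bool.rec (eT3114 i) (eT3115 i) (Nat.ble 3197952 i)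
noncomputable def eT3117 (i : Nat) : Nat := Bool.rec (eT3113 i) (eT3116 i) (Nat.ble 3195904 i)
noncomputable def eT3118 (i : Nat) : Nat := Bool.rec (eL3126 i) (eL3127 i) (Nat.ble 3202048 i)
noncomputable def eT3119 (i : Nat) : Nat := Bool.rec (eL3125 i) (eT3118 i) (Nat.ble 3201024 i)
noncomputable def eT3120 (i : Nat) : Nat := Bool.rec (eL3128 i) (eL3129 i) (Nat.ble 3204096 i)
noncomputable def eT3121 (i : Nat) : Nat := Bool.rec (eL3130 i) (eL3131 i) (Nat.ble 3206144 i)
noncomputable def eT3122 (i : Nat) : Nat := Bool.rec (eT3120 i) (eT3121 i) (Nat.ble 3205120 i)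
noncomputable def eT3123 (i : Nat) : Nat := Bool.rec (eT3119 i) (eT3122 i) (Nat.ble 3203072 i)
noncomputable def eT3124 (i : Nat) : Nat := Bool.rec (eT3117 i) (eT3123 i) (Nat.ble 3200000 i)
noncomputable def eT3125 (i : Nat) : Nat := Bool.rec (eL3133 i) (eL3134 i) (Nat.ble 3209216 i)
noncomputable def eT3126 (i : Nat) : Nat := Bool.rec (eL3132 i) (eT3125 i) (Nat.ble 3208192 i)
noncomputable def eT3127 (i : Nat) : Nat := Bool.rec (eL3135 i) (eL3136 i) (Nat.ble 3211264 i)
noncomputable def eT3128 (i : Nat) : Nat := Bool.rec (eL3137 i) (eL3138 i) (Nat.ble 3213312 i)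
noncomputable def eT3129 (i : Nat) : Nat := Bool.rec (eT3127 i) (eT3128 i) (Nat.ble 3212288 i)
noncomputable def eT3130 (i : Nat) : Nat := Bool.rec (eT3126 i) (eT3129 i) (Nat.ble 3210240 i)
noncomputable def eT3131 (i : Nat) : Nat := Bool.rec (eL3139 i) (eL3140 i) (Nat.ble 3215360 i)
noncomputable def eT3132 (i : Nat) : Nat := Bool.rec (eL3141 i) (eL3142 i) (Nat.ble 3217408 i)
noncomputable def eT3133 (i : Nat) : Nat := Bool.rec (eT3131 i) (eT3132 i) (Nat.ble 3216384 i)
noncomputable def eT3134 (i : Nat) : Nat := Bool.rec (eL3143 i) (eL3144 i) (Nat.ble 3219456 i)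
noncomputable def eT3135 (i : Nat) : Nat := Bool.rec (eL3145 i) (eL3146 i) (Nat.ble 3221504 i)
noncomputable def eT3136 (i : Nat) : Nat := Bool.rec (eT3134 i) (eT3135 i) (Nat.ble 3220480 i)
noncomputable def eT3137 (i : Nat) : Nat := Bool.rec (eT3133 i) (eT3136 i) (Nat.ble 3218432 i)
noncomputable def eT3138 (i : Nat) : Nat := Bool.rec (eT3130 i) (eT3137 i) (Nat.ble 3214336 i)
noncomputable def eT3139 (i : Nat) : Nat := Bool.rec (eT3124 i) (eT3138 i) (Nat.ble 3207168 i)
noncomputable def eT3140 (i : Nat) : Nat := Bool.rec (eT3111 i) (eT3139 i) (Nat.ble 3192832 i)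
noncomputable def eT3141 (i : Nat) : Nat := Bool.rec (eT3084 i) (eT3140 i) (Nat.ble 3164160 i)
noncomputable def eT3142 (i : Nat) : Nat := Bool.rec (eT3029 i) (eT3141 i) (Nat.ble 3106816 i)
noncomputable def eT3143 (i : Nat) : Nat := Bool.rec (eT2918 i) (eT3142 i) (Nat.ble 2992128 i)
noncomputable def eT3144 (i : Nat) : Nat := Bool.rec (eL3148 i) (eL3149 i) (Nat.ble 3224576 i)
noncomputable def eT3145 (i : Nat) : Nat := Bool.rec (eL3147 i) (eT3144 i) (Nat.ble 3223552 i)
noncomputable def eT3146 (i : Nat) : Nat := Bool.rec (eL3150 i) (eL3151 i) (Nat.ble 3226624 i)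
noncomputable def eT3147 (i : Nat) : Nat := Bool.rec (eL3152 i) (eL3153 i) (Nat.ble 3228672 i)
noncomputable def eT3148 (i : Nat) : Nat := Bool.rec (eT3146 i) (eT3147 i) (Nat.ble 3227648 i)
noncomputable def eT3149 (i : Nat) : Nat := Bool.rec (eT3145 i) (eT3148 i) (Nat.ble 3225600 i)
noncomputable def eT3150 (i : Nat) : Nat := Bool.rec (eL3155 i) (eL3156 i) (Nat.ble 3231744 i)
noncomputable def eT3151 (i : Nat) : Nat := Bool.rec (eL3154 i) (eT3150 i) (Nat.ble 3230720 i)
noncomputable def eT3152 (i : Nat) : Nat := Bool.rec (eL3157 i) (eL3158 i) (Nat.ble 3233792 i)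
noncomputable def eT3153 (i : Nat) : Nat := Bool.rec (eL3159 i) (eL3160 i) (Nat.ble 3235840 i)
noncomputable def eT3154 (i : Nat) : Nat := Bool.rec (eT3152 i) (eT3153 i) (Nat.ble 3234816 i)
noncomputable def eT3155 (i : Nat) : Nat := Bool.rec (eT3151 i) (eT3154 i) (Nat.ble 3232768 i)
noncomputable def eT3156 (i : Nat) : Nat := Bool.rec (eT3149 i) (eT3155 i) (Nat.ble 3229696 i)
noncomputable def eT3157 (i : Nat) : Nat := Bool.rec (eL3162 i) (eL3163 i) (Nat.ble 3238912 i)
noncomputable def eT3158 (i : Nat) : Nat := Bool.rec (eL3161 i) (eT3157 i) (Nat.ble 3237888 i)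
noncomputable def eT3159 (i : Nat) : Nat := Bool.rec (eL3164 i) (eL3165 i) (Nat.ble 3240960 i)
noncomputable def eT3160 (i : Nat) : Nat := Bool.rec (eL3166 i) (eL3167 i) (Nat.ble 3243008 i)
noncomputable def eT3161 (i : Nat) : Nat := Bool.rec (eT3159 i) (eT3160 i) (Nat.ble 3241984 i)
noncomputable def eT3162 (i : Nat) : Nat := Bool.rec (eT3158 i) (eT3161 i) (Nat.ble 3239936 i)
noncomputable def eT3163 (i : Nat) : Nat := Bool.rec (eL3169 i) (eL3170 i) (Nat.ble 3246080 i)
noncomputable def eT3164 (i : Nat) : Nat := Bool.rec (eL3168 i) (eT3163 i) (Nat.ble 3245056 i)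
noncomputable def eT3165 (i : Nat) : Nat := Bool.rec (eL3171 i) (eL3172 i) (Nat.ble 3248128 i)
noncomputable def eT3166 (i : Nat) : Nat := Bool.rec (eL3173 i) (eL3174 i) (Nat.ble 3250176 i)
noncomputable def eT3167 (i : Nat) : Nat := Bool.rec (eT3165 i) (eT3166 i) (Nat.ble 3249152 i)
noncomputable def eT3168 (i : Nat) : Nat := Bool.rec (eT3164 i) (eT3167 i) (Nat.ble 3247104 i)
noncomputable def eT3169 (i : Nat) : Nat := Bool.rec (eT3162 i) (eT3168 i) (Nat.ble 3244032 i)
noncomputable def eT3170 (i : Nat) : Nat := Bool.rec (eT3156 i) (eT3169 i) (Nat.ble 3236864 i)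
noncomputable def eT3171 (i : Nat) : Nat := Bool.rec (eL3176 i) (eL3177 i) (Nat.ble 3253248 i)
noncomputable def eT3172 (i : Nat) : Nat := Bool.rec (eL3175 i) (eT3171 i) (Nat.ble 3252224 i)
noncomputable def eT3173 (i : Nat) : Nat := Bool.rec (eL3178 i) (eL3179 i) (Nat.ble 3255296 i)
noncomputable def eT3174 (i : Nat) : Nat := Bool.rec (eL3180 i) (eL3181 i) (Nat.ble 3257344 i)
noncomputable def eT3175 (i : Nat) : Nat := Bool.rec (eT3173 i) (eT3174 i) (Nat.ble 3256320 i)
noncomputable def eT3176 (i : Nat) : Nat := Bool.rec (eT3172 i) (eT3175 i) (Nat.ble 3254272 i)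
noncomputable def eT3177 (i : Nat) : Nat := Bool.rec (eL3183 i) (eL3184 i) (Nat.ble 3260416 i)
noncomputable def eT3178 (i : Nat) : Nat := Bool.rec (eL3182 i) (eT3177 i) (Nat.ble 3259392 i)
noncomputable def eT3179 (i : Nat) : Nat := Bool.rec (eL3185 i) (eL3186 i) (Nat.ble 3262464 i)
noncomputable def eT3180 (i : Nat) : Nat := Bool.rec (eL3187 i) (eL3188 i) (Nat.ble 3264512 i)
noncomputable def eT3181 (i : Nat) : Nat := Bool.rec (eT3179 i) (eT3180 i) (Nat.ble 3263488 i)
noncomputable def eT3182 (i : Nat) : Nat := Bool.rec (eT3178 i) (eT3181 i) (Nat.ble 3261440 i)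
noncomputable def eT3183 (i : Nat) : Nat := Bool.rec (eT3176 i) (eT3182 i) (Nat.ble 3258368 i)
noncomputable def eT3184 (i : Nat) : Nat := Bool.rec (eL3190 i) (eL3191 i) (Nat.ble 3267584 i)
noncomputable def eT3185 (i : Nat) : Nat := Bool.rec (eL3189 i) (eT3184 i) (Nat.ble 3266560 i)
noncomputable def eT3186 (i : Nat) : Nat := Bool.rec (eL3192 i) (eL3193 i) (Nat.ble 3269632 i)
noncomputable def eT3187 (i : Nat) : Nat := Bool.rec (eL3194 i) (eL3195 i) (Nat.ble 3271680 i)
noncomputable def eT3188 (i : Nat) : Nat := Bool.rec (eT3186 i) (eT3187 i) (Nat.ble 3270656 i)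
noncomputable def eT3189 (i : Nat) : Nat := Bool.rec (eT3185 i) (eT3188 i) (Nat.ble 3268608 i)
noncomputable def eT3190 (i : Nat) : Nat := Bool.rec (eL3197 i) (eL3198 i) (Nat.ble 3274752 i)
noncomputable def eT3191 (i : Nat) : Nat := Bool.rec (eL3196 i) (eT3190 i) (Nat.ble 3273728 i)
noncomputable def eT3192 (i : Nat) : Nat := Bool.rec (eL3199 i) (eL3200 i) (Nat.ble 3276800 i)
noncomputable def eT3193 (i : Nat) : Nat := Bool.rec (eL3201 i) (eL3202 i) (Nat.ble 3278848 i)
noncomputable def eT3194 (i : Nat) : Nat := Bool.rec (eT3192 i) (eT3193 i) (Nat.ble 3277824 i)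
noncomputable def eT3195 (i : Nat) : Nat := Bool.rec (eT3191 i) (eT3194 i) (Nat.ble 3275776 i)
noncomputable def eT3196 (i : Nat) : Nat := Bool.rec (eT3189 i) (eT3195 i) (Nat.ble 3272704 i)
noncomputable def eT3197 (i : Nat) : Nat := Bool.rec (eT3183 i) (eT3196 i) (Nat.ble 3265536 i)
noncomputable def eT3198 (i : Nat) : Nat := Bool.rec (eT3170 i) (eT3197 i) (Nat.ble 3251200 i)
noncomputable def eT3199 (i : Nat) : Nat := Bool.rec (eL3204 i) (eL3205 i) (Nat.ble 3281920 i)
noncomputable def eT3200 (i : Nat) : Nat := Bool.rec (eL3203 i) (eT3199 i) (Nat.ble 3280896 i)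
noncomputable def eT3201 (i : Nat) : Nat := Bool.rec (eL3206 i) (eL3207 i) (Nat.ble 3283968 i)
noncomputable def eT3202 (i : Nat) : Nat := Bool.rec (eL3208 i) (eL3209 i) (Nat.ble 3286016 i)
noncomputable def eT3203 (i : Nat) : Nat := Bool.rec (eT3201 i) (eT3202 i) (Nat.ble 3284992 i)
noncomputable def eT3204 (i : Nat) : Nat := Bool.rec (eT3200 i) (eT3203 i) (Nat.ble 3282944 i)
noncomputable def eT3205 (i : Nat) : Nat := Bool.rec (eL3211 i) (eL3212 i) (Nat.ble 3289088 i)
noncomputable def eT3206 (i : Nat) : Nat := Bool.rec (eL3210 i) (eT3205 i) (Nat.ble 3288064 i)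
noncomputable def eT3207 (i : Nat) : Nat := Bool.rec (eL3213 i) (eL3214 i) (Nat.ble 3291136 i)
noncomputable def eT3208 (i : Nat) : Nat := Bool.rec (eL3215 i) (eL3216 i) (Nat.ble 3293184 i)
noncomputable def eT3209 (i : Nat) : Nat := Bool.rec (eT3207 i) (eT3208 i) (Nat.ble 3292160 i)
noncomputable def eT3210 (i : Nat) : Nat := Bool.rec (eT3206 i) (eT3209 i) (Nat.ble 3290112 i)
noncomputable def eT3211 (i : Nat) : Nat := Bool.rec (eT3204 i) (eT3210 i) (Nat.ble 3287040 i)
noncomputable def eT3212 (i : Nat) : Nat := Bool.rec (eL3218 i) (eL3219 i) (Nat.ble 3296256 i)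
noncomputable def eT3213 (i : Nat) : Nat := Bool.rec (eL3217 i) (eT3212 i) (Nat.ble 3295232 i)
noncomputable def eT3214 (i : Nat) : Nat := Bool.rec (eL3220 i) (eL3221 i) (Nat.ble 3298304 i)
noncomputable def eT3215 (i : Nat) : Nat := Bool.rec (eL3222 i) (eL3223 i) (Nat.ble 3300352 i)
noncomputable def eT3216 (i : Nat) : Nat := Bool.rec (eT3214 i) (eT3215 i) (Nat.ble 3299328 i)
noncomputable def eT3217 (i : Nat) : Nat := Bool.rec (eT3213 i) (eT3216 i) (Nat.ble 3297280 i)
noncomputable def eT3218 (i : Nat) : Nat := Bool.rec (eL3225 i) (eL3226 i) (Nat.ble 3303424 i)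
noncomputable def eT3219 (i : Nat) : Nat := Bool.rec (eL3224 i) (eT3218 i) (Nat.ble 3302400 i)
noncomputable def eT3220 (i : Nat) : Nat := Bool.rec (eL3227 i) (eL3228 i) (Nat.ble 3305472 i)
noncomputable def eT3221 (i : Nat) : Nat := Bool.rec (eL3229 i) (eL3230 i) (Nat.ble 3307520 i)
noncomputable def eT3222 (i : Nat) : Nat := Bool.rec (eT3220 i) (eT3221 i) (Nat.ble 3306496 i)
noncomputable def eT3223 (i : Nat) : Nat := Bool.rec (eT3219 i) (eT3222 i) (Nat.ble 3304448 i)
noncomputable def eT3224 (i : Nat) : Nat := Bool.rec (eT3217 i) (eT3223 i) (Nat.ble 3301376 i)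
noncomputable def eT3225 (i : Nat) : Nat := Bool.rec (eT3211 i) (eT3224 i) (Nat.ble 3294208 i)
noncomputable def eT3226 (i : Nat) : Nat := Bool.rec (eL3232 i) (eL3233 i) (Nat.ble 3310592 i)
noncomputable def eT3227 (i : Nat) : Nat := Bool.rec (eL3231 i) (eT3226 i) (Nat.ble 3309568 i)
noncomputable def eT3228 (i : Nat) : Nat := Bool.rec (eL3234 i) (eL3235 i) (Nat.ble 3312640 i)
noncomputable def eT3229 (i : Nat) : Nat := Bool.rec (eL3236 i) (eL3237 i) (Nat.ble 3314688 i)
noncomputable def eT3230 (i : Nat) : Nat := Bool.rec (eT3228 i) (eT3229 i) (Nat.ble 3313664 i)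
noncomputable def eT3231 (i : Nat) : Nat := Bool.rec (eT3227 i) (eT3230 i) (Nat.ble 3311616 i)
noncomputable def eT3232 (i : Nat) : Nat := Bool.rec (eL3239 i) (eL3240 i) (Nat.ble 3317760 i)
noncomputable def eT3233 (i : Nat) : Nat := Bool.rec (eL3238 i) (eT3232 i) (Nat.ble 3316736 i)
noncomputable def eT3234 (i : Nat) : Nat := Bool.rec (eL3241 i) (eL3242 i) (Nat.ble 3319808 i)
noncomputable def eT3235 (i : Nat) : Nat := Bool.rec (eL3243 i) (eL3244 i) (Nat.ble 3321856 i)
noncomputable def eT3236 (i : Nat) : Nat := Bool.rec (eT3234 i) (eT3235 i) (Nat.ble 3320832 i)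
noncomputable def eT3237 (i : Nat) : Nat := Bool.rec (eT3233 i) (eT3236 i) (Nat.ble 3318784 i)
noncomputable def eT3238 (i : Nat) : Nat := Bool.rec (eT3231 i) (eT3237 i) (Nat.ble 3315712 i)
noncomputable def eT3239 (i : Nat) : Nat := Bool.rec (eL3246 i) (eL3247 i) (Nat.ble 3324928 i)
noncomputable def eT3240 (i : Nat) : Nat := Bool.rec (eL3245 i) (eT3239 i) (Nat.ble 3323904 i)
noncomputable def eT3241 (i : Nat) : Nat := Bool.rec (eL3248 i) (eL3249 i) (Nat.ble 3326976 i)
noncomputable def eT3242 (i : Nat) : Nat := Bool.rec (eL3250 i) (eL3251 i) (Nat.ble 3329024 i)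
noncomputable def eT3243 (i : Nat) : Nat := Bool.rec (eT3241 i) (eT3242 i) (Nat.ble 3328000 i)
noncomputable def eT3244 (i : Nat) : Nat := Bool.rec (eT3240 i) (eT3243 i) (Nat.ble 3325952 i)
noncomputable def eT3245 (i : Nat) : Nat := Bool.rec (eL3253 i) (eL3254 i) (Nat.ble 3332096 i)
noncomputable def eT3246 (i : Nat) : Nat := Bool.rec (eL3252 i) (eT3245 i) (Nat.ble 3331072 i)
noncomputable def eT3247 (i : Nat) : Nat := Bool.rec (eL3255 i) (eL3256 i) (Nat.ble 3334144 i)
noncomputable def eT3248 (i : Nat) : Nat := Bool.rec (eL3257 i) (eL3258 i) (Nat.ble 3336192 i)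
noncomputable def eT3249 (i : Nat) : Nat := Bool.rec (eT3247 i) (eT3248 i) (Nat.ble 3335168 i)
noncomputable def eT3250 (i : Nat) : Nat := Bool.rec (eT3246 i) (eT3249 i) (Nat.ble 3333120 i)
noncomputable def eT3251 (i : Nat) : Nat := Bool.rec (eT3244 i) (eT3250 i) (Nat.ble 3330048 i)
noncomputable def eT3252 (i : Nat) : Nat := Bool.rec (eT3238 i) (eT3251 i) (Nat.ble 3322880 i)
noncomputable def eT3253 (i : Nat) : Nat := Bool.rec (eT3225 i) (eT3252 i) (Nat.ble 3308544 i)
noncomputable def eT3254 (i : Nat) : Nat := Bool.rec (eT3198 i) (eT3253 i) (Nat.ble 3279872 i)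
noncomputable def eT3255 (i : Nat) : Nat := Bool.rec (eL3260 i) (eL3261 i) (Nat.ble 3339264 i)
noncomputable def eT3256 (i : Nat) : Nat := Bool.rec (eL3259 i) (eT3255 i) (Nat.ble 3338240 i)
noncomputable def eT3257 (i : Nat) : Nat := Bool.rec (eL3262 i) (eL3263 i) (Nat.ble 3341312 i)
noncomputable def eT3258 (i : Nat) : Nat := Bool.rec (eL3264 i) (eL3265 i) (Nat.ble 3343360 i)
noncomputable def eT3259 (i : Nat) : Nat := Bool.rec (eT3257 i) (eT3258 i) (Nat.ble 3342336 i)
noncomputable def eT3260 (i : Nat) : Nat := Bool.rec (eT3256 i) (eT3259 i) (Nat.ble 3340288 i)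
noncomputable def eT3261 (i : Nat) : Nat := Bool.rec (eL3267 i) (eL3268 i) (Nat.ble 3346432 i)
noncomputable def eT3262 (i : Nat) : Nat := Bool.rec (eL3266 i) (eT3261 i) (Nat.ble 3345408 i)
noncomputable def eT3263 (i : Nat) : Nat := Bool.rec (eL3269 i) (eL3270 i) (Nat.ble 3348480 i)
noncomputable def eT3264 (i : Nat) : Nat := Bool.rec (eL3271 i) (eL3272 i) (Nat.ble 3350528 i)
noncomputable def eT3265 (i : Nat) : Nat := Bool.rec (eT3263 i) (eT3264 i) (Nat.ble 3349504 i)
noncomputable def eT3266 (i : Nat) : Nat := Bool.rec (eT3262 i) (eT3265 i) (Nat.ble 3347456 i)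
noncomputable def eT3267 (i : Nat) : Nat := Bool.rec (eT3260 i) (eT3266 i) (Nat.ble 3344384 i)
noncomputable def eT3268 (i : Nat) : Nat := Bool.rec (eL3274 i) (eL3275 i) (Nat.ble 3353600 i)
noncomputable def eT3269 (i : Nat) : Nat := Bool.rec (eL3273 i) (eT3268 i) (Nat.ble 3352576 i)
noncomputable def eT3270 (i : Nat) : Nat := Bool.rec (eL3276 i) (eL3277 i) (Nat.ble 3355648 i)
noncomputable def eT3271 (i : Nat) : Nat := Bool.rec (eL3278 i) (eL3279 i) (Nat.ble 3357696 i)
noncomputable def eT3272 (i : Nat) : Nat := Bool.rec (eT3270 i) (eT3271 i) (Nat.ble 3356672 i)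
noncomputable def eT3273 (i : Nat) : Nat := Bool.rec (eT3269 i) (eT3272 i) (Nat.ble 3354624 i)
noncomputable def eT3274 (i : Nat) : Nat := Bool.rec (eL3281 i) (eL3282 i) (Nat.ble 3360768 i)
noncomputable def eT3275 (i : Nat) : Nat := Bool.rec (eL3280 i) (eT3274 i) (Nat.ble 3359744 i)
noncomputable def eT3276 (i : Nat) : Nat := Bool.rec (eL3283 i) (eL3284 i) (Nat.ble 3362816 i)
noncomputable def eT3277 (i : Nat) : Nat := Bool.rec (eL3285 i) (eL3286 i) (Nat.ble 3364864 i)
noncomputable def eT3278 (i : Nat) : Nat := Bool.rec (eT3276 i) (eT3277 i) (Nat.ble 3363840 i)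
noncomputable def eT3279 (i : Nat) : Nat := Bool.rec (eT3275 i) (eT3278 i) (Nat.ble 3361792 i)
noncomputable def eT3280 (i : Nat) : Nat := Bool.rec (eT3273 i) (eT3279 i) (Nat.ble 3358720 i)
noncomputable def eT3281 (i : Nat) : Nat := Bool.rec (eT3267 i) (eT3280 i) (Nat.ble 3351552 i)
noncomputable def eT3282 (i : Nat) : Nat := Bool.rec (eL3288 i) (eL3289 i) (Nat.ble 3367936 i)
noncomputable def eT3283 (i : Nat) : Nat := Bool.rec (eL3287 i) (eT3282 i) (Nat.ble 3366912 i)
noncomputable def eT3284 (i : Nat) : Nat := Bool.rec (eL3290 i) (eL3291 i) (Nat.ble 3369984 i)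
noncomputable def eT3285 (i : Nat) : Nat := Bool.rec (eL3292 i) (eL3293 i) (Nat.ble 3372032 i)
noncomputable def eT3286 (i : Nat) : Nat := Bool.rec (eT3284 i) (eT3285 i) (Nat.ble 3371008 i)
noncomputable def eT3287 (i : Nat) : Nat := Bool.rec (eT3283 i) (eT3286 i) (Nat.ble 3368960 i)
noncomputable def eT3288 (i : Nat) : Nat := Bool.rec (eL3295 i) (eL3296 i) (Nat.ble 3375104 i)
noncomputable def eT3289 (i : Nat) : Nat := Bool.rec (eL3294 i) (eT3288 i) (Nat.ble 3374080 i)
noncomputable def eT3290 (i : Nat) : Nat := Bool.rec (eL3297 i) (eL3298 i) (Nat.ble 3377152 i)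
noncomputable def eT3291 (i : Nat) : Nat := Bool.rec (eL3299 i) (eL3300 i) (Nat.ble 3379200 i)
noncomputable def eT3292 (i : Nat) : Nat := Bool.rec (eT3290 i) (eT3291 i) (Nat.ble 3378176 i)
noncomputable def eT3293 (i : Nat) : Nat := Bool.rec (eT3289 i) (eT3292 i) (Nat.ble 3376128 i)
noncomputable def eT3294 (i : Nat) : Nat := Bool.rec (eT3287 i) (eT3293 i) (Nat.ble 3373056 i)
noncomputable def eT3295 (i : Nat) : Nat := Bool.rec (eL3302 i) (eL3303 i) (Nat.ble 3382272 i)
noncomputable def eT3296 (i : Nat) : Nat := Bool.rec (eL3301 i) (eT3295 i) (Nat.ble 3381248 i)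
noncomputable def eT3297 (i : Nat) : Nat := Bool.rec (eL3304 i) (eL3305 i) (Nat.ble 3384320 i)
noncomputable def eT3298 (i : Nat) : Nat := Bool.rec (eL3306 i) (eL3307 i) (Nat.ble 3386368 i)
noncomputable def eT3299 (i : Nat) : Nat := Bool.rec (eT3297 i) (eT3298 i) (Nat.ble 3385344 i)
noncomputable def eT3300 (i : Nat) : Nat := Bool.rec (eT3296 i) (eT3299 i) (Nat.ble 3383296 i)
noncomputable def eT3301 (i : Nat) : Nat := Bool.rec (eL3309 i) (eL3310 i) (Nat.ble 3389440 i)
noncomputable def eT3302 (i : Nat) : Nat := Bool.rec (eL3308 i) (eT3301 i) (Nat.ble 3388416 i)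
noncomputable def eT3303 (i : Nat) : Nat := Bool.rec (eL3311 i) (eL3312 i) (Nat.ble 3391488 i)
noncomputable def eT3304 (i : Nat) : Nat := Bool.rec (eL3313 i) (eL3314 i) (Nat.ble 3393536 i)
noncomputable def eT3305 (i : Nat) : Nat := Bool.rec (eT3303 i) (eT3304 i) (Nat.ble 3392512 i)
noncomputable def eT3306 (i : Nat) : Nat := Bool.rec (eT3302 i) (eT3305 i) (Nat.ble 3390464 i)
noncomputable def eT3307 (i : Nat) : Nat := Bool.rec (eT3300 i) (eT3306 i) (Nat.ble 3387392 i)
noncomputable def eT3308 (i : Nat) : Nat := Bool.rec (eT3294 i) (eT3307 i) (Nat.ble 3380224 i)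
noncomputable def eT3309 (i : Nat) : Nat := Bool.rec (eT3281 i) (eT3308 i) (Nat.ble 3365888 i)
noncomputable def eT3310 (i : Nat) : Nat := Bool.rec (eL3316 i) (eL3317 i) (Nat.ble 3396608 i)
noncomputable def eT3311 (i : Nat) : Nat := Bool.rec (eL3315 i) (eT3310 i) (Nat.ble 3395584 i)
noncomputable def eT3312 (i : Nat) : Nat := Bool.rec (eL3318 i) (eL3319 i) (Nat.ble 3398656 i)
noncomputable def eT3313 (i : Nat) : Nat := Bool.rec (eL3320 i) (eL3321 i) (Nat.ble 3400704 i)
noncomputable def eT3314 (i : Nat) : Nat := Bool.rec (eT3312 i) (eT3313 i) (Nat.ble 3399680 i)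
noncomputable def eT3315 (i : Nat) : Nat := Bool.rec (eT3311 i) (eT3314 i) (Nat.ble 3397632 i)
noncomputable def eT3316 (i : Nat) : Nat := Bool.rec (eL3323 i) (eL3324 i) (Nat.ble 3403776 i)
noncomputable def eT3317 (i : Nat) : Nat := Bool.rec (eL3322 i) (eT3316 i) (Nat.ble 3402752 i)
noncomputable def eT3318 (i : Nat) : Nat := Bool.rec (eL3325 i) (eL3326 i) (Nat.ble 3405824 i)
noncomputable def eT3319 (i : Nat) : Nat := Bool.rec (eL3327 i) (eL3328 i) (Nat.ble 3407872 i)
noncomputable def eT3320 (i : Nat) : Nat := Bool.rec (eT3318 i) (eT3319 i) (Nat.ble 3406848 i)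
noncomputable def eT3321 (i : Nat) : Nat := Bool.rec (eT3317 i) (eT3320 i) (Nat.ble 3404800 i)
noncomputable def eT3322 (i : Nat) : Nat := Bool.rec (eT3315 i) (eT3321 i) (Nat.ble 3401728 i)
noncomputable def eT3323 (i : Nat) : Nat := Bool.rec (eL3330 i) (eL3331 i) (Nat.ble 3410944 i)
noncomputable def eT3324 (i : Nat) : Nat := Bool.rec (eL3329 i) (eT3323 i) (Nat.ble 3409920 i)
noncomputable def eT3325 (i : Nat) : Nat := Bool.rec (eL3332 i) (eL3333 i) (Nat.ble 3412992 i)
noncomputable def eT3326 (i : Nat) : Nat := Bool.rec (eL3334 i) (eL3335 i) (Nat.ble 3415040 i)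
noncomputable def eT3327 (i : Nat) : Nat := Bool.rec (eT3325 i) (eT3326 i) (Nat.ble 3414016 i)
noncomputable def eT3328 (i : Nat) : Nat := Bool.rec (eT3324 i) (eT3327 i) (Nat.ble 3411968 i)
noncomputable def eT3329 (i : Nat) : Nat := Bool.rec (eL3337 i) (eL3338 i) (Nat.ble 3418112 i)
noncomputable def eT3330 (i : Nat) : Nat := Bool.rec (eL3336 i) (eT3329 i) (Nat.ble 3417088 i)
noncomputable def eT3331 (i : Nat) : Nat := Bool.rec (eL3339 i) (eL3340 i) (Nat.ble 3420160 i)
noncomputable def eT3332 (i : Nat) : Nat := Bool.rec (eL3341 i) (eL3342 i) (Nat.ble 3422208 i)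
noncomputable def eT3333 (i : Nat) : Nat := Bool.rec (eT3331 i) (eT3332 i) (Nat.ble 3421184 i)
noncomputable def eT3334 (i : Nat) : Nat := Bool.rec (eT3330 i) (eT3333 i) (Nat.ble 3419136 i)
noncomputable def eT3335 (i : Nat) : Nat := Bool.rec (eT3328 i) (eT3334 i) (Nat.ble 3416064 i)
noncomputable def eT3336 (i : Nat) : Nat := Bool.rec (eT3322 i) (eT3335 i) (Nat.ble 3408896 i)
noncomputable def eT3337 (i : Nat) : Nat := Bool.rec (eL3344 i) (eL3345 i) (Nat.ble 3425280 i)
noncomputable def eT3338 (i : Nat) : Nat := Bool.rec (eL3343 i) (eT3337 i) (Nat.ble 3424256 i)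
noncomputable def eT3339 (i : Nat) : Nat := Bool.rec (eL3346 i) (eL3347 i) (Nat.ble 3427328 i)
noncomputable def eT3340 (i : Nat) : Nat := Bool.rec (eL3348 i) (eL3349 i) (Nat.ble 3429376 i)
noncomputable def eT3341 (i : Nat) : Nat := Bool.rec (eT3339 i) (eT3340 i) (Nat.ble 3428352 i)
noncomputable def eT3342 (i : Nat) : Nat := Bool.rec (eT3338 i) (eT3341 i) (Nat.ble 3426304 i)
noncomputable def eT3343 (i : Nat) : Nat := Bool.rec (eL3351 i) (eL3352 i) (Nat.ble 3432448 i)
noncomputable def eT3344 (i : Nat) : Nat := Bool.rec (eL3350 i) (eT3343 i) (Nat.ble 3431424 i)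
noncomputable def eT3345 (i : Nat) : Nat := Bool.rec (eL3353 i) (eL3354 i) (Nat.ble 3434496 i)
noncomputable def eT3346 (i : Nat) : Nat := Bool.rec (eL3355 i) (eL3356 i) (Nat.ble 3436544 i)
noncomputable def eT3347 (i : Nat) : Nat := Bool.rec (eT3345 i) (eT3346 i) (Nat.ble 3435520 i)
noncomputable def eT3348 (i : Nat) : Nat := Bool.rec (eT3344 i) (eT3347 i) (Nat.ble 3433472 i)
noncomputable def eT3349 (i : Nat) : Nat := Bool.rec (eT3342 i) (eT3348 i) (Nat.ble 3430400 i)
noncomputable def eT3350 (i : Nat) : Nat := Bool.rec (eL3358 i) (eL3359 i) (Nat.ble 3439616 i)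
noncomputable def eT3351 (i : Nat) : Nat := Bool.rec (eL3357 i) (eT3350 i) (Nat.ble 3438592 i)
noncomputable def eT3352 (i : Nat) : Nat := Bool.rec (eL3360 i) (eL3361 i) (Nat.ble 3441664 i)
noncomputable def eT3353 (i : Nat) : Nat := Bool.rec (eL3362 i) (eL3363 i) (Nat.ble 3443712 i)
noncomputable def eT3354 (i : Nat) : Nat := Bool.rec (eT3352 i) (eT3353 i) (Nat.ble 3442688 i)
noncomputable def eT3355 (i : Nat) : Nat := Bool.rec (eT3351 i) (eT3354 i) (Nat.ble 3440640 i)
noncomputable def eT3356 (i : Nat) : Nat := Bool.rec (eL3364 i) (eL3365 i) (Nat.ble 3445760 i)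
noncomputable def eT3357 (i : Nat) : Nat := Bool.rec (eL3366 i) (eL3367 i) (Nat.ble 3447808 i)
noncomputable def eT3358 (i : Nat) : Nat := Bool.rec (eT3356 i) (eT3357 i) (Nat.ble 3446784 i)
noncomputable def eT3359 (i : Nat) : Nat := Bool.rec (eL3368 i) (eL3369 i) (Nat.ble 3449856 i)
noncomputable def eT3360 (i : Nat) : Nat := Bool.rec (eL3370 i) (eL3371 i) (Nat.ble 3451904 i)
noncomputable def eT3361 (i : Nat) : Nat := Bool.rec (eT3359 i) (eT3360 i) (Nat.ble 3450880 i)
noncomputable def eT3362 (i : Nat) : Nat := Bool.rec (eT3358 i) (eT3361 i) (Nat.ble 3448832 i)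
noncomputable def eT3363 (i : Nat) : Nat := Bool.rec (eT3355 i) (eT3362 i) (Nat.ble 3444736 i)
noncomputable def eT3364 (i : Nat) : Nat := Bool.rec (eT3349 i) (eT3363 i) (Nat.ble 3437568 i)
noncomputable def eT3365 (i : Nat) : Nat := Bool.rec (eT3336 i) (eT3364 i) (Nat.ble 3423232 i)
noncomputable def eT3366 (i : Nat) : Nat := Bool.rec (eT3309 i) (eT3365 i) (Nat.ble 3394560 i)
noncomputable def eT3367 (i : Nat) : Nat := Bool.rec (eT3254 i) (eT3366 i) (Nat.ble 3337216 i)
noncomputable def eT3368 (i : Nat) : Nat := Bool.rec (eL3373 i) (eL3374 i) (Nat.ble 3454976 i)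
noncomputable def eT3369 (i : Nat) : Nat := Bool.rec (eL3372 i) (eT3368 i) (Nat.ble 3453952 i)
noncomputable def eT3370 (i : Nat) : Nat := Bool.rec (eL3375 i) (eL3376 i) (Nat.ble 3457024 i)
noncomputable def eT3371 (i : Nat) : Nat := Bool.rec (eL3377 i) (eL3378 i) (Nat.ble 3459072 i)
noncomputable def eT3372 (i : Nat) : Nat := Bool.rec (eT3370 i) (eT3371 i) (Nat.ble 3458048 i)
noncomputable def eT3373 (i : Nat) : Nat := Bool.rec (eT3369 i) (eT3372 i) (Nat.ble 3456000 i)
noncomputable def eT3374 (i : Nat) : Nat := Bool.rec (eL3380 i) (eL3381 i) (Nat.ble 3462144 i)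
noncomputable def eT3375 (i : Nat) : Nat := Bool.rec (eL3379 i) (eT3374 i) (Nat.ble 3461120 i)
noncomputable def eT3376 (i : Nat) : Nat := Bool.rec (eL3382 i) (eL3383 i) (Nat.ble 3464192 i)
noncomputable def eT3377 (i : Nat) : Nat := Bool.rec (eL3384 i) (eL3385 i) (Nat.ble 3466240 i)
noncomputable def eT3378 (i : Nat) : Nat := Bool.rec (eT3376 i) (eT3377 i) (Nat.ble 3465216 i)
noncomputable def eT3379 (i : Nat) : Nat := Bool.rec (eT3375 i) (eT3378 i) (Nat.ble 3463168 i)
noncomputable def eT3380 (i : Nat) : Nat := Bool.rec (eT3373 i) (eT3379 i) (Nat.ble 3460096 i)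
noncomputable def eT3381 (i : Nat) : Nat := Bool.rec (eL3387 i) (eL3388 i) (Nat.ble 3469312 i)
noncomputable def eT3382 (i : Nat) : Nat := Bool.rec (eL3386 i) (eT3381 i) (Nat.ble 3468288 i)
noncomputable def eT3383 (i : Nat) : Nat := Bool.rec (eL3389 i) (eL3390 i) (Nat.ble 3471360 i)
noncomputable def eT3384 (i : Nat) : Nat := Bool.rec (eL3391 i) (eL3392 i) (Nat.ble 3473408 i)
noncomputable def eT3385 (i : Nat) : Nat := Bool.rec (eT3383 i) (eT3384 i) (Nat.ble 3472384 i)
noncomputable def eT3386 (i : Nat) : Nat := Bool.rec (eT3382 i) (eT3385 i) (Nat.ble 3470336 i)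
noncomputable def eT3387 (i : Nat) : Nat := Bool.rec (eL3394 i) (eL3395 i) (Nat.ble 3476480 i)
noncomputable def eT3388 (i : Nat) : Nat := Bool.rec (eL3393 i) (eT3387 i) (Nat.ble 3475456 i)
noncomputable def eT3389 (i : Nat) : Nat := Bool.rec (eL3396 i) (eL3397 i) (Nat.ble 3478528 i)
noncomputable def eT3390 (i : Nat) : Nat := Bool.rec (eL3398 i) (eL3399 i) (Nat.ble 3480576 i)
noncomputable def eT3391 (i : Nat) : Nat := Bool.rec (eT3389 i) (eT3390 i) (Nat.ble 3479552 i)
noncomputable def eT3392 (i : Nat) : Nat := Bool.rec (eT3388 i) (eT3391 i) (Nat.ble 3477504 i)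
noncomputable def eT3393 (i : Nat) : Nat := Bool.rec (eT3386 i) (eT3392 i) (Nat.ble 3474432 i)
noncomputable def eT3394 (i : Nat) : Nat := Bool.rec (eT3380 i) (eT3393 i) (Nat.ble 3467264 i)
noncomputable def eT3395 (i : Nat) : Nat := Bool.rec (eL3401 i) (eL3402 i) (Nat.ble 3483648 i)
noncomputable def eT3396 (i : Nat) : Nat := Bool.rec (eL3400 i) (eT3395 i) (Nat.ble 3482624 i)
noncomputable def eT3397 (i : Nat) : Nat := Bool.rec (eL3403 i) (eL3404 i) (Nat.ble 3485696 i)
noncomputable def eT3398 (i : Nat) : Nat := Bool.rec (eL3405 i) (eL3406 i) (Nat.ble 3487744 i)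
noncomputable def eT3399 (i : Nat) : Nat := Bool.rec (eT3397 i) (eT3398 i) (Nat.ble 3486720 i)
noncomputable def eT3400 (i : Nat) : Nat := Bool.rec (eT3396 i) (eT3399 i) (Nat.ble 3484672 i)
noncomputable def eT3401 (i : Nat) : Nat := Bool.rec (eL3408 i) (eL3409 i) (Nat.ble 3490816 i)
noncomputable def eT3402 (i : Nat) : Nat := Bool.rec (eL3407 i) (eT3401 i) (Nat.ble 3489792 i)
noncomputable def eT3403 (i : Nat) : Nat := Bool.rec (eL3410 i) (eL3411 i) (Nat.ble 3492864 i)
noncomputable def eT3404 (i : Nat) : Nat := Bool.rec (eL3412 i) (eL3413 i) (Nat.ble 3494912 i)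
noncomputable def eT3405 (i : Nat) : Nat := Bool.rec (eT3403 i) (eT3404 i) (Nat.ble 3493888 i)
noncomputable def eT3406 (i : Nat) : Nat := Bool.rec (eT3402 i) (eT3405 i) (Nat.ble 3491840 i)
noncomputable def eT3407 (i : Nat) : Nat := Bool.rec (eT3400 i) (eT3406 i) (Nat.ble 3488768 i)
noncomputable def eT3408 (i : Nat) : Nat := Bool.rec (eL3415 i) (eL3416 i) (Nat.ble 3497984 i)
noncomputable def eT3409 (i : Nat) : Nat := Bool.rec (eL3414 i) (eT3408 i) (Nat.ble 3496960 i)
noncomputable def eT3410 (i : Nat) : Nat := Bool.rec (eL3417 i) (eL3418 i) (Nat.ble 3500032 i)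
noncomputable def eT3411 (i : Nat) : Nat := Bool.rec (eL3419 i) (eL3420 i) (Nat.ble 3502080 i)
noncomputable def eT3412 (i : Nat) : Nat := Bool.rec (eT3410 i) (eT3411 i) (Nat.ble 3501056 i)
noncomputable def eT3413 (i : Nat) : Nat := Bool.rec (eT3409 i) (eT3412 i) (Nat.ble 3499008 i)
noncomputable def eT3414 (i : Nat) : Nat := Bool.rec (eL3422 i) (eL3423 i) (Nat.ble 3505152 i)
noncomputable def eT3415 (i : Nat) : Nat := Bool.rec (eL3421 i) (eT3414 i) (Nat.ble 3504128 i)
noncomputable def eT3416 (i : Nat) : Nat := Bool.rec (eL3424 i) (eL3425 i) (Nat.ble 3507200 i)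
noncomputable def eT3417 (i : Nat) : Nat := Bool.rec (eL3426 i) (eL3427 i) (Nat.ble 3509248 i)
noncomputable def eT3418 (i : Nat) : Nat := Bool.rec (eT3416 i) (eT3417 i) (Nat.ble 3508224 i)
noncomputable def eT3419 (i : Nat) : Nat := Bool.rec (eT3415 i) (eT3418 i) (Nat.ble 3506176 i)
noncomputable def eT3420 (i : Nat) : Nat := Bool.rec (eT3413 i) (eT3419 i) (Nat.ble 3503104 i)
noncomputable def eT3421 (i : Nat) : Nat := Bool.rec (eT3407 i) (eT3420 i) (Nat.ble 3495936 i)
noncomputable def eT3422 (i : Nat) : Nat := Bool.rec (eT3394 i) (eT3421 i) (Nat.ble 3481600 i)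
noncomputable def eT3423 (i : Nat) : Nat := Bool.rec (eL3429 i) (eL3430 i) (Nat.ble 3512320 i)
noncomputable def eT3424 (i : Nat) : Nat := Bool.rec (eL3428 i) (eT3423 i) (Nat.ble 3511296 i)
noncomputable def eT3425 (i : Nat) : Nat := Bool.rec (eL3431 i) (eL3432 i) (Nat.ble 3514368 i)
noncomputable def eT3426 (i : Nat) : Nat := Bool.rec (eL3433 i) (eL3434 i) (Nat.ble 3516416 i)
noncomputable def eT3427 (i : Nat) : Nat := Bool.rec (eT3425 i) (eT3426 i) (Nat.ble 3515392 i)
noncomputable def eT3428 (i : Nat) : Nat := Bool.rec (eT3424 i) (eT3427 i) (Nat.ble 3513344 i)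
noncomputable def eT3429 (i : Nat) : Nat := Bool.rec (eL3436 i) (eL3437 i) (Nat.ble 3519488 i)
noncomputable def eT3430 (i : Nat) : Nat := Bool.rec (eL3435 i) (eT3429 i) (Nat.ble 3518464 i)
noncomputable def eT3431 (i : Nat) : Nat := Bool.rec (eL3438 i) (eL3439 i) (Nat.ble 3521536 i)
noncomputable def eT3432 (i : Nat) : Nat := Bool.rec (eL3440 i) (eL3441 i) (Nat.ble 3523584 i)
noncomputable def eT3433 (i : Nat) : Nat := Bool.rec (eT3431 i) (eT3432 i) (Nat.ble 3522560 i)
noncomputable def eT3434 (i : Nat) : Nat := Bool.rec (eT3430 i) (eT3433 i) (Nat.ble 3520512 i)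
noncomputable def eT3435 (i : Nat) : Nat := Bool.rec (eT3428 i) (eT3434 i) (Nat.ble 3517440 i)
noncomputable def eT3436 (i : Nat) : Nat := Bool.rec (eL3443 i) (eL3444 i) (Nat.ble 3526656 i)
noncomputable def eT3437 (i : Nat) : Nat := Bool.rec (eL3442 i) (eT3436 i) (Nat.ble 3525632 i)
noncomputable def eT3438 (i : Nat) : Nat := Bool.rec (eL3445 i) (eL3446 i) (Nat.ble 3528704 i)
noncomputable def eT3439 (i : Nat) : Nat := Bool.rec (eL3447 i) (eL3448 i) (Nat.ble 3530752 i)
noncomputable def eT3440 (i : Nat) : Nat := Bool.rec (eT3438 i) (eT3439 i) (Nat.ble 3529728 i)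
noncomputable def eT3441 (i : Nat) : Nat := Bool.rec (eT3437 i) (eT3440 i) (Nat.ble 3527680 i)
noncomputable def eT3442 (i : Nat) : Nat := Bool.rec (eL3450 i) (eL3451 i) (Nat.ble 3533824 i)
noncomputable def eT3443 (i : Nat) : Nat := Bool.rec (eL3449 i) (eT3442 i) (Nat.ble 3532800 i)
noncomputable def eT3444 (i : Nat) : Nat := Bool.rec (eL3452 i) (eL3453 i) (Nat.ble 3535872 i)
noncomputable def eT3445 (i : Nat) : Nat := Bool.rec (eL3454 i) (eL3455 i) (Nat.ble 3537920 i)
noncomputable def eT3446 (i : Nat) : Nat := Bool.rec (eT3444 i) (eT3445 i) (Nat.ble 3536896 i)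
noncomputable def eT3447 (i : Nat) : Nat := Bool.rec (eT3443 i) (eT3446 i) (Nat.ble 3534848 i)
noncomputable def eT3448 (i : Nat) : Nat := Bool.rec (eT3441 i) (eT3447 i) (Nat.ble 3531776 i)
noncomputable def eT3449 (i : Nat) : Nat := Bool.rec (eT3435 i) (eT3448 i) (Nat.ble 3524608 i)
noncomputable def eT3450 (i : Nat) : Nat := Bool.rec (eL3457 i) (eL3458 i) (Nat.ble 3540992 i)
noncomputable def eT3451 (i : Nat) : Nat := Bool.rec (eL3456 i) (eT3450 i) (Nat.ble 3539968 i)
noncomputable def eT3452 (i : Nat) : Nat := Bool.rec (eL3459 i) (eL3460 i) (Nat.ble 3543040 i)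
noncomputable def eT3453 (i : Nat) : Nat := Bool.rec (eL3461 i) (eL3462 i) (Nat.ble 3545088 i)
noncomputable def eT3454 (i : Nat) : Nat := Bool.rec (eT3452 i) (eT3453 i) (Nat.ble 3544064 i)
noncomputable def eT3455 (i : Nat) : Nat := Bool.rec (eT3451 i) (eT3454 i) (Nat.ble 3542016 i)
noncomputable def eT3456 (i : Nat) : Nat := Bool.rec (eL3464 i) (eL3465 i) (Nat.ble 3548160 i)
noncomputable def eT3457 (i : Nat) : Nat := Bool.rec (eL3463 i) (eT3456 i) (Nat.ble 3547136 i)
noncomputable def eT3458 (i : Nat) : Nat := Bool.rec (eL3466 i) (eL3467 i) (Nat.ble 3550208 i)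
noncomputable def eT3459 (i : Nat) : Nat := Bool.rec (eL3468 i) (eL3469 i) (Nat.ble 3552256 i)
noncomputable def eT3460 (i : Nat) : Nat := Bool.rec (eT3458 i) (eT3459 i) (Nat.ble 3551232 i)
noncomputable def eT3461 (i : Nat) : Nat := Bool.rec (eT3457 i) (eT3460 i) (Nat.ble 3549184 i)
noncomputable def eT3462 (i : Nat) : Nat := Bool.rec (eT3455 i) (eT3461 i) (Nat.ble 3546112 i)
noncomputable def eT3463 (i : Nat) : Nat := Bool.rec (eL3471 i) (eL3472 i) (Nat.ble 3555328 i)
noncomputable def eT3464 (i : Nat) : Nat := Bool.rec (eL3470 i) (eT3463 i) (Nat.ble 3554304 i)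
noncomputable def eT3465 (i : Nat) : Nat := Bool.rec (eL3473 i) (eL3474 i) (Nat.ble 3557376 i)
noncomputable def eT3466 (i : Nat) : Nat := Bool.rec (eL3475 i) (eL3476 i) (Nat.ble 3559424 i)
noncomputable def eT3467 (i : Nat) : Nat := Bool.rec (eT3465 i) (eT3466 i) (Nat.ble 3558400 i)
noncomputable def eT3468 (i : Nat) : Nat := Bool.rec (eT3464 i) (eT3467 i) (Nat.ble 3556352 i)
noncomputable def eT3469 (i : Nat) : Nat := Bool.rec (eL3478 i) (eL3479 i) (Nat.ble 3562496 i)
noncomputable def eT3470 (i : Nat) : Nat := Bool.rec (eL3477 i) (eT3469 i) (Nat.ble 3561472 i)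
noncomputable def eT3471 (i : Nat) : Nat := Bool.rec (eL3480 i) (eL3481 i) (Nat.ble 3564544 i)
noncomputable def eT3472 (i : Nat) : Nat := Bool.rec (eL3482 i) (eL3483 i) (Nat.ble 3566592 i)
noncomputable def eT3473 (i : Nat) : Nat := Bool.rec (eT3471 i) (eT3472 i) (Nat.ble 3565568 i)
noncomputable def eT3474 (i : Nat) : Nat := Bool.rec (eT3470 i) (eT3473 i) (Nat.ble 3563520 i)
noncomputable def eT3475 (i : Nat) : Nat := Bool.rec (eT3468 i) (eT3474 i) (Nat.ble 3560448 i)
noncomputable def eT3476 (i : Nat) : Nat := Bool.rec (eT3462 i) (eT3475 i) (Nat.ble 3553280 i)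
noncomputable def eT3477 (i : Nat) : Nat := Bool.rec (eT3449 i) (eT3476 i) (Nat.ble 3538944 i)
noncomputable def eT3478 (i : Nat) : Nat := Bool.rec (eT3422 i) (eT3477 i) (Nat.ble 3510272 i)
noncomputable def eT3479 (i : Nat) : Nat := Bool.rec (eL3485 i) (eL3486 i) (Nat.ble 3569664 i)
noncomputable def eT3480 (i : Nat) : Nat := Bool.rec (eL3484 i) (eT3479 i) (Nat.ble 3568640 i)
noncomputable def eT3481 (i : Nat) : Nat := Bool.rec (eL3487 i) (eL3488 i) (Nat.ble 3571712 i)
noncomputable def eT3482 (i : Nat) : Nat := Bool.rec (eL3489 i) (eL3490 i) (Nat.ble 3573760 i)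
noncomputable def eT3483 (i : Nat) : Nat := Bool.rec (eT3481 i) (eT3482 i) (Nat.ble 3572736 i)
noncomputable def eT3484 (i : Nat) : Nat := Bool.rec (eT3480 i) (eT3483 i) (Nat.ble 3570688 i)
noncomputable def eT3485 (i : Nat) : Nat := Bool.rec (eL3492 i) (eL3493 i) (Nat.ble 3576832 i)
noncomputable def eT3486 (i : Nat) : Nat := Bool.rec (eL3491 i) (eT3485 i) (Nat.ble 3575808 i)
noncomputable def eT3487 (i : Nat) : Nat := Bool.rec (eL3494 i) (eL3495 i) (Nat.ble 3578880 i)
noncomputable def eT3488 (i : Nat) : Nat := Bool.rec (eL3496 i) (eL3497 i) (Nat.ble 3580928 i)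
noncomputable def eT3489 (i : Nat) : Nat := Bool.rec (eT3487 i) (eT3488 i) (Nat.ble 3579904 i)
noncomputable def eT3490 (i : Nat) : Nat := Bool.rec (eT3486 i) (eT3489 i) (Nat.ble 3577856 i)
noncomputable def eT3491 (i : Nat) : Nat := Bool.rec (eT3484 i) (eT3490 i) (Nat.ble 3574784 i)
noncomputable def eT3492 (i : Nat) : Nat := Bool.rec (eL3499 i) (eL3500 i) (Nat.ble 3584000 i)
noncomputable def eT3493 (i : Nat) : Nat := Bool.rec (eL3498 i) (eT3492 i) (Nat.ble 3582976 i)
noncomputable def eT3494 (i : Nat) : Nat := Bool.rec (eL3501 i) (eL3502 i) (Nat.ble 3586048 i)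
noncomputable def eT3495 (i : Nat) : Nat := Bool.rec (eL3503 i) (eL3504 i) (Nat.ble 3588096 i)
noncomputable def eT3496 (i : Nat) : Nat := Bool.rec (eT3494 i) (eT3495 i) (Nat.ble 3587072 i)
noncomputable def eT3497 (i : Nat) : Nat := Bool.rec (eT3493 i) (eT3496 i) (Nat.ble 3585024 i)
noncomputable def eT3498 (i : Nat) : Nat := Bool.rec (eL3506 i) (eL3507 i) (Nat.ble 3591168 i)
noncomputable def eT3499 (i : Nat) : Nat := Bool.rec (eL3505 i) (eT3498 i) (Nat.ble 3590144 i)
noncomputable def eT3500 (i : Nat) : Nat := Bool.rec (eL3508 i) (eL3509 i) (Nat.ble 3593216 i)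
noncomputable def eT3501 (i : Nat) : Nat := Bool.rec (eL3510 i) (eL3511 i) (Nat.ble 3595264 i)
noncomputable def eT3502 (i : Nat) : Nat := Bool.rec (eT3500 i) (eT3501 i) (Nat.ble 3594240 i)
noncomputable def eT3503 (i : Nat) : Nat := Bool.rec (eT3499 i) (eT3502 i) (Nat.ble 3592192 i)
noncomputable def eT3504 (i : Nat) : Nat := Bool.rec (eT3497 i) (eT3503 i) (Nat.ble 3589120 i)
noncomputable def eT3505 (i : Nat) : Nat := Bool.rec (eT3491 i) (eT3504 i) (Nat.ble 3581952 i)
noncomputable def eT3506 (i : Nat) : Nat := Bool.rec (eL3513 i) (eL3514 i) (Nat.ble 3598336 i)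
noncomputable def eT3507 (i : Nat) : Nat := Bool.rec (eL3512 i) (eT3506 i) (Nat.ble 3597312 i)
noncomputable def eT3508 (i : Nat) : Nat := Bool.rec (eL3515 i) (eL3516 i) (Nat.ble 3600384 i)
noncomputable def eT3509 (i : Nat) : Nat := Bool.rec (eL3517 i) (eL3518 i) (Nat.ble 3602432 i)
noncomputable def eT3510 (i : Nat) : Nat := Bool.rec (eT3508 i) (eT3509 i) (Nat.ble 3601408 i)
noncomputable def eT3511 (i : Nat) : Nat := Bool.rec (eT3507 i) (eT3510 i) (Nat.ble 3599360 i)
noncomputable def eT3512 (i : Nat) : Nat := Bool.rec (eL3520 i) (eL3521 i) (Nat.ble 3605504 i)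
noncomputable def eT3513 (i : Nat) : Nat := Bool.rec (eL3519 i) (eT3512 i) (Nat.ble 3604480 i)
noncomputable def eT3514 (i : Nat) : Nat := Bool.rec (eL3522 i) (eL3523 i) (Nat.ble 3607552 i)
noncomputable def eT3515 (i : Nat) : Nat := Bool.rec (eL3524 i) (eL3525 i) (Nat.ble 3609600 i)
noncomputable def eT3516 (i : Nat) : Nat := Bool.rec (eT3514 i) (eT3515 i) (Nat.ble 3608576 i)
noncomputable def eT3517 (i : Nat) : Nat := Bool.rec (eT3513 i) (eT3516 i) (Nat.ble 3606528 i)
noncomputable def eT3518 (i : Nat) : Nat := Bool.rec (eT3511 i) (eT3517 i) (Nat.ble 3603456 i)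
noncomputable def eT3519 (i : Nat) : Nat := Bool.rec (eL3527 i) (eL3528 i) (Nat.ble 3612672 i)
noncomputable def eT3520 (i : Nat) : Nat := Bool.rec (eL3526 i) (eT3519 i) (Nat.ble 3611648 i)
noncomputable def eT3521 (i : Nat) : Nat := Bool.rec (eL3529 i) (eL3530 i) (Nat.ble 3614720 i)
noncomputable def eT3522 (i : Nat) : Nat := Bool.rec (eL3531 i) (eL3532 i) (Nat.ble 3616768 i)
noncomputable def eT3523 (i : Nat) : Nat := Bool.rec (eT3521 i) (eT3522 i) (Nat.ble 3615744 i)
noncomputable def eT3524 (i : Nat) : Nat := Bool.rec (eT3520 i) (eT3523 i) (Nat.ble 3613696 i)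
noncomputable def eT3525 (i : Nat) : Nat := Bool.rec (eL3534 i) (eL3535 i) (Nat.ble 3619840 i)
noncomputable def eT3526 (i : Nat) : Nat := Bool.rec (eL3533 i) (eT3525 i) (Nat.ble 3618816 i)
noncomputable def eT3527 (i : Nat) : Nat := Bool.rec (eL3536 i) (eL3537 i) (Nat.ble 3621888 i)
noncomputable def eT3528 (i : Nat) : Nat := Bool.rec (eL3538 i) (eL3539 i) (Nat.ble 3623936 i)
noncomputable def eT3529 (i : Nat) : Nat := Bool.rec (eT3527 i) (eT3528 i) (Nat.ble 3622912 i)
noncomputable def eT3530 (i : Nat) : Nat := Bool.rec (eT3526 i) (eT3529 i) (Nat.ble 3620864 i)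
noncomputable def eT3531 (i : Nat) : Nat := Bool.rec (eT3524 i) (eT3530 i) (Nat.ble 3617792 i)
noncomputable def eT3532 (i : Nat) : Nat := Bool.rec (eT3518 i) (eT3531 i) (Nat.ble 3610624 i)
noncomputable def eT3533 (i : Nat) : Nat := Bool.rec (eT3505 i) (eT3532 i) (Nat.ble 3596288 i)
noncomputable def eT3534 (i : Nat) : Nat := Bool.rec (eL3541 i) (eL3542 i) (Nat.ble 3627008 i)
noncomputable def eT3535 (i : Nat) : Nat := Bool.rec (eL3540 i) (eT3534 i) (Nat.ble 3625984 i)
noncomputable def eT3536 (i : Nat) : Nat := Bool.rec (eL3543 i) (eL3544 i) (Nat.ble 3629056 i)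
noncomputable def eT3537 (i : Nat) : Nat := Bool.rec (eL3545 i) (eL3546 i) (Nat.ble 3631104 i)
noncomputable def eT3538 (i : Nat) : Nat := Bool.rec (eT3536 i) (eT3537 i) (Nat.ble 3630080 i)
noncomputable def eT3539 (i : Nat) : Nat := Bool.rec (eT3535 i) (eT3538 i) (Nat.ble 3628032 i)
noncomputable def eT3540 (i : Nat) : Nat := Bool.rec (eL3548 i) (eL3549 i) (Nat.ble 3634176 i)
noncomputable def eT3541 (i : Nat) : Nat := Bool.rec (eL3547 i) (eT3540 i) (Nat.ble 3633152 i)
noncomputable def eT3542 (i : Nat) : Nat := Bool.rec (eL3550 i) (eL3551 i) (Nat.ble 3636224 i)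
noncomputable def eT3543 (i : Nat) : Nat := Bool.rec (eL3552 i) (eL3553 i) (Nat.ble 3638272 i)
noncomputable def eT3544 (i : Nat) : Nat := Bool.rec (eT3542 i) (eT3543 i) (Nat.ble 3637248 i)
noncomputable def eT3545 (i : Nat) : Nat := Bool.rec (eT3541 i) (eT3544 i) (Nat.ble 3635200 i)
noncomputable def eT3546 (i : Nat) : Nat := Bool.rec (eT3539 i) (eT3545 i) (Nat.ble 3632128 i)
noncomputable def eT3547 (i : Nat) : Nat := Bool.rec (eL3555 i) (eL3556 i) (Nat.ble 3641344 i)
noncomputable def eT3548 (i : Nat) : Nat := Bool.rec (eL3554 i) (eT3547 i) (Nat.ble 3640320 i)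
noncomputable def eT3549 (i : Nat) : Nat := Bool.rec (eL3557 i) (eL3558 i) (Nat.ble 3643392 i)
noncomputable def eT3550 (i : Nat) : Nat := Bool.rec (eL3559 i) (eL3560 i) (Nat.ble 3645440 i)
noncomputable def eT3551 (i : Nat) : Nat := Bool.rec (eT3549 i) (eT3550 i) (Nat.ble 3644416 i)
noncomputable def eT3552 (i : Nat) : Nat := Bool.rec (eT3548 i) (eT3551 i) (Nat.ble 3642368 i)
noncomputable def eT3553 (i : Nat) : Nat := Bool.rec (eL3562 i) (eL3563 i) (Nat.ble 3648512 i)
noncomputable def eT3554 (i : Nat) : Nat := Bool.rec (eL3561 i) (eT3553 i) (Nat.ble 3647488 i)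
noncomputable def eT3555 (i : Nat) : Nat := Bool.rec (eL3564 i) (eL3565 i) (Nat.ble 3650560 i)
noncomputable def eT3556 (i : Nat) : Nat := Bool.rec (eL3566 i) (eL3567 i) (Nat.ble 3652608 i)
noncomputable def eT3557 (i : Nat) : Nat := Bool.rec (eT3555 i) (eT3556 i) (Nat.ble 3651584 i)
noncomputable def eT3558 (i : Nat) : Nat := Bool.rec (eT3554 i) (eT3557 i) (Nat.ble 3649536 i)
noncomputable def eT3559 (i : Nat) : Nat := Bool.rec (eT3552 i) (eT3558 i) (Nat.ble 3646464 i)
noncomputable def eT3560 (i : Nat) : Nat := Bool.rec (eT3546 i) (eT3559 i) (Nat.ble 3639296 i)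
noncomputable def eT3561 (i : Nat) : Nat := Bool.rec (eL3569 i) (eL3570 i) (Nat.ble 3655680 i)
noncomputable def eT3562 (i : Nat) : Nat := Bool.rec (eL3568 i) (eT3561 i) (Nat.ble 3654656 i)
noncomputable def eT3563 (i : Nat) : Nat := Bool.rec (eL3571 i) (eL3572 i) (Nat.ble 3657728 i)
noncomputable def eT3564 (i : Nat) : Nat := Bool.rec (eL3573 i) (eL3574 i) (Nat.ble 3659776 i)
noncomputable def eT3565 (i : Nat) : Nat := Bool.rec (eT3563 i) (eT3564 i) (Nat.ble 3658752 i)
noncomputable def eT3566 (i : Nat) : Nat := Bool.rec (eT3562 i) (eT3565 i) (Nat.ble 3656704 i)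
noncomputable def eT3567 (i : Nat) : Nat := Bool.rec (eL3576 i) (eL3577 i) (Nat.ble 3662848 i)
noncomputable def eT3568 (i : Nat) : Nat := Bool.rec (eL3575 i) (eT3567 i) (Nat.ble 3661824 i)
noncomputable def eT3569 (i : Nat) : Nat := Bool.rec (eL3578 i) (eL3579 i) (Nat.ble 3664896 i)
noncomputable def eT3570 (i : Nat) : Nat := Bool.rec (eL3580 i) (eL3581 i) (Nat.ble 3666944 i)
noncomputable def eT3571 (i : Nat) : Nat := Bool.rec (eT3569 i) (eT3570 i) (Nat.ble 3665920 i)
noncomputable def eT3572 (i : Nat) : Nat := Bool.rec (eT3568 i) (eT3571 i) (Nat.ble 3663872 i)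
noncomputable def eT3573 (i : Nat) : Nat := Bool.rec (eT3566 i) (eT3572 i) (Nat.ble 3660800 i)
noncomputable def eT3574 (i : Nat) : Nat := Bool.rec (eL3583 i) (eL3584 i) (Nat.ble 3670016 i)
noncomputable def eT3575 (i : Nat) : Nat := Bool.rec (eL3582 i) (eT3574 i) (Nat.ble 3668992 i)
noncomputable def eT3576 (i : Nat) : Nat := Bool.rec (eL3585 i) (eL3586 i) (Nat.ble 3672064 i)
noncomputable def eT3577 (i : Nat) : Nat := Bool.rec (eL3587 i) (eL3588 i) (Nat.ble 3674112 i)
noncomputable def eT3578 (i : Nat) : Nat := Bool.rec (eT3576 i) (eT3577 i) (Nat.ble 3673088 i)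
noncomputable def eT3579 (i : Nat) : Nat := Bool.rec (eT3575 i) (eT3578 i) (Nat.ble 3671040 i)
noncomputable def eT3580 (i : Nat) : Nat := Bool.rec (eL3589 i) (eL3590 i) (Nat.ble 3676160 i)
noncomputable def eT3581 (i : Nat) : Nat := Bool.rec (eL3591 i) (eL3592 i) (Nat.ble 3678208 i)
noncomputable def eT3582 (i : Nat) : Nat := Bool.rec (eT3580 i) (eT3581 i) (Nat.ble 3677184 i)
noncomputable def eT3583 (i : Nat) : Nat := Bool.rec (eL3593 i) (eL3594 i) (Nat.ble 3680256 i)
noncomputable def eT3584 (i : Nat) : Nat := Bool.rec (eL3595 i) (eL3596 i) (Nat.ble 3682304 i)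
noncomputable def eT3585 (i : Nat) : Nat := Bool.rec (eT3583 i) (eT3584 i) (Nat.ble 3681280 i)
noncomputable def eT3586 (i : Nat) : Nat := Bool.rec (eT3582 i) (eT3585 i) (Nat.ble 3679232 i)
noncomputable def eT3587 (i : Nat) : Nat := Bool.rec (eT3579 i) (eT3586 i) (Nat.ble 3675136 i)
noncomputable def eT3588 (i : Nat) : Nat := Bool.rec (eT3573 i) (eT3587 i) (Nat.ble 3667968 i)
noncomputable def eT3589 (i : Nat) : Nat := Bool.rec (eT3560 i) (eT3588 i) (Nat.ble 3653632 i)
noncomputable def eT3590 (i : Nat) : Nat := Bool.rec (eT3533 i) (eT3589 i) (Nat.ble 3624960 i)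
noncomputable def eT3591 (i : Nat) : Nat := Bool.rec (eT3478 i) (eT3590 i) (Nat.ble 3567616 i)
noncomputable def eT3592 (i : Nat) : Nat := Bool.rec (eT3367 i) (eT3591 i) (Nat.ble 3452928 i)
noncomputable def eT3593 (i : Nat) : Nat := Bool.rec (eT3143 i) (eT3592 i) (Nat.ble 3222528 i)
noncomputable def eT3594 (i : Nat) : Nat := Bool.rec (eT2694 i) (eT3593 i) (Nat.ble 2761728 i)
noncomputable def eT3595 (i : Nat) : Nat := Bool.rec (eT1796 i) (eT3594 i) (Nat.ble 1841152 i)
/-- the entry of an unknown -/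
noncomputable def ent (i : Nat) : Nat := eT3595 i

end Cfsg.Agent.Lib.Helper4.F24M.U2
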