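import Cfsg.Agent.Lib.Helper4.F24M.U2.Cert
set_option autoImplicit false
set_option maxRecDepth 1000000
set_option Elab.async false
namespace Cfsg.Agent.Lib.Helper4.F24M.U2
open Cfsg.Agent.Lib.Helper4.Sparse
theorem ck_276 : chkURange D C 1130496 4096 = true := by decide +kernel
theorem ck_277 : chkURange D C 1134592 4096 = true := by decide +kernel
theorem ck_278 : chkURange D C 1138688 4096 = true := by decide +kernel
theorem ck_279 : chkURange D C 1142784 4096 = true := by decide +kernel
theorem ck_280 : chkURange D C 1146880 4096 = true := by decide +kernel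
theorem ck_281 : chkURange D C 1150976 4096 = true := by decide +kernel
theorem ck_282 : chkURange D C 1155072 4096 = true := by decide +kernel
theorem ck_283 : chkURange D C 1159168 4096 = true := by decide +kernel
theorem ck_284 : chkURange D C 1163264 4096 = true := by decide +kernel
theorem ck_285 : chkURange D C 1167360 4096 = true := by decide +kernel
theorem ck_286 : chkURange D C 1171456 4096 = true := by decide +kernel
theorem ck_287 : chkURange D C 1175552 4096 = true := by decide +kernel
theorem chkU_23 (b : ℕ) (h1 : 1130496 ≤ b) (h2 : b < 1179648) : chkU D C b = true := by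
  rcases Nat.lt_or_ge b 1134592 with g0 | g0
  · exact chkURange_spec D C 1130496 4096 ck_276 b (by omega) (by omega)
  rcases Nat.lt_or_ge b 1138688 with g1 | g1
  · exact chkURange_spec D C 1134592 4096 ck_277 b (by omega) (by omega)
  rcases Nat.lt_or_ge b 1142784 with g2 | g2
  · exact chkURange_spec D C 1138688 4096 ck_278 b (by omega) (by omega)
  rcases Nat.lt_or_ge b 1146880 with g3 | g3
  · exact chkURange_spec D C 1142784 4096 ck_279 b (by omega) (by omega)
  rcases Nat.lt_or_ge b 1150976 with g4 | g4
  · exact chkURange_spec D C 1146880 4096 ck_280 b (by omega) (by omega)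
  rcases Nat.lt_or_ge b 1155072 with g5 | g5
  · exact chkURange_spec D C 1150976 4096 ck_281 b (by omega) (by omega)
  rcases Nat.lt_or_ge b 1159168 with g6 | g6
  · exact chkURange_spec D C 1155072 4096 ck_282 b (by omega) (by omega)
  rcases Nat.lt_or_ge b 1163264 with g7 | g7
  · exact chkURange_spec D C 1159168 4096 ck_283 b (by omega) (by omega)
  rcases Nat.lt_or_ge b 1167360 with g8 | g8
  · exact chkURange_spec D C 1163264 4096 ck_284 b (by omega) (by omega)
  rcases Nat.lt_or_ge b 1171456 with g9 | g9
  · exact chkURange_spec D C 1167360 4096 ck_285 b (by omega) (by omega)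
  rcases Nat.lt_or_ge b 1175552 with g10 | g10
  · exact chkURange_spec D C 1171456 4096 ck_286 b (by omega) (by omega)
  exact chkURange_spec D C 1175552 4096 ck_287 b (by omega) (by omega)
end Cfsg.Agent.Lib.Helper4.F24M.U2
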