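import Cfsg.Agent.Lib.Helper4.F24M.U2.Cert
set_option autoImplicit false
set_option maxRecDepth 1000000
set_option Elab.async false
namespace Cfsg.Agent.Lib.Helper4.F24M.U2
open Cfsg.Agent.Lib.Helper4.Sparse
theorem ck_708 : chkURange D C 2899968 4096 = true := by decide +kernel
theorem ck_709 : chkURange D C 2904064 4096 = true := by decide +kernel
theorem ck_710 : chkURange D C 2908160 4096 = true := by decide +kernel
theorem ck_711 : chkURange D C 2912256 4096 = true := by decide +kernel
theorem ck_712 : chkURange D C 2916352 4096 = true := by decide +kernel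
theorem ck_713 : chkURange D C 2920448 4096 = true := by decide +kernel
theorem ck_714 : chkURange D C 2924544 4096 = true := by decide +kernel
theorem ck_715 : chkURange D C 2928640 4096 = true := by decide +kernel
theorem ck_716 : chkURange D C 2932736 4096 = true := by decide +kernel
theorem ck_717 : chkURange D C 2936832 4096 = true := by decide +kernel
theorem ck_718 : chkURange D C 2940928 4096 = true := by decide +kernel
theorem ck_719 : chkURange D C 2945024 4096 = true := by decide +kernel
theorem chkU_59 (b : ℕ) (h1 : 2899968 ≤ b) (h2 : b < 2949120) : chkU D C b = true := by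
  rcases Nat.lt_or_ge b 2904064 with g0 | g0
  · exact chkURange_spec D C 2899968 4096 ck_708 b (by omega) (by omega)
  rcases Nat.lt_or_ge b 2908160 with g1 | g1
  · exact chkURange_spec D C 2904064 4096 ck_709 b (by omega) (by omega)
  rcases Nat.lt_or_ge b 2912256 with g2 | g2
  · exact chkURange_spec D C 2908160 4096 ck_710 b (by omega) (by omega)
  rcases Nat.lt_or_ge b 2916352 with g3 | g3
  · exact chkURange_spec D C 2912256 4096 ck_711 b (by omega) (by omega)
  rcases Nat.lt_or_ge b 2920448 with g4 | g4
  · exact chkURange_spec D C 2916352 4096 ck_712 b (by omega) (by omega)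
  rcases Nat.lt_or_ge b 2924544 with g5 | g5
  · exact chkURange_spec D C 2920448 4096 ck_713 b (by omega) (by omega)
  rcases Nat.lt_or_ge b 2928640 with g6 | g6
  · exact chkURange_spec D C 2924544 4096 ck_714 b (by omega) (by omega)
  rcases Nat.lt_or_ge b 2932736 with g7 | g7
  · exact chkURange_spec D C 2928640 4096 ck_715 b (by omega) (by omega)
  rcases Nat.lt_or_ge b 2936832 with g8 | g8
  · exact chkURange_spec D C 2932736 4096 ck_716 b (by omega) (by omega)
  rcases Nat.lt_or_ge b 2940928 with g9 | g9
  · exact chkURange_spec D C 2936832 4096 ck_717 b (by omega) (by omega)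
  rcases Nat.lt_or_ge b 2945024 with g10 | g10
  · exact chkURange_spec D C 2940928 4096 ck_718 b (by omega) (by omega)
  exact chkURange_spec D C 2945024 4096 ck_719 b (by omega) (by omega)
end Cfsg.Agent.Lib.Helper4.F24M.U2
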